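import Cfsg.Agent.Lib.Char.SymChar.Runners

/-!
# Numbers of partitions and multipartitions
-/

set_option autoImplicit false

namespace Cfsg.Agent.SymChar

open Finset

/-- The number of partitions. -/
def P (n : ℕ) : ℕ := (Ps n).card

theorem Ps_succ (n : ℕ) :
    Ps (n + 1) = (Finset.range (n + 1)).biUnion fun i => (Ps (n - i)).image fun ν => (i + 1) ::ₘ ν := by
  ext μ
  simp only [Finset.mem_biUnion, Finset.mem_range, Finset.mem_image]
  constructor
  · intro h
    obtain ⟨hs, hpos⟩ := mem_Ps.mp h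
    obtain ⟨k, hk⟩ := Multiset.exists_mem_of_ne_zero (s := μ) (by rintro rfl; simp at hs)
    have h1 := hpos k hk
    have h2 := le_of_mem_Ps h hk
    refine ⟨k - 1, by omega, μ.erase k, ?_, ?_⟩
    · have := erase_mem_Ps h hk
      rwa [show n - (k - 1) = n + 1 - k by omega]
    · rw [show k - 1 + 1 = k by omega, Multiset.cons_erase hk]
  · rintro ⟨i, hi, ν, hν, rfl⟩
    exact cons_mem_Ps (by omega) (by omega) (by rwa [show n + 1 - (i + 1) = n - i by omega])

theorem P_small : P 0 = 1 ∧ P 1 = 1 ∧ P 2 = 2 ∧ P 3 = 3 ∧ P 4 = 5 ∧ P 5 = 7 := by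
  have h1 : Ps 1 = {{1}} := by rw [Ps_succ]; simp only [Nat.zero_sub, Ps_zero]; decide
  have h2 : Ps 2 = {{2}, {1, 1}} := by
    rw [Ps_succ]; simp [Finset.range_add_one, h1, Ps_zero]
  have h3 : Ps 3 = {{3}, {2, 1}, {1, 1, 1}} := by
    rw [Ps_succ]; simp [Finset.range_add_one, h2, h1, Ps_zero]; decide
  have h4 : Ps 4 = {{4}, {3, 1}, {2, 2}, {2, 1, 1}, {1, 1, 1, 1}} := by
    rw [Ps_succ]; simp [Finset.range_add_one, h3, h2, h1, Ps_zero]; decide
  have h5 : Ps 5 = {{5}, {4, 1}, {3, 2}, {3, 1, 1}, {2, 2, 1}, {2, 1, 1, 1}, {1, 1, 1, 1, 1}} := by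
    rw [Ps_succ]; simp [Finset.range_add_one, h4, h3, h2, h1, Ps_zero]; decide
  simp only [P, Ps_zero, h1, h2, h3, h4, h5]
  decide

theorem P_mono (n : ℕ) : P n ≤ P (n + 1) := by
  refine Finset.card_le_card_of_injOn (fun μ => 1 ::ₘ μ) (fun μ hμ => ?_) ?_
  · exact cons_mem_Ps le_rfl (by omega) (by simpa using hμ)
  · exact fun a _ b _ e => (Multiset.cons_inj_right 1).mp e

/-- Replace the least part `k` by `k - 2` ones. -/
def shrink (μ : Multiset ℕ) : Multiset ℕ :=
  if h : μ.toFinset.Nonempty then μ.erase (μ.toFinset.min' h) + Multiset.replicate (μ.toFinset.min' h - 2) 1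
  else μ

theorem P_fib (n : ℕ) : P (n + 2) ≤ P (n + 1) + P n := by
  classical
  rw [P, ← Finset.card_filter_add_card_filter_not (s := Ps (n + 2)) (fun μ => 1 ∈ μ)]
  refine Nat.add_le_add ?_ ?_
  · refine Finset.card_le_card_of_injOn (fun μ => μ.erase 1) (fun μ hμ => ?_) ?_
    · rw [Finset.mem_coe] at hμ ⊢
      obtain ⟨h1, h2⟩ := Finset.mem_filter.mp hμ
      have h3 := erase_mem_Ps h1 h2
      rwa [show n + 2 - 1 = n + 1 by omega] at h3
    · intro a ha b hb e
      simp only at e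
      rw [← Multiset.cons_erase (Finset.mem_filter.mp ha).2, e, Multiset.cons_erase (Finset.mem_filter.mp hb).2]
  · have hd : ∀ μ ∈ (Ps (n + 2)).filter (fun μ => ¬ 1 ∈ μ), ∃ k ∈ μ, 2 ≤ k ∧
        (∀ a ∈ μ, k ≤ a) ∧ shrink μ = μ.erase k + Multiset.replicate (k - 2) 1 := by
      intro μ hμ
      obtain ⟨h1, h2⟩ := Finset.mem_filter.mp hμ
      obtain ⟨hs, hpos⟩ := mem_Ps.mp h1
      have hne : μ.toFinset.Nonempty := by
        rw [Multiset.toFinset_nonempty]
        rintro rfl
        simp at hs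
      have hk := Multiset.mem_toFinset.mp (μ.toFinset.min'_mem hne)
      refine ⟨μ.toFinset.min' hne, hk, ?_, fun a ha => μ.toFinset.min'_le a (Multiset.mem_toFinset.mpr ha),
        dif_pos hne⟩
      have := hpos _ hk
      by_contra h
      exact h2 (by rwa [show μ.toFinset.min' hne = 1 by omega] at hk)
    refine Finset.card_le_card_of_injOn shrink (fun μ hμ => ?_) ?_
    · obtain ⟨k, hk, hk2, -, e⟩ := hd μ hμ
      obtain ⟨hs, hpos⟩ := mem_Ps.mp (Finset.mem_filter.mp hμ).1
      rw [e]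
      refine mem_Ps.mpr ⟨?_, fun a ha => ?_⟩
      · have := Multiset.sum_cons k (μ.erase k)
        rw [Multiset.cons_erase hk, hs] at this
        simp
        omega
      · rcases Multiset.mem_add.mp ha with h | h
        · exact hpos a (Multiset.mem_of_mem_erase h)
        · rw [Multiset.eq_of_mem_replicate h]; exact one_pos
    · intro a ha b hb e
      obtain ⟨k, hk, hk2, -, ea⟩ := hd a ha
      obtain ⟨l, hl, hl2, -, eb⟩ := hd b hb
      rw [ea, eb] at e
      have e1 := congrArg (Multiset.count 1) e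
      simp only [Multiset.count_add, Multiset.count_replicate_self,
        Multiset.count_eq_zero.mpr (fun h => (Finset.mem_filter.mp ha).2 (Multiset.mem_of_mem_erase h)),
        Multiset.count_eq_zero.mpr (fun h => (Finset.mem_filter.mp hb).2 (Multiset.mem_of_mem_erase h))] at e1
      obtain rfl : k = l := by omega
      rw [← Multiset.cons_erase hk, ← Multiset.cons_erase hl, add_right_cancel e]

theorem P_double (n : ℕ) : P (n + 1) ≤ 2 * P n := by
  rcases n with _ | n
  · obtain ⟨h0, h1, -⟩ := P_small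
    simp [h0, h1]
  · have := P_fib n
    have := P_mono n
    change P (n + 2) ≤ 2 * P (n + 1)
    omega

theorem two_mul_P_lt : ∀ k : ℕ, 2 * P (k + 5) < 2 ^ (k + 4) := by
  intro k
  induction k with
  | zero => obtain ⟨-, -, -, -, -, h⟩ := P_small; simp [h]
  | succ k ih =>
    have := P_double (k + 5)
    rw [pow_succ]
    change 2 * P (k + 5 + 1) < _
    omega

/-- The number of multipartitions with `j` components. -/
def K : ℕ → ℕ → ℕ
  | 0, w => if w = 0 then 1 else 0
  | j + 1, w => ∑ m ∈ Finset.range (w + 1), P m * K j (w - m)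

theorem K_succ (j w : ℕ) : K (j + 1) w = ∑ m ∈ Finset.range (w + 1), P m * K j (w - m) := rfl

theorem card_Conf_le_K : ∀ {j : ℕ} (c : Fin j → ℕ) (w : ℕ), (Conf c w).card ≤ K j w := by
  intro j
  induction j with
  | zero =>
    intro c w
    rcases w with _ | w
    · rw [card_Conf_zero]; simp [K]
    · exact (card_Conf_le c w).trans (by simp [K])
  | succ j ih =>
    intro c w
    rw [card_Conf_succ, K_succ]
    exact Finset.sum_le_sum fun m _ => Nat.mul_le_mul (card_Beta_le _ _) (ih _ _)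

attribute [local irreducible] P

theorem K_one (w : ℕ) : K 1 w = P w := by
  rw [K_succ, Finset.sum_eq_single w]
  · simp [K]
  · intro m hm hne
    rw [Finset.mem_range] at hm
    simp [K, show w - m ≠ 0 by omega]
  · simp

theorem K_low : ∀ j : ℕ, K j 0 = 1 ∧ K j 1 = j ∧ 2 * K j 2 = j * (j + 3) ∧
    6 * K j 3 = j * (j * j + 9 * j + 8) := by
  intro j
  induction j with
  | zero => simp [K]
  | succ j ih =>
    obtain ⟨h0, h1, h2, h3⟩ := ih
    obtain ⟨p0, p1, p2, p3, -, -⟩ := P_small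
    simp only [K_succ, Finset.sum_range_succ, Finset.sum_range_zero, p0, p1, p2, p3, h0, h1,
      Nat.sub_self, Nat.sub_zero, Nat.reduceSub]
    refine ⟨trivial, by ring, ?_, ?_⟩ <;> nlinarith

theorem K_two_succ : ∀ k : ℕ, K 2 (k + 3) ≤ 2 * K 2 (k + 2) := by
  intro k
  obtain ⟨p0, p1, p2, p3, p4, -⟩ := P_small
  rcases k with _ | k
  · obtain ⟨-, -, h2, h3⟩ := K_low 2
    show K 2 3 ≤ 2 * K 2 2
    omega
  have e : ∀ w, K 2 w = ∑ m ∈ Finset.range (w + 1), P m * P (w - m) := fun w => by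
    rw [K_succ]; simp only [K_one]
  have h4 : K 2 (k + 4) = ∑ i ∈ Finset.range (k + 3), P (i + 2) * P (k + 2 - i) + P (k + 3) + P (k + 4) := by
    rw [e, Finset.sum_range_succ', Finset.sum_range_succ']
    simp only [p0, p1, one_mul, Nat.sub_zero, zero_add]
    congr 2
    exact Finset.sum_congr rfl fun i _ => by congr 2; omega
  have h3 : K 2 (k + 3) = ∑ i ∈ Finset.range (k + 3), P (i + 1) * P (k + 2 - i) + P (k + 3) := by
    rw [e, Finset.sum_range_succ']
    simp only [p0, one_mul, Nat.sub_zero]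
    congr 1
    exact Finset.sum_congr rfl fun i _ => by congr 2; omega
  have hA : ∑ i ∈ Finset.range (k + 3), P (i + 2) * P (k + 2 - i) ≤
      ∑ i ∈ Finset.range (k + 3), P (i + 1) * P (k + 2 - i) + ∑ i ∈ Finset.range (k + 3), P i * P (k + 2 - i) := by
    rw [← Finset.sum_add_distrib]
    exact Finset.sum_le_sum fun i _ => by rw [← add_mul]; exact Nat.mul_le_mul_right _ (P_fib i)
  have hB : ∑ i ∈ Finset.range (k + 3), P i * P (k + 2 - i) + (P (k + 1) + P k) ≤
      ∑ i ∈ Finset.range (k + 3), P (i + 1) * P (k + 2 - i) := by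
    simp only [Finset.sum_range_succ' _ (k + 2), Finset.sum_range_succ' _ (k + 1), Finset.sum_range_succ' _ k,
      p0, p1, p2, p3, Nat.sub_zero, one_mul, zero_add]
    have hle : ∑ i ∈ Finset.range k, P (i + 1 + 1 + 1) * P (k + 2 - (i + 1 + 1 + 1)) ≤
        ∑ i ∈ Finset.range k, P (i + 1 + 1 + 1 + 1) * P (k + 2 - (i + 1 + 1 + 1)) :=
      Finset.sum_le_sum fun i _ => Nat.mul_le_mul_right _ (P_mono _)
    simp only [show k + 2 - 1 = k + 1 by omega, show k + 2 - (1 + 1) = k by omega]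
    omega
  have h2 : K 2 (k + 2) = ∑ i ∈ Finset.range (k + 3), P i * P (k + 2 - i) := e _
  have hP1 : P (k + 4) ≤ P (k + 3) + P (k + 2) := P_fib _
  have hP2 : P (k + 2) ≤ P (k + 1) + P k := P_fib _
  change K 2 (k + 4) ≤ 2 * K 2 (k + 3)
  omega

theorem K_growth : ∀ (c k : ℕ), K (c + 2) (k + 3) ≤ (c + 2) * K (c + 2) (k + 2) := by
  intro c
  induction c with
  | zero => exact K_two_succ
  | succ c ih =>
    intro k
    have h1 : K (c + 3) (k + 3) = ∑ i ∈ Finset.range (k + 3), P (i + 1) * K (c + 2) (k + 2 - i) + K (c + 2) (k + 3) := by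
      rw [K_succ, Finset.sum_range_succ']
      simp only [P_small.1, one_mul, Nat.sub_zero]
      congr 1
      exact Finset.sum_congr rfl fun i _ => by congr 2; omega
    have h2 : ∑ i ∈ Finset.range (k + 3), P (i + 1) * K (c + 2) (k + 2 - i) + K (c + 2) (k + 2) ≤
        2 * K (c + 3) (k + 2) := by
      rw [K_succ (c + 2), Finset.mul_sum, Finset.sum_range_succ' _ (k + 2), Finset.sum_range_succ' _ (k + 2)]
      simp only [P_small.1, P_small.2.1, one_mul, Nat.sub_zero, zero_add]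
      have : ∑ i ∈ Finset.range (k + 2), P (i + 1 + 1) * K (c + 2) (k + 2 - (i + 1)) ≤
          ∑ i ∈ Finset.range (k + 2), 2 * (P (i + 1) * K (c + 2) (k + 2 - (i + 1))) :=
        Finset.sum_le_sum fun i _ => by rw [← mul_assoc]; exact Nat.mul_le_mul_right _ (P_double _)
      omega
    have h3 : K (c + 2) (k + 2) ≤ K (c + 3) (k + 2) := by
      rw [K_succ (c + 2), Finset.sum_range_succ']
      simp [P_small.1]
    have h4 := ih k
    have h5 : (c + 1) * K (c + 2) (k + 2) ≤ (c + 1) * K (c + 3) (k + 2) := Nat.mul_le_mul_left _ h3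
    show K (c + 3) (k + 3) ≤ (c + 3) * K (c + 3) (k + 2)
    simp only [add_mul, one_mul] at h4 h5 ⊢
    omega

theorem K_sum_lt (p : ℕ) : ∀ w, (5 ≤ p ∧ 3 ≤ w) ∨ (p = 3 ∧ 4 ≤ w) → K p w + K (p - 1) w < p ^ w := by
  intro w
  induction w with
  | zero => omega
  | succ w ih =>
    intro h
    by_cases hb : (5 ≤ p ∧ 3 ≤ w) ∨ (p = 3 ∧ 4 ≤ w)
    · have h0 := ih hb
      obtain ⟨c, rfl⟩ : ∃ c, p = c + 3 := ⟨p - 3, by omega⟩
      obtain ⟨k, rfl⟩ : ∃ k, w = k + 2 := ⟨w - 2, by omega⟩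
      have g1 := K_growth (c + 1) k
      have g2 := K_growth c k
      have g3 : (c + 2) * K (c + 2) (k + 2) ≤ (c + 3) * K (c + 2) (k + 2) := Nat.mul_le_mul_right _ (by omega)
      rw [show c + 3 - 1 = c + 2 from rfl] at h0 ⊢
      rw [pow_succ', show k + 2 + 1 = k + 3 from rfl]
      calc _ ≤ (c + 3) * (K (c + 3) (k + 2) + K (c + 2) (k + 2)) := by rw [mul_add]; exact Nat.add_le_add g1 (g2.trans g3)
        _ < _ := Nat.mul_lt_mul_of_pos_left h0 (by omega)
    · rcases h with ⟨hp, hw⟩ | ⟨rfl, hw⟩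
      · obtain rfl : w = 2 := by omega
        obtain ⟨-, -, -, h1⟩ := K_low p
        obtain ⟨-, -, -, h2⟩ := K_low (p - 1)
        obtain ⟨q, rfl⟩ : ∃ q, p = q + 5 := ⟨p - 5, by omega⟩
        rw [show q + 5 - 1 = q + 4 by omega] at h2 ⊢
        show K (q + 5) 3 + K (q + 4) 3 < (q + 5) ^ 3
        nlinarith
      · obtain rfl : w = 3 := by omega
        obtain ⟨p0, p1, p2, p3, p4, -⟩ := P_small
        simp [K_succ, Finset.sum_range_succ, K, p0, p1, p2, p3, p4]

end Cfsg.Agent.SymChar
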