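import Cfsg.Agent.Lib.Char.SymChar.Cores
import Cfsg.Agent.Lib.Char.SymChar.Numbers

/-!
# Traces over the classes of a residue class of labels
-/

set_option autoImplicit false

namespace Cfsg.Agent.SymChar

open Finset

variable {N p : ℕ}

/-- The sign of a cycle partition. -/
def eps (μ : Multiset ℕ) : ℤ := (-1) ^ (μ.sum + μ.card)

theorem eps_add (a b : Multiset ℕ) : eps (a + b) = eps a * eps b := by
  rw [eps, eps, eps, ← pow_add, Multiset.sum_add, Multiset.card_add]
  congr 1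
  omega

theorem abs_eps (μ : Multiset ℕ) : |eps μ| = 1 := by simp [eps]

theorem zNat_add_disjoint (b : Multiset ℕ) : ∀ a : Multiset ℕ, (∀ k ∈ a, k ∉ b) →
    zNat (a + b) = zNat a * zNat b := by
  intro a
  induction a using Multiset.induction_on with
  | empty => intro _; simp [zNat_zero]
  | cons k a ih =>
    intro h
    rw [Multiset.cons_add, zNat_cons, zNat_cons, ih fun c hc => h c (Multiset.mem_cons_of_mem hc),
      Multiset.count_add, Multiset.count_eq_zero.mpr (h k (Multiset.mem_cons_self _ _)), add_zero]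
    ring

theorem sum_map_mul (p : ℕ) (ρ : Multiset ℕ) : (ρ.map (p * ·)).sum = p * ρ.sum := by
  simpa using Multiset.sum_map_mul_left (s := ρ) (f := fun i => i) (a := p)

theorem sum_split {A : Type*} [AddCommMonoid A] (hp : 2 ≤ p) (n : ℕ) (Φ : Multiset ℕ → A) :
    ∑ μ ∈ Ps n, Φ μ =
      ∑ m ∈ Finset.range (n / p + 1), ∑ ρ ∈ Ps m, ∑ y ∈ Regs p (n - p * m), Φ (ρ.map (p * ·) + y) := by
  classical
  have hle : ∀ m ∈ Finset.range (n / p + 1), p * m ≤ n := fun m hm =>
    le_trans (Nat.mul_le_mul_left p (Nat.lt_succ_iff.mp (Finset.mem_range.mp hm))) (Nat.mul_div_le n p)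
  simp only [Finset.sum_sigma']
  symm
  refine Finset.sum_bij (fun q _ => q.2.1.map (p * ·) + q.2.2) ?_ ?_ ?_ fun _ _ => rfl
  · rintro ⟨m, ρ, y⟩ h
    simp only [Finset.mem_sigma] at h
    obtain ⟨hm, hρ, hy⟩ := h
    obtain ⟨hy1, -⟩ := mem_Regs.mp hy
    refine mem_Ps.mpr ⟨?_, fun a ha => ?_⟩
    · rw [Multiset.sum_add, sum_map_mul, (mem_Ps.mp hρ).1, (mem_Ps.mp hy1).1]
      have := hle m hm; omega
    · rcases Multiset.mem_add.mp ha with h | h
      · obtain ⟨b, hb, rfl⟩ := Multiset.mem_map.mp h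
        exact Nat.mul_pos (by omega) ((mem_Ps.mp hρ).2 b hb)
      · exact (mem_Ps.mp hy1).2 a h
  · rintro ⟨m, ρ, y⟩ h ⟨m', ρ', y'⟩ h' e
    simp only [Finset.mem_sigma] at h h'
    have key : ∀ (ρ y : Multiset ℕ), Reg p y → sing p (ρ.map (p * ·) + y) = ρ.map (p * ·) := by
      intro ρ y hy
      rw [sing, Multiset.filter_add, Multiset.filter_eq_self.mpr, Multiset.filter_eq_nil.mpr hy, add_zero]
      intro a ha
      obtain ⟨b, -, rfl⟩ := Multiset.mem_map.mp ha
      exact dvd_mul_right p b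
    change ρ.map (p * ·) + y = ρ'.map (p * ·) + y' at e
    have e1 := congrArg (sing p) e
    rw [key _ _ (mem_Regs.mp h.2.2).2, key _ _ (mem_Regs.mp h'.2.2).2] at e1
    have e2 : ρ = ρ' := Multiset.map_injective (fun a b hab => Nat.eq_of_mul_eq_mul_left (by omega) hab) e1
    subst e2
    obtain rfl : y = y' := add_left_cancel e
    obtain rfl : m = m' := by rw [← (mem_Ps.mp h.2.1).1, ← (mem_Ps.mp h'.2.1).1]
    rfl
  · intro μ hμ
    set ρ := (sing p μ).map (· / p) with hρ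
    have e : ρ.map (p * ·) = sing p μ := by
      rw [hρ, Multiset.map_map]
      conv_rhs => rw [← Multiset.map_id (sing p μ)]
      exact Multiset.map_congr rfl fun a ha => Nat.mul_div_cancel' (Multiset.mem_filter.mp ha).2
    have h := congrArg Multiset.sum (sing_add_rest (p := p) μ)
    rw [Multiset.sum_add, (mem_Ps.mp hμ).1, ← e, sum_map_mul] at h
    refine ⟨⟨ρ.sum, ρ, μ.filter fun k => ¬ p ∣ k⟩, ?_, ?_⟩
    · simp only [Finset.mem_sigma, Finset.mem_range, mem_Regs]
      refine ⟨Nat.lt_succ_iff.mpr ((Nat.le_div_iff_mul_le (by omega)).mpr (by rw [mul_comm]; omega)),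
        mem_Ps.mpr ⟨rfl, ?_⟩, mem_Ps.mpr ⟨?_, fun a ha => (mem_Ps.mp hμ).2 a (Multiset.mem_filter.mp ha).1⟩,
        fun a ha => (Multiset.mem_filter.mp ha).2⟩
      · intro a ha
        obtain ⟨b, hb, rfl⟩ := Multiset.mem_map.mp ha
        obtain ⟨hb1, hb2⟩ := Multiset.mem_filter.mp hb
        exact Nat.div_pos (Nat.le_of_dvd ((mem_Ps.mp hμ).2 b hb1) hb2) (by omega)
      · omega
    · show ρ.map (p * ·) + _ = μ
      rw [e]
      exact sing_add_rest μ

variable {P : (Fin N → ℤ) → Prop}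

open scoped Classical in
/-- The weighted trace over the regular classes. -/
noncomputable def regTrace (P : (Fin N → ℤ) → Prop) (p n : ℕ) : ℚ :=
  ∑ y ∈ Regs p n, S P n y y / zNat y

theorem S_self_nonneg (n : ℕ) (μ : Multiset ℕ) : 0 ≤ S P n μ μ :=
  Finset.sum_nonneg fun _ _ => mul_self_nonneg _

theorem term_eq (hP : Stable p P) (hp : 2 ≤ p) {n m : ℕ} (hn : n ≤ N) (hm : p * m ≤ n)
    {ρ y : Multiset ℕ} (hρ : ρ ∈ Ps m) (hy : y ∈ Regs p (n - p * m)) :
    S P n (ρ.map (p * ·) + y) (ρ.map (p * ·) + y) / (zNat (ρ.map (p * ·) + y) : ℚ) =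
      S P (n - p * m) y y / zNat y := by
  set ν := ρ.map (p * ·) with hν
  have hν1 : ∀ k ∈ ν, p ∣ k ∧ 1 ≤ k := by
    intro k hk
    obtain ⟨b, hb, rfl⟩ := Multiset.mem_map.mp hk
    exact ⟨dvd_mul_right p b, Nat.mul_pos (by omega) ((mem_Ps.mp hρ).2 b hb)⟩
  have hs : ν.sum = p * m := by rw [hν, sum_map_mul, (mem_Ps.mp hρ).1]
  rw [S_add hP ν hν1 hn (by omega) (by rwa [hs]) (by rwa [hs]), hs,
    zNat_add_disjoint y ν fun k hk hky => (mem_Regs.mp hy).2 k hky (hν1 k hk).1]
  have : (zNat ν : ℚ) ≠ 0 := by exact_mod_cast (zNat_pos fun k hk => (hν1 k hk).2).ne'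
  push_cast
  rw [mul_div_mul_left _ _ this]

open scoped Classical in
theorem total_eq (n : ℕ) : ∑ μ ∈ Ps n, S P n μ μ / (zNat μ : ℚ) = (((Beta N n).filter P).card : ℚ) := by
  classical
  simp only [S, Finset.sum_div]
  rw [Finset.sum_comm, Finset.card_eq_sum_ones, Nat.cast_sum]
  refine Finset.sum_congr rfl fun v hv => ?_
  rw [row_orth (Finset.mem_filter.mp hv).1 (Finset.mem_filter.mp hv).1, if_pos rfl, Nat.cast_one]

theorem regTrace_eq (hP : Stable p P) (hp : 2 ≤ p) : ∀ {n : ℕ}, n ≤ N →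
    regTrace P p n = (regDim P p n : ℚ) := by
  intro n
  induction n using Nat.strong_induction_on with
  | _ n ih =>
    intro hn
    classical
    have h1 := total_eq (P := P) n
    rw [card_filter_eq hp hP hn, sum_split hp n (fun μ => S P n μ μ / (zNat μ : ℚ))] at h1
    have e : ∀ m ∈ Finset.range (n / p + 1), ∑ ρ ∈ Ps m, ∑ y ∈ Regs p (n - p * m),
        S P n (ρ.map (p * ·) + y) (ρ.map (p * ·) + y) / (zNat (ρ.map (p * ·) + y) : ℚ) =
        ((Ps m).card : ℚ) * regTrace P p (n - p * m) := by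
      intro m hm
      rw [← nsmul_eq_mul, ← Finset.sum_const]
      refine Finset.sum_congr rfl fun ρ hρ => Finset.sum_congr rfl fun y hy => term_eq hP hp hn ?_ hρ hy
      exact le_trans (Nat.mul_le_mul_left p (Nat.lt_succ_iff.mp (Finset.mem_range.mp hm))) (Nat.mul_div_le n p)
    rw [Finset.sum_congr rfl e] at h1
    push_cast at h1
    rw [Finset.sum_range_succ', Finset.sum_range_succ'] at h1
    have e2 : ∀ m ∈ Finset.range (n / p), ((Ps (m + 1)).card : ℚ) * regTrace P p (n - p * (m + 1)) =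
        ((Ps (m + 1)).card : ℚ) * regDim P p (n - p * (m + 1)) := by
      intro m hm
      rw [Finset.mem_range] at hm
      have h2 : p * (m + 1) ≤ n := le_trans (Nat.mul_le_mul_left p hm) (Nat.mul_div_le n p)
      have h3 : 0 < p * (m + 1) := Nat.mul_pos (by omega) (Nat.succ_pos m)
      rw [ih _ (by omega) (by omega)]
    rw [Finset.sum_congr rfl e2] at h1
    simp only [Ps_zero, Finset.card_singleton, Nat.cast_one, one_mul, mul_zero, Nat.sub_zero] at h1
    linarith

/-- The signed trace is bounded through the signed partition numbers. -/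
theorem signed_trace_le (hP : Stable p P) (hp : 2 ≤ p) {n : ℕ} (hn : n ≤ N) :
    ∑ μ ∈ Ps n, (eps μ : ℚ) * (S P n μ μ / zNat μ) ≤
      ∑ m ∈ Finset.range (n / p + 1),
        ((|∑ ρ ∈ Ps m, eps (ρ.map (p * ·))| : ℤ) : ℚ) * regDim P p (n - p * m) := by
  classical
  rw [sum_split hp n]
  refine Finset.sum_le_sum fun m hm => ?_
  have hpm : p * m ≤ n :=
    le_trans (Nat.mul_le_mul_left p (Nat.lt_succ_iff.mp (Finset.mem_range.mp hm))) (Nat.mul_div_le n p)
  rw [← regTrace_eq hP hp (by omega)]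
  set X : ℚ := ∑ y ∈ Regs p (n - p * m), (eps y : ℚ) * (S P (n - p * m) y y / zNat y)
  have hX : |X| ≤ regTrace P p (n - p * m) := by
    refine (Finset.abs_sum_le_sum_abs _ _).trans (Finset.sum_le_sum fun y _ => ?_)
    rw [abs_mul, ← Int.cast_abs, abs_eps, Int.cast_one, one_mul,
      abs_of_nonneg (div_nonneg (S_self_nonneg _ _) (Nat.cast_nonneg _))]
  calc _ = ((∑ ρ ∈ Ps m, eps (ρ.map (p * ·)) : ℤ) : ℚ) * X := by
        push_cast
        rw [Finset.sum_mul]
        refine Finset.sum_congr rfl fun ρ hρ => ?_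
        rw [Finset.mul_sum]
        refine Finset.sum_congr rfl fun y hy => ?_
        rw [term_eq hP hp hn hpm hρ hy, eps_add]
        push_cast
        ring
    _ ≤ |((∑ ρ ∈ Ps m, eps (ρ.map (p * ·)) : ℤ) : ℚ)| * |X| := by rw [← abs_mul]; exact le_abs_self _
    _ ≤ _ := by
        rw [← Int.cast_abs]
        exact mul_le_mul_of_nonneg_left hX (by exact_mod_cast abs_nonneg _)

theorem eps_regs_two {n : ℕ} {y : Multiset ℕ} (hy : y ∈ Regs 2 n) : eps y = 1 := by
  obtain ⟨-, h2⟩ := mem_Regs.mp hy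
  clear hy
  induction y using Multiset.induction_on with
  | empty => rfl
  | cons a y ih =>
    obtain ⟨b, hb⟩ : Odd a := Nat.not_even_iff_odd.mp fun he => h2 a (Multiset.mem_cons_self _ _) (even_iff_two_dvd.mp he)
    have e : eps ({a} + y) = eps {a} * eps y := eps_add _ _
    rw [Multiset.singleton_add, ih fun k hk => h2 k (Multiset.mem_cons_of_mem hk), mul_one] at e
    rw [e, eps]
    exact Even.neg_one_pow ⟨b + 1, by simp; omega⟩

/-- For the prime two the signed trace is exact. -/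
theorem signed_trace_two (hP : Stable 2 P) {n : ℕ} (hn : n ≤ N) :
    ∑ μ ∈ Ps n, (eps μ : ℚ) * (S P n μ μ / zNat μ) =
      ∑ m ∈ Finset.range (n / 2 + 1),
        ((∑ ρ ∈ Ps m, eps (ρ.map (2 * ·)) : ℤ) : ℚ) * regDim P 2 (n - 2 * m) := by
  classical
  rw [sum_split le_rfl n]
  refine Finset.sum_congr rfl fun m hm => ?_
  have hpm : 2 * m ≤ n :=
    le_trans (Nat.mul_le_mul_left 2 (Nat.lt_succ_iff.mp (Finset.mem_range.mp hm))) (Nat.mul_div_le n 2)
  rw [← regTrace_eq hP le_rfl (by omega)]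
  push_cast
  rw [Finset.sum_mul, regTrace]
  refine Finset.sum_congr rfl fun ρ hρ => ?_
  rw [Finset.mul_sum]
  refine Finset.sum_congr rfl fun y hy => ?_
  rw [term_eq hP le_rfl hn hpm hρ hy, eps_add, eps_regs_two hy, mul_one]

theorem eps_double (ρ : Multiset ℕ) : eps (ρ.map (2 * ·)) = (-1) ^ ρ.card := by
  rw [eps, sum_map_mul, Multiset.card_map, pow_add, pow_mul, neg_one_sq, one_pow, one_mul]

end Cfsg.Agent.SymChar
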