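import Cfsg.Agent.Lib.Char.SymChar.Blocks
import Cfsg.Agent.Lib.Char.SymChar.Trace

/-!
# The levels below a residue class and signed pairs of partitions
-/

set_option autoImplicit false

namespace Cfsg.Agent.SymChar

open Finset

variable {N n : ℕ}

theorem P_pos (n : ℕ) : 0 < P n := by
  induction n with
  | zero => rw [P_small.1]; exact one_pos
  | succ n ih => exact ih.trans_le (P_mono n)

theorem card_Conf_pos {j : ℕ} {c : Fin (j + 1) → ℕ} {t : ℕ} (h : t ≤ c 0) : 0 < (Conf c t).card := by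
  rw [card_Conf_succ]
  refine Finset.sum_pos' (fun _ _ => Nat.zero_le _) ⟨t, Finset.self_mem_range_succ t, ?_⟩
  rw [Nat.sub_self, card_Conf_zero, mul_one, card_Beta h]
  exact P_pos t

open scoped Classical in
/-- The regular dimensions below a residue class. -/
theorem regDim_level {j n w m : ℕ} {v : Fin N → ℤ} (hp : 2 ≤ j + 1) (hv : v ∈ Beta N n)
    (hN : (j + 1) * n + n ≤ N) (hw : (n : ℤ) + ∑ i, del N i = base (j + 1) (beads (j + 1) v) + (j + 1 : ℕ) * w)
    (hm : (j + 1) * m ≤ n) :
    regDim (SameRes (j + 1) v) (j + 1) (n - (j + 1) * m) =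
      if m ≤ w then (Conf (Fin.tail (beads (j + 1) v)) (w - m)).card else 0 := by
  classical
  have hP := stable_sameRes (j + 1) v
  have hn' : n - (j + 1) * m ≤ N :=
    le_trans (Nat.sub_le _ _) (le_trans (Nat.le_add_left n ((j + 1) * n)) hN)
  split_ifs with hmw
  · have hcard : 0 < ((Beta N (n - (j + 1) * m)).filter (SameRes (j + 1) v)).card := by
      rw [card_sameRes (by omega) (w := w - m)]
      · refine card_Conf_pos ?_
        have h1 := le_beads hv hN 0
        have h2 : w ≤ (j + 1) * w := Nat.le_mul_of_pos_left w (by omega)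
        have h3 := mul_weight_le hv hw
        omega
      · rw [Nat.cast_sub hm, Nat.cast_sub hmw]
        push_cast at hw ⊢
        linarith
    obtain ⟨u, hu⟩ := Finset.card_pos.mp hcard
    obtain ⟨hu1, hu2⟩ := Finset.mem_filter.mp hu
    have hres : res (j + 1) u = res (j + 1) v := hu2
    obtain ⟨w', -, hw', hreg⟩ := regDim_eq hp hu1 (le_trans (Nat.add_le_add
      (Nat.mul_le_mul_left _ (Nat.sub_le _ _)) (Nat.sub_le _ _)) hN)
    rw [beads_congr hres] at hw' hreg
    have he : SameRes (j + 1) u = SameRes (j + 1) v := by funext x; simp only [SameRes, hres]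
    rw [he] at hreg
    rw [hreg]
    rw [Nat.cast_sub hm] at hw'
    have h : ((j + 1 : ℕ) : ℤ) * ((w' : ℤ) + m) = (j + 1 : ℕ) * w := by push_cast at hw hw' ⊢; linarith
    have := mul_left_cancel₀ (by omega : ((j + 1 : ℕ) : ℤ) ≠ 0) h
    rw [show w - m = w' by omega]
  · have h := card_filter_eq (p := j + 1) hp hP hn'
    rw [Finset.card_eq_zero.mpr, eq_comm, Finset.sum_eq_zero_iff] at h
    · simpa [Ps_zero] using h 0 (by simp)
    refine Finset.eq_empty_of_forall_notMem fun u hu => hmw ?_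
    obtain ⟨hu1, hu2⟩ := Finset.mem_filter.mp hu
    obtain ⟨w', hw', -⟩ := exists_weight (p := j + 1) (by omega) hu1 hu2
    rw [Nat.cast_sub hm] at hw'
    have h : ((j + 1 : ℕ) : ℤ) * ((w' : ℤ) + m) = (j + 1 : ℕ) * w := by push_cast at hw hw' ⊢; linarith
    have := mul_left_cancel₀ (by omega : ((j + 1 : ℕ) : ℤ) ≠ 0) h
    omega

theorem card_Conf_one (c : Fin 1 → ℕ) (t : ℕ) (h : t ≤ c 0) : (Conf c t).card = P t := by
  rw [card_Conf_succ, Finset.sum_eq_single t]
  · rw [Nat.sub_self, card_Conf_zero, mul_one, card_Beta h]; rfl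
  · intro m hm hne
    rw [Finset.mem_range] at hm
    have h1 := card_Conf_le_K (Fin.tail c) (t - m)
    simp only [K, show t - m ≠ 0 by omega, if_false] at h1
    rw [Nat.le_zero.mp h1, mul_zero]
  · simp

/-- A colour at which a pair of partitions can be toggled. -/
def Bad (q : Multiset ℕ × Multiset ℕ) (k : ℕ) : Prop := Odd (q.1.count k) ∨ 0 < q.2.count k

instance (q : Multiset ℕ × Multiset ℕ) : DecidablePred (Bad q) := fun _ => by
  unfold Bad; infer_instance

/-- The colours at which a pair can be toggled. -/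
def badSet (q : Multiset ℕ × Multiset ℕ) : Finset ℕ := (q.1 + q.2).toFinset.filter (Bad q)

/-- Toggle a pair at a colour. -/
def toggle (k : ℕ) (q : Multiset ℕ × Multiset ℕ) : Multiset ℕ × Multiset ℕ :=
  if Odd (q.1.count k) then (q.1.erase k, k ::ₘ q.2) else (k ::ₘ q.1, q.2.erase k)

theorem toggle_add {k : ℕ} {q : Multiset ℕ × Multiset ℕ} (h : Bad q k) :
    (toggle k q).1 + (toggle k q).2 = q.1 + q.2 := by
  unfold toggle
  split_ifs with ho
  · have hk : k ∈ q.1 := Multiset.one_le_count_iff_mem.mp ho.pos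
    show q.1.erase k + k ::ₘ q.2 = _
    rw [Multiset.add_cons, ← Multiset.cons_add, Multiset.cons_erase hk]
  · have hk : k ∈ q.2 := Multiset.one_le_count_iff_mem.mp (h.resolve_left ho)
    show k ::ₘ q.1 + q.2.erase k = _
    rw [Multiset.cons_add, ← Multiset.add_cons, Multiset.cons_erase hk]

theorem toggle_bad {k : ℕ} {q : Multiset ℕ × Multiset ℕ} (h : Bad q k) (l : ℕ) :
    Bad (toggle k q) l ↔ Bad q l := by
  unfold toggle Bad
  by_cases hl : l = k
  · subst hl
    split_ifs with ho
    · simp only [Multiset.count_cons_self, ho, true_or, iff_true]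
      exact Or.inr (Nat.succ_pos _)
    · refine iff_of_true (Or.inl ?_) h
      rw [Multiset.count_cons_self, Nat.odd_add_one]; exact ho
  · split_ifs <;> simp [Multiset.count_cons_of_ne hl, Multiset.count_erase_of_ne hl]

theorem badSet_toggle {k : ℕ} {q : Multiset ℕ × Multiset ℕ} (h : Bad q k) :
    badSet (toggle k q) = badSet q := by
  rw [badSet, badSet, toggle_add h]
  exact Finset.filter_congr fun l _ => toggle_bad h l

theorem toggle_toggle {k : ℕ} {q : Multiset ℕ × Multiset ℕ} (h : Bad q k) :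
    toggle k (toggle k q) = q := by
  by_cases ho : Odd (q.1.count k)
  · have hk : k ∈ q.1 := Multiset.one_le_count_iff_mem.mp ho.pos
    have e : ¬ Odd ((q.1.erase k).count k) := by
      rw [Multiset.count_erase_self]
      obtain ⟨a, ha⟩ := ho
      rw [ha]; simp
    simp only [toggle, if_pos ho]
    rw [if_neg e, Multiset.cons_erase hk, Multiset.erase_cons_head]
  · have hk : k ∈ q.2 := Multiset.one_le_count_iff_mem.mp (h.resolve_left ho)
    have e : Odd ((k ::ₘ q.1).count k) := by rw [Multiset.count_cons_self, Nat.odd_add_one]; exact ho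
    simp only [toggle, if_neg ho]
    rw [if_pos e, Multiset.cons_erase hk, Multiset.erase_cons_head]

theorem sign_toggle {k : ℕ} {q : Multiset ℕ × Multiset ℕ} (h : Bad q k) :
    (-1 : ℤ) ^ q.1.card + (-1) ^ (toggle k q).1.card = 0 := by
  unfold toggle
  split_ifs with ho
  · have hk : k ∈ q.1 := Multiset.one_le_count_iff_mem.mp ho.pos
    conv_lhs => arg 1; rw [← Multiset.cons_erase hk, Multiset.card_cons, pow_succ]
    ring
  · show _ + (-1 : ℤ) ^ (k ::ₘ q.1).card = 0
    rw [Multiset.card_cons, pow_succ]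
    ring

/-- Signed pairs of partitions. -/
theorem signed_pairs_le (w : ℕ) :
    ∑ m ∈ Finset.range (w + 1), (∑ ρ ∈ Ps m, (-1 : ℤ) ^ ρ.card) * P (w - m) ≤
      ((if Even w then P (w / 2) else 0 : ℕ) : ℤ) := by
  classical
  set T := (Finset.range (w + 1)).biUnion fun m => Ps m ×ˢ Ps (w - m) with hT
  have hmemT : ∀ q, q ∈ T ↔ q.1.sum + q.2.sum = w ∧ (∀ a ∈ q.1, 0 < a) ∧ ∀ a ∈ q.2, 0 < a := by
    intro q
    simp only [hT, Finset.mem_biUnion, Finset.mem_range, Finset.mem_product, mem_Ps]
    constructor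
    · rintro ⟨m, hm, ⟨h1, h2⟩, h3, h4⟩
      exact ⟨by omega, h2, h4⟩
    · rintro ⟨h1, h2, h3⟩
      exact ⟨q.1.sum, by omega, ⟨rfl, h2⟩, by omega, h3⟩
  have hsum : ∑ m ∈ Finset.range (w + 1), (∑ ρ ∈ Ps m, (-1 : ℤ) ^ ρ.card) * P (w - m) =
      ∑ q ∈ T, (-1 : ℤ) ^ q.1.card := by
    rw [hT, Finset.sum_biUnion]
    · refine Finset.sum_congr rfl fun m _ => ?_
      rw [Finset.sum_product, Finset.sum_mul]
      refine Finset.sum_congr rfl fun ρ _ => ?_
      simp only
      rw [Finset.sum_const, nsmul_eq_mul, mul_comm]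
      rfl
    · intro m _ m' _ hne
      refine Finset.disjoint_left.mpr fun q hq hq' => hne ?_
      rw [← (mem_Ps.mp (Finset.mem_product.mp hq).1).1, (mem_Ps.mp (Finset.mem_product.mp hq').1).1]
  rw [hsum, ← Finset.sum_filter_add_sum_filter_not T (fun q => (badSet q).Nonempty)]
  have hzero : ∑ q ∈ T.filter (fun q => (badSet q).Nonempty), (-1 : ℤ) ^ q.1.card = 0 := by
    refine Finset.sum_involution (fun q hq => toggle ((badSet q).min' (Finset.mem_filter.mp hq).2) q)
      (fun q hq => ?_) (fun q hq _ heq => ?_) (fun q hq => ?_) (fun q hq => ?_)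
    · exact sign_toggle (Finset.mem_filter.mp ((badSet q).min'_mem _)).2
    · have hb := (Finset.mem_filter.mp ((badSet q).min'_mem (Finset.mem_filter.mp hq).2)).2
      have h := sign_toggle hb
      rw [heq] at h
      have := neg_one_pow_eq_or ℤ q.1.card
      omega
    · obtain ⟨h1, hne⟩ := Finset.mem_filter.mp hq
      have hb := (Finset.mem_filter.mp ((badSet q).min'_mem hne)).2
      obtain ⟨hs, hp1, hp2⟩ := (hmemT q).mp h1
      refine Finset.mem_filter.mpr ⟨(hmemT _).mpr ⟨?_, ?_⟩, by rw [badSet_toggle hb]; exact hne⟩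
      · rw [← Multiset.sum_add, toggle_add hb, Multiset.sum_add, hs]
      · have : ∀ a ∈ (toggle ((badSet q).min' hne) q).1 + (toggle ((badSet q).min' hne) q).2, 0 < a := by
          rw [toggle_add hb]
          exact fun a ha => (Multiset.mem_add.mp ha).elim (hp1 a) (hp2 a)
        exact ⟨fun a ha => this a (Multiset.mem_add.mpr (Or.inl ha)),
          fun a ha => this a (Multiset.mem_add.mpr (Or.inr ha))⟩
    · obtain ⟨h1, hne⟩ := Finset.mem_filter.mp hq
      have hb := (Finset.mem_filter.mp ((badSet q).min'_mem hne)).2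
      simp only [badSet_toggle hb]
      exact toggle_toggle hb
  rw [hzero, zero_add]
  set T0 := T.filter fun q => ¬ (badSet q).Nonempty with hT0
  have hT0' : ∀ q ∈ T0, ∃ ν : Multiset ℕ, q = (ν + ν, 0) ∧ ν.sum + ν.sum = w ∧ ∀ a ∈ ν, 0 < a := by
    intro q hq
    obtain ⟨h1, h2⟩ := Finset.mem_filter.mp hq
    obtain ⟨hs, hp1, -⟩ := (hmemT q).mp h1
    have hgood : ∀ k, ¬ Bad q k := by
      intro k hb
      refine h2 ⟨k, Finset.mem_filter.mpr ⟨Multiset.mem_toFinset.mpr (Multiset.mem_add.mpr ?_), hb⟩⟩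
      rcases hb with hb | hb
      · exact Or.inl (Multiset.one_le_count_iff_mem.mp hb.pos)
      · exact Or.inr (Multiset.one_le_count_iff_mem.mp hb)
    simp only [Bad, not_or, Nat.not_odd_iff_even, Nat.pos_iff_ne_zero, not_not] at hgood
    have hq2 : q.2 = 0 := Multiset.eq_zero_of_forall_notMem fun a ha =>
      Multiset.count_ne_zero.mpr ha (hgood a).2
    set ν := ∑ k ∈ q.1.toFinset, Multiset.replicate (q.1.count k / 2) k with hν
    have hνν : ν + ν = q.1 := by
      ext k
      rw [Multiset.count_add, hν, Multiset.count_sum', Finset.sum_eq_single k]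
      · rw [Multiset.count_replicate_self]
        obtain ⟨a, ha⟩ := (hgood k).1
        omega
      · intro l _ hl
        simp [Multiset.count_replicate, hl]
      · intro hk
        simp [Multiset.count_eq_zero.mpr (mt Multiset.mem_toFinset.mpr hk)]
    refine ⟨ν, Prod.ext hνν.symm hq2, ?_, fun a ha => hp1 a (hνν ▸ Multiset.mem_add.mpr (Or.inl ha))⟩
    rw [← Multiset.sum_add, hνν, ← hs, hq2, Multiset.sum_zero, add_zero]
  rw [Finset.sum_congr rfl (g := fun _ => (1 : ℤ)) fun q hq => ?_]
  · rw [Finset.sum_const, nsmul_eq_mul, mul_one]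
    refine Nat.cast_le.mpr ?_
    split_ifs with hw
    · refine (Finset.card_le_card (t := (Ps (w / 2)).image fun ν => (ν + ν, (0 : Multiset ℕ))) fun q hq => ?_).trans
        Finset.card_image_le
      obtain ⟨ν, rfl, h1, h2⟩ := hT0' q hq
      exact Finset.mem_image.mpr ⟨ν, mem_Ps.mpr ⟨by omega, h2⟩, rfl⟩
    · refine (Finset.card_eq_zero.mpr (Finset.eq_empty_of_forall_notMem fun q hq => hw ?_)).le
      obtain ⟨ν, -, h1, -⟩ := hT0' q hq
      exact ⟨ν.sum, h1.symm⟩
  · obtain ⟨ν, rfl, -, -⟩ := hT0' q hq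
    rw [Multiset.card_add]
    exact Even.neg_one_pow ⟨_, rfl⟩

theorem P_half_le (w : ℕ) : P (w / 2) ≤ P w :=
  monotone_nat_of_le_succ P_mono (Nat.div_le_self w 2)

end Cfsg.Agent.SymChar
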