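import Cfsg.Agent.Lib.Char.SymChar.Blocks
import Cfsg.Agent.Lib.Char.DefectLocal
import Cfsg.Agent.Lib.Char.CyclicBlockForm
import Cfsg.Agent.Lib.Perm.SectionalTwo

/-!
# Defect groups of blocks of symmetric groups and the points they move
-/

set_option autoImplicit false
set_option linter.style.haveILetI false

namespace Cfsg.Agent.SymChar

open Finset Equiv Cfsg MulAction
open scoped Nat

variable {N n p : ℕ}

theorem card_support_le_sing (hp : p.Prime) {z y : Perm (Fin n)} (hc : Commute z y)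
    (hz : ∃ k, orderOf z = p ^ k) (hy : ¬ p ∣ orderOf y) :
    z.support.card ≤ (sing p (parts (z * y))).sum := by
  classical
  obtain ⟨k, hk⟩ := hz
  set σ := z * y with hσ
  set M := orderOf y with hM
  have hM0 : Nat.Coprime M (p ^ k) := ((hp.coprime_iff_not_dvd.mpr hy).symm).pow_right k
  have hσM : σ ^ M = z ^ M := by rw [hσ, hc.mul_pow, hM, pow_orderOf_eq_one, mul_one]
  have hsub : z.support ⊆ (σ.cycleFactorsFinset.filter fun c => p ∣ c.support.card).biUnion Perm.support := by
    intro a ha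
    have hne : (σ ^ M) a ≠ a := by
      intro h
      obtain ⟨m, hm⟩ := exists_pow_eq_self_of_coprime (x := z) (n := M) (by rw [hk]; exact hM0)
      rw [hσM] at h
      refine Perm.mem_support.mp ha ?_
      rw [← hm]
      clear hm
      induction m with
      | zero => simp
      | succ m ih => rw [pow_succ, Perm.mul_apply, h, ih]
    have hmov : a ∈ σ.support := Perm.mem_support.mpr fun h => hne (Perm.pow_apply_eq_self_of_apply_eq_self h M)
    refine Finset.mem_biUnion.mpr ⟨σ.cycleOf a, Finset.mem_filter.mpr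
      ⟨Perm.cycleOf_mem_cycleFactorsFinset_iff.mpr hmov, ?_⟩,
      Perm.mem_support_cycleOf_iff.mpr ⟨Perm.SameCycle.refl _ _, hmov⟩⟩
    by_contra hnd
    refine hne ?_
    have hcyc := Perm.isCycle_cycleOf σ (Perm.mem_support.mp hmov)
    have h1 : orderOf (σ.cycleOf a) ∣ M * p ^ k := by
      rw [orderOf_dvd_iff_pow_eq_one]
      refine Equiv.ext fun b => ?_
      by_cases hb : b ∈ (σ.cycleOf a).support
      · obtain ⟨hab, -⟩ := Perm.mem_support_cycleOf_iff.mp hb
        rw [hab.cycleOf_eq, Perm.cycleOf_pow_apply_self, hσ, hc.mul_pow, mul_comm M (p ^ k), pow_mul, pow_mul,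
          ← hk, pow_orderOf_eq_one, one_pow, one_mul, ← pow_mul, mul_comm, pow_mul, hM, pow_orderOf_eq_one, one_pow]
      · rw [Perm.pow_apply_eq_self_of_apply_eq_self (Perm.notMem_support.mp hb), Perm.one_apply]
    rw [hcyc.orderOf] at h1
    have h2 : (σ.cycleOf a).support.card ∣ M :=
      (((hp.coprime_iff_not_dvd.mpr hnd).symm).pow_right k).dvd_of_dvd_mul_right h1
    rw [← hcyc.orderOf, orderOf_dvd_iff_pow_eq_one] at h2
    rw [← Perm.cycleOf_pow_apply_self, h2, Perm.one_apply]
  refine (Finset.card_le_card hsub).trans (Finset.card_biUnion_le.trans (le_of_eq ?_))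
  have h1 : (Multiset.replicate (n - σ.support.card) 1).filter (p ∣ ·) = 0 :=
    Multiset.filter_eq_nil.mpr fun a ha hd => by
      rw [Multiset.eq_of_mem_replicate ha] at hd
      exact hp.one_lt.ne' (Nat.dvd_one.mp hd)
  rw [sing, parts_eq, Multiset.filter_add, h1, add_zero, Perm.cycleType_def, Multiset.filter_map,
    Finset.sum_eq_multiset_sum, Finset.filter_val]
  rfl

variable {M : Ideal AlgInt}

/-- The elements of a defect group move at most `p * w` points. -/
theorem card_support_le {j : ℕ} (hM : IsPModular (j + 1) M) {B : Set (IrrCharacter (Perm (Fin n)))}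
    (hB : IsPBlock M B) (h : n ≤ N) {v : Fin N → ℤ} (hv : v ∈ Beta N n) (hvB : chi ⟨v, hv⟩ ∈ B) {w : ℕ}
    (hw : (n : ℤ) + ∑ i, del N i = base (j + 1) (beads (j + 1) v) + (j + 1 : ℕ) * w)
    {D : Subgroup (Perm (Fin n))} (hD : IsDefectGroup (j + 1) M B D) {z : Perm (Fin n)} (hz : z ∈ D) :
    z.support.card ≤ (j + 1) * w := by
  classical
  have hP := Char.pmod_prime hM
  obtain ⟨y, hy, hDy⟩ := (Char.isDefectGroup_iff B D).mp hD
  obtain ⟨χ, hχ, h0⟩ := Char.exists_height_zero (p := j + 1) (Char.block_nonempty hP hB)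
  have hne : (χ : Perm (Fin n) → ℂ) (z * y) ≠ 0 := fun e =>
    Char.char_unit_at_section hM hB hy hDy hz hχ h0 (e ▸ Char.memLI_zero hP)
  obtain ⟨u, hu, hχu⟩ := exists_label h χ
  have hres : res (j + 1) u = res (j + 1) v := sameRes_of_sameBlock hM h hv hu (by
    rw [← hχu]; exact (Char.mem_block_iff hP hB hvB χ).mp hχ)
  have hc : Commute z y := Subgroup.mem_centralizer_singleton_iff.mp (hDy.le hz)
  have hord : ∃ k, orderOf z = (j + 1) ^ k := by
    haveI := Fact.mk hM.1
    obtain ⟨k, hk⟩ := IsPGroup.iff_orderOf.mp hDy.isPGroup ⟨z, hz⟩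
    exact ⟨k, by rwa [Subgroup.orderOf_mk] at hk⟩
  refine (card_support_le_sing hM.1 hc hord (Char.defectClass_regular hM hB hy)).trans ?_
  set μ := parts (z * y) with hμ
  have hμn : μ ∈ Ps n := parts_mem _
  set ν := sing (j + 1) μ with hν
  set r := μ.filter (fun k => ¬ (j + 1) ∣ k) with hr
  have hsplit : ν + r = μ := sing_add_rest μ
  have hsum : ν.sum + r.sum = n := by rw [← Multiset.sum_add, hsplit, (mem_Ps.mp hμn).1]
  have hν1 : ∀ k ∈ ν, (j + 1) ∣ k ∧ 1 ≤ k := fun k hk =>
    ⟨(Multiset.mem_filter.mp hk).2, (mem_Ps.mp hμn).2 k (Multiset.mem_filter.mp hk).1⟩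
  have hrm : r ∈ Regs (j + 1) (n - ν.sum) := mem_Regs.mpr
    ⟨mem_Ps.mpr ⟨by omega, fun a ha => (mem_Ps.mp hμn).2 a (Multiset.mem_filter.mp ha).1⟩,
      fun a ha => (Multiset.mem_filter.mp ha).2⟩
  have hS : S (SameRes (j + 1) v) n μ μ ≠ 0 := by
    refine ne_of_gt (Finset.sum_pos' (fun _ _ => mul_self_nonneg _) ⟨u, Finset.mem_filter.mpr ⟨hu, hres⟩, ?_⟩)
    refine mul_self_pos.mpr (Int.cast_ne_zero.mpr fun e => hne ?_)
    rw [hχu, psi, ← hμ, e, Int.cast_zero]
  rw [← hsplit, S_add (stable_sameRes (j + 1) v) ν hν1 h (by omega) hrm hrm] at hS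
  have hS' : S (SameRes (j + 1) v) (n - ν.sum) r r ≠ 0 := right_ne_zero_of_mul hS
  rw [S] at hS'
  obtain ⟨u', hu', -⟩ := Finset.exists_ne_zero_of_sum_ne_zero hS'
  obtain ⟨hu1, hu2⟩ := Finset.mem_filter.mp hu'
  obtain ⟨w', hw', -⟩ := exists_weight (p := j + 1) (Nat.succ_pos j) hu1 hu2
  rw [Nat.cast_sub (by omega)] at hw'
  have : (ν.sum : ℤ) ≤ ((j + 1) * w : ℕ) := by
    have h0 : (0 : ℤ) ≤ ((j + 1 : ℕ) : ℤ) * w' := by positivity
    push_cast at hw hw' h0 ⊢
    linarith
  exact_mod_cast this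

/-- A `p`-group moving at most `2 p` points by each element has order at most `p ^ 2` and exponent `p`. -/
theorem small_of_moved (hp : p.Prime) (hp3 : 3 ≤ p) {D : Subgroup (Perm (Fin n))} (hD : IsPGroup p D)
    (hmv : ∀ z ∈ D, z.support.card ≤ 2 * p) :
    Nat.card D ≤ p ^ 2 ∧ (∀ z ∈ D, z ^ p = 1) ∧ ∀ a ∈ D, ∀ b ∈ D, a * b = b * a := by
  classical
  haveI := Fact.mk hp
  have hsq : 2 * p < p * p := Nat.mul_lt_mul_of_pos_right (by omega) hp.pos
  have hexp : ∀ z ∈ D, z ^ p = 1 := by
    intro z hz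
    obtain ⟨k, hk⟩ := IsPGroup.iff_orderOf.mp hD ⟨z, hz⟩
    rw [Subgroup.orderOf_mk] at hk
    rw [← orderOf_dvd_iff_pow_eq_one, ← Perm.lcm_cycleType, Multiset.lcm_dvd]
    intro a ha
    obtain ⟨i, -, rfl⟩ := (Nat.dvd_prime_pow hp).mp (hk ▸ Perm.dvd_of_mem_cycleType ha)
    have h1 : p ^ i ≤ 2 * p := by
      refine le_trans ?_ (hmv z hz)
      rw [← Perm.sum_cycleType]
      exact Multiset.le_sum_of_mem ha
    rcases i with _ | _ | i
    · exact one_dvd _
    · rw [pow_one]
    · exfalso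
      have : p ^ 2 ≤ p ^ (i + 1 + 1) := Nat.pow_le_pow_right hp.pos (by omega)
      rw [pow_two] at this
      omega
  haveI : Fintype D := Fintype.ofFinite _
  set Ω := Quotient (orbitRel D (Fin n))
  haveI : Fintype Ω := Fintype.ofFinite _
  have hburn : ∑ g : D, Fintype.card (fixedBy (Fin n) g) = Fintype.card Ω * Fintype.card D :=
    sum_card_fixedBy_eq_card_orbits_mul_card_group D (Fin n)
  have hfix : ∀ z : D, Fintype.card (fixedBy (Fin n) z) + (z : Perm (Fin n)).support.card = n := by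
    intro z
    rw [← Nat.card_eq_fintype_card, Nat.card_eq_fintype_card (α := fixedBy (Fin n) z), ← Set.toFinset_card,
      show (fixedBy (Fin n) z).toFinset = (z : Perm (Fin n)).supportᶜ by
        ext a; simp [Subgroup.smul_def, Perm.smul_def],
      add_comm, Finset.card_add_card_compl, Fintype.card_fin]
  have htot : n * Fintype.card D ≤ Fintype.card Ω * Fintype.card D + (Fintype.card D - 1) * (2 * p) := by
    have h1 : ∑ z : D, n = ∑ z : D, Fintype.card (fixedBy (Fin n) z) + ∑ z : D, (z : Perm (Fin n)).support.card := by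
      rw [← Finset.sum_add_distrib]; exact Finset.sum_congr rfl fun z _ => (hfix z).symm
    rw [Finset.sum_const, Finset.card_univ, smul_eq_mul, hburn] at h1
    have h2 : ∑ z : D, (z : Perm (Fin n)).support.card ≤ (Fintype.card D - 1) * (2 * p) := by
      rw [← Finset.add_sum_erase _ _ (Finset.mem_univ (1 : D))]
      simp only [Subgroup.coe_one, Perm.support_one, Finset.card_empty, zero_add]
      refine (Finset.sum_le_card_nsmul _ _ (2 * p) fun (z : D) _ => hmv _ z.2).trans ?_
      rw [Finset.card_erase_of_mem (Finset.mem_univ _), Finset.card_univ, smul_eq_mul]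
    rw [mul_comm n]
    omega
  have hnΩ : n < Fintype.card Ω + 2 * p := by
    by_contra hle
    have hpos : 0 < Fintype.card D := Fintype.card_pos
    have h1 := Nat.mul_le_mul_right (Fintype.card D) (not_lt.mp hle)
    rw [add_mul] at h1
    have h2 : (Fintype.card D - 1) * (2 * p) < 2 * p * Fintype.card D := by
      rw [mul_comm]; exact Nat.mul_lt_mul_of_pos_left (by omega) (by omega)
    omega
  have hsumorb : n = ∑ ω : Ω, Nat.card (orbit D ω.out) := by
    conv_lhs => rw [← Nat.card_fin n, Nat.card_congr (selfEquivSigmaOrbits D (Fin n)), Nat.card_sigma]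
  have horb : ∀ a : Fin n, ∃ k, Nat.card (orbit D a) = p ^ k := fun a => hD.card_orbit a
  have hone : ∀ ω : Ω, 1 ≤ Nat.card (orbit D ω.out) := fun ω => by
    obtain ⟨k, hk⟩ := horb ω.out
    rw [hk]; exact pow_pos hp.pos k
  have hexc : ∑ ω : Ω, (Nat.card (orbit D ω.out) - 1) < 2 * p := by
    have : ∑ ω : Ω, (Nat.card (orbit D ω.out) - 1) + ∑ ω : Ω, 1 = n := by
      rw [← Finset.sum_add_distrib]
      exact (Finset.sum_congr rfl fun ω _ => Nat.sub_add_cancel (hone ω)).trans hsumorb.symm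
    rw [Finset.sum_const, Finset.card_univ, smul_eq_mul, mul_one] at this
    omega
  set R := (Finset.univ : Finset Ω).filter fun ω => Nat.card (orbit D ω.out) ≠ 1 with hR
  have hsize : ∀ ω ∈ R, Nat.card (orbit D ω.out) = p := by
    intro ω hω
    obtain ⟨k, hk⟩ := horb ω.out
    rcases k with _ | _ | k
    · exact absurd (by simpa using hk) (Finset.mem_filter.mp hω).2
    · rw [hk, pow_one]
    · exfalso
      have h1 : Nat.card (orbit D ω.out) - 1 ≤ ∑ ω : Ω, (Nat.card (orbit D ω.out) - 1) :=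
        Finset.single_le_sum (f := fun ω : Ω => Nat.card (orbit D ω.out) - 1) (fun _ _ => Nat.zero_le _)
          (Finset.mem_univ ω)
      have h2 : p ^ 2 ≤ p ^ (k + 1 + 1) := Nat.pow_le_pow_right hp.pos (by omega)
      have h3 : 3 * p ≤ p ^ 2 := by rw [pow_two]; exact Nat.mul_le_mul_right p hp3
      omega
  have hR2 : R.card ≤ 2 := by
    by_contra hgt
    have h1 : R.card * (p - 1) ≤ ∑ ω : Ω, (Nat.card (orbit D ω.out) - 1) := by
      rw [← smul_eq_mul, ← Finset.sum_const]
      refine (le_of_eq (Finset.sum_congr rfl fun ω hω => by rw [hsize ω hω])).trans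
        (Finset.sum_le_univ_sum_of_nonneg fun _ => Nat.zero_le _)
    have h2 : 3 * (p - 1) ≤ R.card * (p - 1) := Nat.mul_le_mul_right _ (by omega)
    omega
  have hnorm : ∀ ω ∈ R, (stabilizer D ω.out).Normal := by
    intro ω hω
    refine Subgroup.normal_of_index_eq_minFac_card ?_
    rw [index_stabilizer, ← Nat.card_coe_set_eq, hsize ω hω]
    obtain ⟨k, hk⟩ := IsPGroup.iff_card.mp hD
    rcases k with _ | k
    · exfalso
      have h1 := hsize ω hω
      haveI : Subsingleton D := (Nat.card_eq_one_iff_unique.mp (by rw [hk, pow_zero])).1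
      have : Subsingleton (orbit D ω.out) :=
        ⟨fun a b => Subtype.ext (by
          obtain ⟨x, hx⟩ := a.2
          obtain ⟨y, hy⟩ := b.2
          rw [← hx, ← hy, Subsingleton.elim x y])⟩
      rw [Nat.card_of_subsingleton (⟨ω.out, mem_orbit_self _⟩ : orbit D ω.out)] at h1
      omega
    rw [hk, Nat.Prime.pow_minFac hp (Nat.succ_ne_zero k)]
  have hcard : Nat.card D ≤ p ^ 2 := by
    let ff : D → ((ω : R) → orbit D (ω : Ω).out) := fun z ω => ⟨z • (ω : Ω).out, mem_orbit _ z⟩
    have hff : Function.Injective ff := by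
      intro z z' e
      have hfix' : ∀ ω ∈ R, z⁻¹ * z' ∈ stabilizer D ω.out := fun ω hω => by
        have h1 : z • ω.out = z' • ω.out := congrArg Subtype.val (congr_fun e ⟨ω, hω⟩)
        rw [mem_stabilizer_iff, mul_smul, ← h1, inv_smul_smul]
      refine (inv_mul_eq_one.mp (Subtype.ext (Equiv.ext fun a => ?_)))
      show ((z⁻¹ * z' : D) • a) = a
      obtain ⟨x, hx⟩ : a ∈ orbit D (Quotient.mk'' a : Ω).out := by
        have h1 : (orbitRel D (Fin n)).r a (Quotient.mk'' a : Ω).out :=
          Quotient.exact (Quotient.out_eq _).symm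
        exact h1
      rw [← hx]
      by_cases hω : (Quotient.mk'' a : Ω) ∈ R
      · have h2 := (hnorm _ hω).conj_mem _ (hfix' _ hω) x⁻¹
        rw [mem_stabilizer_iff, inv_inv, mul_smul, mul_smul, inv_smul_eq_iff] at h2
        exact h2
      · have h1 : Nat.card (orbit D (Quotient.mk'' a : Ω).out) = 1 := by
          simpa [hR] using hω
        haveI := (Nat.card_eq_one_iff_unique.mp h1).1
        exact congrArg Subtype.val (Subsingleton.elim
          (⟨(z⁻¹ * z') • x • (Quotient.mk'' a : Ω).out, by rw [← mul_smul]; exact mem_orbit _ _⟩ :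
            orbit D (Quotient.mk'' a : Ω).out) ⟨x • (Quotient.mk'' a : Ω).out, mem_orbit _ _⟩)
    refine (Nat.card_le_card_of_injective ff hff).trans ?_
    rw [Nat.card_pi, Finset.prod_congr rfl (g := fun _ => p) (fun ω _ => hsize _ ω.2), Finset.prod_const,
      Finset.card_univ, Fintype.card_coe]
    exact Nat.pow_le_pow_right hp.pos hR2
  refine ⟨hcard, hexp, ?_⟩
  obtain ⟨k, hk⟩ := IsPGroup.iff_card.mp hD
  have hk2 : k ≤ 2 := (Nat.pow_le_pow_iff_right hp.one_lt).mp (hk ▸ hcard)
  intro a ha b hb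
  have key : ∀ x y : D, x * y = y * x := by
    interval_cases k
    · haveI : Subsingleton D := (Nat.card_eq_one_iff_unique.mp (by rw [hk, pow_zero])).1
      exact fun x y => Subsingleton.elim _ _
    · haveI := isCyclic_of_prime_card (α := D) (p := p) (by rw [hk, pow_one])
      letI := IsCyclic.commGroup (α := D)
      exact fun x y => mul_comm x y
    · exact IsPGroup.commutative_of_card_eq_prime_sq hk
  exact congrArg Subtype.val (key ⟨a, ha⟩ ⟨b, hb⟩)

/-- A `p`-group of sectional rank at most one is cyclic. -/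
theorem isCyclic_of_sectional_one {G : Type} [Group G] [Finite G] (hp : p.Prime) (hG : IsPGroup p G)
    (hs : SectionalPRankLE p 1 G) : IsCyclic G := by
  classical
  haveI := Fact.mk hp
  let Φ := frattini G
  have hq : PRankLE p 1 (G ⧸ Φ) := Perm.SectionalTwo.rank_le (Perm.SectionalTwo.sectional_quotient Φ hs)
  have hcomm : ∀ x y : G ⧸ Φ, x * y = y * x := by
    intro x y
    obtain ⟨x, rfl⟩ := QuotientGroup.mk'_surjective Φ x
    obtain ⟨y, rfl⟩ := QuotientGroup.mk'_surjective Φ y
    rw [← commutatorElement_eq_one_iff_mul_comm, ← map_commutatorElement]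
    exact (QuotientGroup.eq_one_iff _).2 (Solv.commutatorElement_mem_frattini hG x y)
  have hpow : ∀ x : G ⧸ Φ, x ^ p = 1 := by
    intro x
    obtain ⟨x, rfl⟩ := QuotientGroup.mk'_surjective Φ x
    rw [← map_pow]
    exact (QuotientGroup.eq_one_iff _).2 (Solv.pow_mem_frattini hG x)
  have hle : Nat.card (G ⧸ Φ) ≤ p := by
    have h := hq ⊤ ⟨⟨fun x y => Subtype.ext (hcomm x y)⟩⟩ (fun x _ => hpow x)
    rwa [Subgroup.card_top, pow_one] at h
  by_cases htriv : ∀ x : G, x ∈ Φ
  · have : (⊥ : Subgroup G) = ⊤ := frattini_nongenerating ((Subgroup.eq_top_iff' _).2 fun x =>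
      Subgroup.mem_sup_right (htriv x))
    haveI : Subsingleton G := ⟨fun a b => by
      have ha : a ∈ (⊥ : Subgroup G) := this ▸ Subgroup.mem_top a
      have hb : b ∈ (⊥ : Subgroup G) := this ▸ Subgroup.mem_top b
      rw [Subgroup.mem_bot.mp ha, Subgroup.mem_bot.mp hb]⟩
    exact isCyclic_of_subsingleton
  push Not at htriv
  obtain ⟨x, hx⟩ := htriv
  have hx1 : (x : G ⧸ Φ) ≠ 1 := fun e => hx ((QuotientGroup.eq_one_iff x).mp e)
  have hord : orderOf (x : G ⧸ Φ) = p := orderOf_eq_prime (hpow _) hx1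
  have htop : Subgroup.zpowers (x : G ⧸ Φ) = ⊤ :=
    Subgroup.eq_top_of_le_card _ (by rw [Nat.card_zpowers, hord]; exact hle)
  have hgen : Subgroup.zpowers x = ⊤ := by
    refine frattini_nongenerating ((Subgroup.eq_top_iff' _).2 fun g => ?_)
    obtain ⟨i, hi⟩ := (htop ▸ Subgroup.mem_top (g : G ⧸ Φ) : (g : G ⧸ Φ) ∈ Subgroup.zpowers (x : G ⧸ Φ))
    have h1 : (x ^ i)⁻¹ * g ∈ Φ := QuotientGroup.eq.mp (by rw [QuotientGroup.mk_zpow]; exact hi)
    rw [show g = x ^ i * ((x ^ i)⁻¹ * g) by group]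
    exact mul_mem (Subgroup.mem_sup_left (zpow_mem (Subgroup.mem_zpowers x) i)) (Subgroup.mem_sup_right h1)
  refine ⟨⟨x, fun g => ?_⟩⟩
  have h : g ∈ Subgroup.zpowers x := hgen ▸ Subgroup.mem_top g
  exact h

/-- A two-block with cyclic defect group has rank at most one. -/
theorem blockRank_le_one_of_cyclic {G : Type} [Group G] [Fintype G] (hM : IsPModular 2 M)
    {B : Set (IrrCharacter G)} (hB : IsPBlock M B) {D : Subgroup G} (hD : IsDefectGroup 2 M B D)
    (hcyc : IsCyclic D) : blockRank 2 B ≤ 1 := by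
  classical
  rcases Nat.eq_zero_or_pos (blockDefect 2 B) with h0 | h0
  · exact ((Char.defect_zero_iff_rank hM hB).1.mp h0).2.le
  haveI := Fact.mk hM.1
  have hcard : Nat.card D = 2 ^ blockDefect 2 B := Char.card_defectGroup hM hB hD
  obtain ⟨σ, hσ, hord⟩ := Char.CyclicRank.exists_gen hcyc hcard
  obtain ⟨c, hmax⟩ := Char.CyclicForm.exists_pair hM hB hD (Char.CyclicLocal.comm_of_gen hσ)
  have h1 := (Char.CyclicStructure.main hM hmax hσ h0 hord rfl).1
  rw [(Char.CyclicRank.counts hM hmax hσ h0 hord rfl).1]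
  exact Nat.le_of_dvd Nat.one_pos h1

end Cfsg.Agent.SymChar
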