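import Cfsg.Agent.Lib.Char.SymChar.AltRestrict
import Cfsg.Agent.Lib.Char.SymChar.AltLevels
import Cfsg.Agent.Lib.Char.SymChar.AltLocal
import Cfsg.Agent.Lib.Char.BlockCountBound

/-!
# The number of modular characters of blocks of alternating groups
-/

set_option autoImplicit false
set_option linter.style.haveILetI false

namespace Cfsg.Agent.SymChar

open Finset Equiv Cfsg
open scoped Nat

variable {N n p : ℕ} {M : Ideal AlgInt}

theorem signed_three :
    |∑ ρ ∈ Ps 0, eps (ρ.map (3 * ·))| = 1 ∧ |∑ ρ ∈ Ps 1, eps (ρ.map (3 * ·))| = 1 ∧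
      |∑ ρ ∈ Ps 2, eps (ρ.map (3 * ·))| = 0 ∧ |∑ ρ ∈ Ps 3, eps (ρ.map (3 * ·))| = 1 := by
  have h1 : Ps 1 = {{1}} := by rw [Ps_succ]; simp only [Nat.zero_sub, Ps_zero]; decide
  have h2 : Ps 2 = {{2}, {1, 1}} := by rw [Ps_succ]; simp [Finset.range_add_one, h1, Ps_zero]
  have h3 : Ps 3 = {{3}, {2, 1}, {1, 1, 1}} := by
    rw [Ps_succ]; simp [Finset.range_add_one, h2, h1, Ps_zero]; decide
  rw [Ps_zero, h1, h2, h3]
  refine ⟨?_, ?_, ?_, ?_⟩ <;> decide

theorem card_le_two_mul_inf [Nontrivial (Fin n)] (E : Subgroup (Perm (Fin n))) :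
    Nat.card E ≤ 2 * Nat.card (E ⊓ alternatingGroup (Fin n) : Subgroup (Perm (Fin n))) := by
  have h2 := alternatingGroup.index_eq_two (α := Fin n)
  have h1 : ((alternatingGroup (Fin n)).subgroupOf E).index ∣ 2 := h2 ▸ Subgroup.relIndex_dvd_index_of_normal _ E
  have h3 : ((alternatingGroup (Fin n)).subgroupOf E).index ≤ 2 := Nat.le_of_dvd two_pos h1
  rw [← Subgroup.index_mul_card ((alternatingGroup (Fin n)).subgroupOf E),
    ← Subgroup.inf_subgroupOf_left, Nat.card_congr (Subgroup.subgroupOfEquivOfLe (inf_le_left :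
      E ⊓ alternatingGroup (Fin n) ≤ E)).toEquiv]
  rw [Subgroup.inf_subgroupOf_left] at *
  exact Nat.mul_le_mul_right _ h3

theorem trace_eq {j w : ℕ} {v : Fin N → ℤ} (hp : 2 ≤ j + 1) (hv : v ∈ Beta N n)
    (hN : (j + 1) * n + n ≤ N)
    (hw : (n : ℤ) + ∑ i, del N i = base (j + 1) (beads (j + 1) v) + (j + 1 : ℕ) * w)
    (a : ℕ → ℚ) :
    ∑ m ∈ Finset.range (n / (j + 1) + 1), a m * regDim (SameRes (j + 1) v) (j + 1) (n - (j + 1) * m) =
      ∑ m ∈ Finset.range (w + 1), a m * (Conf (Fin.tail (beads (j + 1) v)) (w - m)).card := by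
  classical
  have hwn : w ≤ n / (j + 1) := (Nat.le_div_iff_mul_le (by omega)).mpr (by rw [mul_comm]; exact mul_weight_le hv hw)
  have hle : ∀ m ∈ Finset.range (n / (j + 1) + 1), (j + 1) * m ≤ n := fun m hm =>
    le_trans (Nat.mul_le_mul_left _ (Nat.lt_succ_iff.mp (Finset.mem_range.mp hm))) (Nat.mul_div_le n _)
  rw [← Finset.sum_subset (Finset.range_subset_range.mpr (show w + 1 ≤ n / (j + 1) + 1 by omega)) fun m hm hm' => by
    rw [regDim_level hp hv hN hw (hle m hm), if_neg (by rw [Finset.mem_range] at hm'; omega), Nat.cast_zero, mul_zero]]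
  refine Finset.sum_congr rfl fun m hm => ?_
  have hm' := Finset.mem_range.mp hm
  rw [regDim_level hp hv hN hw (hle m (Finset.mem_range.mpr (by omega))), if_pos (by omega)]

theorem blockRank_lt_of_small (hM : IsPModular p M) {G : Type} [Group G] [Fintype G]
    {b : Set (IrrCharacter G)} (hb : IsPBlock M b) {D : Subgroup G} (hD : IsDefectGroup p M b D)
    (hD1 : D ≠ ⊥) (hcard : Nat.card D ≤ p ^ 2) {t : ℕ} (ht : Nat.card D ≤ p ^ t) :
    blockRank p b < p ^ t := by
  have hp := hM.1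
  have hc := Char.card_defectGroup hM hb hD
  set d := blockDefect p b with hd
  have hd0 : d ≠ 0 := fun e => hD1 (Subgroup.card_eq_one.mp (by rw [hc, e, pow_zero]))
  have hd2 : d ≤ 2 := (Nat.pow_le_pow_iff_right hp.one_lt).mp (hc ▸ hcard)
  have h1 := Char.CentralClass.card_le_kBound hM d b hb rfl
  rw [Char.CentralClass.kBound, if_pos hd2] at h1
  have h2 := Char.blockRank_le_card (p := p) (B := b)
  have h3 : blockRank p b ≠ Nat.card b := fun e => hd0 ((Char.defect_zero_iff_rank hM hb).2.mpr e.symm)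
  rw [← hc] at h1
  omega

/-- The rank of a block of positive defect of an alternating group. -/
theorem blockRank_alt_lt (hM : IsPModular p M) {b : Set (IrrCharacter (alternatingGroup (Fin n)))}
    (hb : IsPBlock M b) {D : Subgroup (alternatingGroup (Fin n))} (hD : IsDefectGroup p M b D)
    (hD1 : D ≠ ⊥) {t : ℕ} (ht : SectionalPRankLE p t D) : blockRank p b < p ^ t := by
  classical
  have hp := hM.1
  haveI := Fact.mk hp
  have hP := Char.pmod_prime hM
  obtain ⟨gy, -, hDg⟩ := (Char.isDefectGroup_iff b D).mp hD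
  have hDp : IsPGroup p D := hDg.isPGroup
  have ht1 : 1 ≤ t := one_le_of_sectional hp hDp hD1 ht
  haveI : Nontrivial (Fin n) := by
    by_contra hno
    rw [not_nontrivial_iff_subsingleton] at hno
    refine hD1 ((Subgroup.eq_bot_iff_forall D).mpr fun x _ => Subtype.ext (Equiv.ext fun a => ?_))
    exact Subsingleton.elim _ _
  obtain ⟨j, rfl⟩ : ∃ j, p = j + 1 := ⟨p - 1, by have := hp.pos; omega⟩
  set N := (j + 1) * n + n with hN
  have hnN : n ≤ N := Nat.le_add_left _ _
  obtain ⟨θ₀, hθ₀⟩ := Char.block_nonempty hP hb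
  obtain ⟨χ₀, hχ₀⟩ := Char.exists_constituent_over (alternatingGroup (Fin n)) θ₀
  set B := blockOf M (χ₀ : Perm (Fin n) → ℂ) with hBdef
  have hB : IsPBlock M B := Char.isPBlock_blockOf M χ₀
  have hcov : Char.Covers B b := ⟨χ₀, Char.self_mem_blockOf hP χ₀, θ₀, hθ₀, hχ₀⟩
  obtain ⟨v, hv, hχv⟩ := exists_label (N := N) hnN χ₀
  have hvB : chi ⟨v, hv⟩ ∈ B := by
    rw [show chi ⟨v, hv⟩ = χ₀ from Subtype.ext hχv.symm]; exact Char.self_mem_blockOf hP χ₀
  obtain ⟨w, -, hw, hreg⟩ := regDim_eq hp.two_le hv le_rfl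
  set c := beads (j + 1) v with hc
  have hL : blockRank (j + 1) B ≤ (Conf (Fin.tail c) w).card := hreg ▸ blockRank_le_regDim hM hnN hB hv hvB
  obtain ⟨s, hls, hstr, hsγ⟩ := blockRank_le_add hM hnN hB hb hcov hv hvB
  have hsK : s ≤ K (j + 1) w := by
    refine (hsγ ((Beta N n).filter (SameRes (j + 1) v)) fun u => Finset.mem_filter).trans ?_
    rw [card_sameRes (by omega) hw]
    exact card_Conf_le_K _ _
  obtain ⟨P, hPD, hPA⟩ := Char.exists_defect_inf_eq hM hB hb hcov hD
  obtain ⟨D', E, hD', hED, hcomm, hexp, hcard⟩ := exists_elementary hM hB hv hvB hw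
  obtain ⟨g, hg⟩ := Char.defect_groups_conj hM hB hD' hPD
  set E' := E.map (MulAut.conj g).toMonoidHom with hE'
  have hE'P : E' ≤ P := hg ▸ Subgroup.map_mono hED
  set E'' := (E' ⊓ alternatingGroup (Fin n)).subgroupOf (alternatingGroup (Fin n)) with hE''
  have hmemE : ∀ x ∈ E', ∃ a ∈ E, (MulAut.conj g).toMonoidHom a = x := fun x hx => Subgroup.mem_map.mp hx
  have hE''D : E'' ≤ D := by
    intro x hx
    obtain ⟨hx1, hx2⟩ := Subgroup.mem_inf.mp (Subgroup.mem_subgroupOf.mp hx)
    have h : (x : Perm (Fin n)) ∈ P ⊓ alternatingGroup (Fin n) := Subgroup.mem_inf.mpr ⟨hE'P hx1, hx2⟩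
    rw [hPA] at h
    obtain ⟨y, hy, e⟩ := Subgroup.mem_map.mp h
    exact (Subtype.ext e : y = x) ▸ hy
  have hEt : Nat.card (E' ⊓ alternatingGroup (Fin n) : Subgroup (Perm (Fin n))) ≤ (j + 1) ^ t := by
    rw [← Nat.card_congr (Subgroup.subgroupOfEquivOfLe
      (inf_le_right : E' ⊓ alternatingGroup (Fin n) ≤ alternatingGroup (Fin n))).toEquiv]
    refine card_le_of_sectional ht hE''D (fun a ha b hb => Subtype.ext ?_) (fun a ha => Subtype.ext ?_)
    · obtain ⟨a', ha', e1⟩ := hmemE _ (Subgroup.mem_inf.mp (Subgroup.mem_subgroupOf.mp ha)).1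
      obtain ⟨b', hb', e2⟩ := hmemE _ (Subgroup.mem_inf.mp (Subgroup.mem_subgroupOf.mp hb)).1
      rw [Subgroup.coe_mul, Subgroup.coe_mul, ← e1, ← e2, ← map_mul, ← map_mul, hcomm a' ha' b' hb']
    · obtain ⟨a', ha', e1⟩ := hmemE _ (Subgroup.mem_inf.mp (Subgroup.mem_subgroupOf.mp ha)).1
      rw [SubmonoidClass.coe_pow, ← e1, ← map_pow, hexp a' ha', map_one, Subgroup.coe_one]
  have hE'card : (j + 1) ^ w ≤ Nat.card E' := by
    rw [hE', Subgroup.card_map_of_injective (MulEquiv.injective _)]; exact hcard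
  rcases Nat.lt_or_ge (j + 1) 3 with hp2 | hp3
  · -- the prime two
    obtain rfl : j = 1 := by have := hp.two_le; omega
    rcases Nat.lt_or_ge t 2 with ht2 | ht2
    · obtain rfl : t = 1 := by omega
      have h := blockRank_le_one_of_cyclic hM hb hD (isCyclic_of_sectional_one hp hDp ht)
      calc blockRank 2 b ≤ 1 := h
        _ < 2 ^ 1 := by norm_num
    have hs2 : s ≤ if Even w then SymChar.P (w / 2) else 0 := by
      have h : (s : ℚ) = ((∑ m ∈ Finset.range (w + 1),
          (∑ ρ ∈ Ps m, (-1 : ℤ) ^ ρ.card) * SymChar.P (w - m) : ℤ) : ℚ) := by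
        rw [hstr, signed_trace_two (stable_sameRes 2 v) hnN]
        rw [trace_eq (j := 1) le_rfl hv le_rfl hw]
        push_cast
        refine Finset.sum_congr rfl fun m hm => ?_
        rw [card_Conf_one]
        · simp only [eps_double]
          push_cast
          rfl
        · have h1 := le_beads hv (p := 1 + 1) le_rfl (Fin.succ 0)
          have h2 := mul_weight_le (j := 1) hv hw
          show w - m ≤ beads (1 + 1) v (Fin.succ 0)
          omega
      have h' : (s : ℤ) = ∑ m ∈ Finset.range (w + 1),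
          (∑ ρ ∈ Ps m, (-1 : ℤ) ^ ρ.card) * SymChar.P (w - m) := by exact_mod_cast h
      exact Int.ofNat_le.mp (h'.le.trans (signed_pairs_le w))
    have hL2 : blockRank (1 + 1) B ≤ SymChar.P w := hL.trans ((card_Conf_le_K _ _).trans (K_one w).le)
    have hwt : 2 ^ w ≤ 2 * 2 ^ t := hE'card.trans ((card_le_two_mul_inf E').trans (Nat.mul_le_mul_left 2 hEt))
    have ht4 : 2 ^ 2 ≤ 2 ^ t := Nat.pow_le_pow_right two_pos ht2
    obtain ⟨p0, p1, p2, p3, p4, -⟩ := P_small
    have hlt : SymChar.P w + (if Even w then SymChar.P (w / 2) else 0) < 2 ^ t := by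
      rcases Nat.lt_or_ge w 5 with hw5 | hw5
      · interval_cases w <;> simp only [p0, p1, p2, p3, p4, Nat.reduceDiv] <;> norm_num [p0, p1, p2] at * <;> omega
      · obtain ⟨k, rfl⟩ : ∃ k, w = k + 5 := ⟨w - 5, by omega⟩
        have h1 := two_mul_P_lt k
        have h2 : (if Even (k + 5) then SymChar.P ((k + 5) / 2) else 0) ≤ SymChar.P (k + 5) := by
          split_ifs
          · exact P_half_le _
          · exact Nat.zero_le _
        rw [pow_succ] at hwt
        omega
    exact lt_of_le_of_lt (hls.trans (Nat.add_le_add hL2 hs2)) hlt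
  · -- odd primes
    have hodd : ¬ 2 ∣ j + 1 := fun h => by
      have := (Nat.prime_dvd_prime_iff_eq Nat.prime_two hp).mp h
      omega
    rcases Nat.lt_or_ge w 3 with hw3 | hw3
    · -- small weights
      have hmv : ∀ z ∈ P, z.support.card ≤ 2 * (j + 1) := fun z hz => by
        refine (card_support_le hM hB hnN hv hvB hw hPD hz).trans ?_
        rw [mul_comm 2]
        exact Nat.mul_le_mul_left _ (by omega)
      obtain ⟨gP, -, hPg⟩ := (Char.isDefectGroup_iff B P).mp hPD
      obtain ⟨hPc, hPe, hPcomm⟩ := small_of_moved hp hp3 hPg.isPGroup hmv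
      have hDP : D.map (alternatingGroup (Fin n)).subtype ≤ P := hPA ▸ inf_le_left
      refine blockRank_lt_of_small hM hb hD hD1 ?_ ?_
      · rw [← Subgroup.card_map_of_injective (alternatingGroup (Fin n)).subtype_injective]
        exact (Nat.le_of_dvd Nat.card_pos (Subgroup.card_dvd_of_le hDP)).trans hPc
      · refine card_le_of_sectional ht le_rfl (fun a ha b hb => Subtype.ext ?_) (fun a ha => Subtype.ext ?_)
        · exact hPcomm _ (hDP (Subgroup.mem_map_of_mem _ ha)) _ (hDP (Subgroup.mem_map_of_mem _ hb))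
        · exact hPe _ (hDP (Subgroup.mem_map_of_mem _ ha))
    have hE'A : E' ≤ alternatingGroup (Fin n) := by
      intro x hx
      obtain ⟨a, ha, rfl⟩ := hmemE x hx
      rw [Perm.mem_alternatingGroup]
      have h1 : Perm.sign a ^ (j + 1) = 1 := by rw [← map_pow, hexp a ha, map_one]
      have h2 : Perm.sign a = 1 := by
        rcases Int.units_eq_one_or (Perm.sign a) with h | h
        · exact h
        · rw [h, Odd.neg_one_pow (Nat.not_even_iff_odd.mp fun he => hodd (even_iff_two_dvd.mp he))] at h1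
          exact absurd h1 (by decide)
      show Perm.sign (g * a * g⁻¹) = 1
      rw [map_mul, map_mul, h2, mul_one, map_inv, mul_inv_cancel]
    rw [inf_eq_left.mpr hE'A] at hEt
    have hwt : (j + 1) ^ w ≤ (j + 1) ^ t := hE'card.trans hEt
    have hLK : blockRank (j + 1) B ≤ K j w := hL.trans (card_Conf_le_K _ _)
    by_cases hbig : (5 ≤ j + 1 ∧ 3 ≤ w) ∨ (j + 1 = 3 ∧ 4 ≤ w)
    · have h := K_sum_lt (j + 1) w hbig
      rw [Nat.add_sub_cancel] at h
      omega
    · obtain rfl : j = 2 := by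
        have : j + 1 ≠ 4 := fun h => hodd (h ▸ ⟨2, rfl⟩)
        omega
      obtain rfl : w = 3 := by omega
      obtain ⟨e0, e1, e2, e3⟩ := signed_three
      obtain ⟨k0, k1, k2, k3⟩ := K_low 2
      have hs : (s : ℚ) ≤ ((16 : ℕ) : ℚ) := by
        rw [hstr]
        refine (signed_trace_le (stable_sameRes 3 v) hp.two_le hnN).trans ?_
        rw [trace_eq (j := 2) (by norm_num) hv le_rfl hw]
        simp only [Finset.sum_range_succ, Finset.sum_range_zero, zero_add]
        rw [e0, e1, e2, e3]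
        have b : ∀ m i : ℕ, K 2 m = i → ((Conf (Fin.tail c) m).card : ℚ) ≤ i := fun m i h => by
          exact_mod_cast h ▸ card_Conf_le_K (Fin.tail c) m
        have b3 := b 3 10 (by omega)
        have b2 := b 2 5 (by omega)
        have b0 := b 0 1 k0
        simp only [Nat.reduceSub, Nat.sub_self, Nat.sub_zero]
        push_cast at b3 b2 b0 ⊢
        linarith
      have hs' : s ≤ 16 := by exact_mod_cast hs
      calc blockRank (2 + 1) b ≤ 10 + 16 := by omega
        _ < (2 + 1) ^ 3 := by norm_num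
        _ ≤ (2 + 1) ^ t := hwt

end Cfsg.Agent.SymChar
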