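import Cfsg.Agent.Lib.Char.SymChar.Blocks
import Cfsg.Agent.Lib.Char.SymChar.Trace
import Cfsg.Agent.Lib.Char.CoverDefect
import Cfsg.Agent.Lib.Char.AbelianTIDegree

/-!
# Restriction of the symmetric group characters to the alternating group
-/

set_option autoImplicit false

namespace Cfsg.Agent.SymChar

open Finset Equiv Cfsg
open scoped Nat ComplexConjugate

variable {N n p : ℕ}

theorem eps_replicate_one (k : ℕ) : eps (Multiset.replicate k 1) = 1 := by
  rw [eps, Multiset.sum_replicate, Multiset.card_replicate, smul_eq_mul, mul_one]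
  exact Even.neg_one_pow ⟨k, rfl⟩

theorem sign_eq_eps (g : Perm (Fin n)) : ((Perm.sign g : ℤˣ) : ℤ) = eps (parts g) := by
  rw [Perm.sign_of_cycleType, parts_eq, eps_add, eps_replicate_one, mul_one, eps,
    Units.val_pow_eq_pow_val, Units.val_neg, Units.val_one]

theorem eps_eq (μ : Multiset ℕ) : eps μ = 1 ∨ eps μ = -1 := neg_one_pow_eq_or ℤ _

/-- The excess of the norm of the restricted character of a label. -/
noncomputable def dlt (n : ℕ) (v : Fin N → ℤ) : ℚ :=
  ∑ μ ∈ Ps n, (eps μ : ℚ) * ((F μ v : ℚ) * F μ v / zNat μ)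

theorem dlt_le_one {v : Fin N → ℤ} (hv : v ∈ Beta N n) : dlt n v ≤ 1 := by
  have h := row_orth hv hv
  rw [if_pos rfl] at h
  rw [dlt, ← h]
  refine Finset.sum_le_sum fun μ _ => ?_
  have h0 : (0 : ℚ) ≤ (F μ v : ℚ) * F μ v / zNat μ :=
    div_nonneg (mul_self_nonneg _) (Nat.cast_nonneg _)
  rcases eps_eq μ with e | e <;> rw [e] <;> push_cast <;> linarith

theorem classInner_res [Nontrivial (Fin n)] {v : Fin N → ℤ} (hv : v ∈ Beta N n) :
    classInner (fun g : (alternatingGroup (Fin n)) => psi v (g : Perm (Fin n))) (fun g : (alternatingGroup (Fin n)) => psi v (g : Perm (Fin n))) =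
      ((1 + dlt n v : ℚ) : ℂ) := by
  classical
  set Φ : Multiset ℕ → ℚ := fun μ => if eps μ = 1 then (F μ v : ℚ) * F μ v else 0 with hΦ
  have hcard : (2 : ℚ) * Nat.card (alternatingGroup (Fin n)) = n ! := by
    have h := two_mul_card_alternatingGroup (α := Fin n)
    rw [Fintype.card_perm, Fintype.card_fin] at h
    rw [Nat.card_eq_fintype_card]
    exact_mod_cast h
  have hnf : (n ! : ℚ) ≠ 0 := Nat.cast_ne_zero.mpr (Nat.factorial_pos n).ne'
  have h2 : 2 * ∑ μ ∈ Ps n, Φ μ / (zNat μ : ℚ) = 1 + dlt n v := by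
    have h := row_orth hv hv
    rw [if_pos rfl] at h
    rw [Finset.mul_sum, dlt, ← h, ← Finset.sum_add_distrib]
    refine Finset.sum_congr rfl fun μ _ => ?_
    rcases eps_eq μ with e | e
    · simp only [hΦ, if_pos e, e]; push_cast; ring
    · simp only [hΦ, e]; norm_num
  have h1 : ∑ g : (alternatingGroup (Fin n)), ((F (parts (g : Perm (Fin n))) v : ℚ) * F (parts (g : Perm (Fin n))) v) =
      (n ! : ℚ) * ∑ μ ∈ Ps n, Φ μ / (zNat μ : ℚ) := by
    rw [← sum_parts Φ]
    simp only [hΦ, ← sign_eq_eps]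
    rw [← Finset.sum_filter]
    refine (Finset.sum_subtype (Finset.univ.filter fun g : Perm (Fin n) => ((Perm.sign g : ℤˣ) : ℤ) = 1)
      (fun g => ?_) (fun g : Perm (Fin n) => ((F (parts g) v : ℚ) * F (parts g) v))).symm
    rw [Finset.mem_filter, Perm.mem_alternatingGroup, Units.val_eq_one]
    exact ⟨fun h => h.2, fun h => ⟨Finset.mem_univ _, h⟩⟩
  have h3 : (Nat.card (alternatingGroup (Fin n)) : ℚ)⁻¹ * ∑ g : (alternatingGroup (Fin n)), ((F (parts (g : Perm (Fin n))) v : ℚ) * F (parts (g : Perm (Fin n))) v) =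
      1 + dlt n v := by
    rw [h1, ← h2, ← hcard]
    have : (Nat.card (alternatingGroup (Fin n)) : ℚ) ≠ 0 := fun h => hnf (by rw [← hcard, h, mul_zero])
    field_simp
  rw [← h3]
  simp only [classInner, psi, map_intCast]
  push_cast
  rfl

theorem isCharacter_res {v : Fin N → ℤ} (hv : v ∈ Beta N n) :
    IsCharacter (alternatingGroup (Fin n)) (fun g : (alternatingGroup (Fin n)) => psi v (g : Perm (Fin n))) :=
  Char.isCharacter_comp (alternatingGroup (Fin n)).subtype (Char.irr_isCharacter (isIrrCharacter_psi hv))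

open scoped Classical in
/-- The constituents of the restriction. -/
noncomputable def constit (n : ℕ) (v : Fin N → ℤ) : Finset (IrrCharacter (alternatingGroup (Fin n))) :=
  Finset.univ.filter fun θ => classInner (fun g : (alternatingGroup (Fin n)) => psi v (g : Perm (Fin n))) (θ : (alternatingGroup (Fin n)) → ℂ) ≠ 0

theorem constit_spec [Nontrivial (Fin n)] {v : Fin N → ℤ} (hv : v ∈ Beta N n) :
    (fun g : (alternatingGroup (Fin n)) => psi v (g : Perm (Fin n))) = ∑ θ ∈ constit n v, (θ : (alternatingGroup (Fin n)) → ℂ) ∧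
      ((constit n v).card : ℚ) = 1 + dlt n v ∧ 1 ≤ (constit n v).card := by
  classical
  obtain ⟨m, hm⟩ := Char.exists_decomposition (isCharacter_res hv)
  have hnorm := Char.AbTI.classInner_self_decomp m hm
  rw [classInner_res hv] at hnorm
  have hnorm' : (1 + dlt n v : ℚ) = ((∑ ψ, m ψ * m ψ : ℕ) : ℚ) := by exact_mod_cast hnorm
  have hle : ∑ ψ, m ψ * m ψ ≤ 2 := by
    have : ((∑ ψ, m ψ * m ψ : ℕ) : ℚ) ≤ (2 : ℕ) := by
      rw [← hnorm']; have := dlt_le_one hv; push_cast; linarith
    exact_mod_cast this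
  have hm1 : ∀ ψ, m ψ ≤ 1 := by
    intro ψ
    have h1 : m ψ * m ψ ≤ ∑ ψ, m ψ * m ψ :=
      Finset.single_le_sum (f := fun ψ => m ψ * m ψ) (fun _ _ => Nat.zero_le _) (Finset.mem_univ ψ)
    by_contra hlt
    have h2 : 2 * 2 ≤ m ψ * m ψ := Nat.mul_le_mul (by omega) (by omega)
    omega
  have hmem : ∀ θ, θ ∈ constit n v ↔ m θ = 1 := by
    intro θ
    rw [constit, Finset.mem_filter, Char.decomposition_coeff m hm θ, Nat.cast_ne_zero]
    have := hm1 θ
    exact ⟨fun h => by omega, fun h => ⟨Finset.mem_univ _, by omega⟩⟩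
  have hz : ∀ θ, θ ∉ constit n v → m θ = 0 := fun θ h => by
    have := hm1 θ
    have h' := mt (hmem θ).mpr h
    omega
  have hexp : (fun g : (alternatingGroup (Fin n)) => psi v (g : Perm (Fin n))) = ∑ θ ∈ constit n v, (θ : (alternatingGroup (Fin n)) → ℂ) := by
    rw [hm, ← Finset.sum_subset (Finset.subset_univ (constit n v)) fun θ _ h => by rw [hz θ h, zero_smul]]
    exact Finset.sum_congr rfl fun θ h => by rw [(hmem θ).mp h, one_smul]
  have hcard : ∑ ψ, m ψ * m ψ = (constit n v).card := by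
    rw [← Finset.sum_subset (Finset.subset_univ (constit n v)) fun θ _ h => by rw [hz θ h, zero_mul],
      Finset.sum_congr rfl (g := fun _ => 1) fun θ h => by rw [(hmem θ).mp h, mul_one],
      Finset.card_eq_sum_ones]
  refine ⟨hexp, by rw [hnorm', hcard], ?_⟩
  by_contra h0
  rw [Finset.card_eq_zero.mp (show (constit n v).card = 0 by omega), Finset.sum_empty] at hexp
  exact Char.irr_one_ne_zero (isIrrCharacter_psi hv) (congrFun hexp 1)

/-- The rank of a block of the alternating group against the covering block and the split labels. -/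
theorem blockRank_le_add {M : Ideal AlgInt} (hM : IsPModular p M) [Nontrivial (Fin n)] (h : n ≤ N)
    {B : Set (IrrCharacter (Perm (Fin n)))} (hB : IsPBlock M B) {b : Set (IrrCharacter (alternatingGroup (Fin n)))}
    (hb : IsPBlock M b) (hcov : Char.Covers B b) {v₀ : Fin N → ℤ} (hv₀ : v₀ ∈ Beta N n)
    (hv₀B : chi ⟨v₀, hv₀⟩ ∈ B) :
    ∃ s : ℕ, blockRank p b ≤ blockRank p B + s ∧
      (s : ℚ) = ∑ μ ∈ Ps n, (eps μ : ℚ) * (S (SameRes p v₀) n μ μ / zNat μ) ∧
      ∀ γ : Finset (Fin N → ℤ), (∀ v, v ∈ γ ↔ v ∈ Beta N n ∧ SameRes p v₀ v) → s ≤ γ.card := by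
  classical
  set γ := (Beta N n).filter (SameRes p v₀) with hγ
  set sp := γ.filter fun v => dlt n v = 1 with hsp
  have hd01 : ∀ v ∈ γ, dlt n v = 0 ∨ dlt n v = 1 := by
    intro v hv
    obtain ⟨-, h2, h3⟩ := constit_spec (Finset.mem_filter.mp hv).1
    have hle := dlt_le_one (Finset.mem_filter.mp hv).1
    have h4 : (constit n v).card ≤ 2 := by
      have : ((constit n v).card : ℚ) ≤ (2 : ℕ) := by rw [h2]; push_cast; linarith
      exact_mod_cast this
    rcases Nat.lt_or_ge (constit n v).card 2 with hc | hc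
    · left; rw [show (constit n v).card = 1 by omega] at h2; push_cast at h2; linarith
    · right; rw [show (constit n v).card = 2 by omega] at h2; push_cast at h2; linarith
  refine ⟨sp.card, ?_, ?_, fun γ' hγ' => ?_⟩
  rotate_left
  · rw [Finset.card_eq_sum_ones, Nat.cast_sum, hsp, Finset.sum_filter]
    have e : ∀ μ, (eps μ : ℚ) * (S (SameRes p v₀) n μ μ / zNat μ) =
        ∑ v ∈ γ, (eps μ : ℚ) * ((F μ v : ℚ) * F μ v / zNat μ) := fun μ => by
      rw [S, Finset.sum_div, Finset.mul_sum]
    simp only [e]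
    rw [Finset.sum_comm]
    refine Finset.sum_congr rfl fun v hv => ?_
    rw [show ∑ μ ∈ Ps n, (eps μ : ℚ) * ((F μ v : ℚ) * F μ v / zNat μ) = dlt n v from rfl]
    rcases hd01 v hv with e | e <;> simp [e]
  · refine Finset.card_le_card fun v hv => (hγ' v).mpr ?_
    exact Finset.mem_filter.mp (Finset.mem_filter.mp hv).1
  let R : (Perm (Fin n) → ℂ) →ₗ[ℂ] ((alternatingGroup (Fin n)) → ℂ) := LinearMap.funLeft ℂ ℂ (fun g : (alternatingGroup (Fin n)) => (g : Perm (Fin n)))
  let W : Submodule ℂ (Perm (Fin n) → ℂ) :=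
    Submodule.span ℂ ((fun χ : IrrCharacter (Perm (Fin n)) => pRegularPart p (χ : Perm (Fin n) → ℂ)) '' B)
  let extra : sp → ((alternatingGroup (Fin n)) → ℂ) := fun v =>
    if hne : (constit n (v : Fin N → ℤ)).Nonempty then pRegularPart p (hne.choose : (alternatingGroup (Fin n)) → ℂ) else 0
  have hR : ∀ f : Perm (Fin n) → ℂ, R (pRegularPart p f) = pRegularPart p (fun g : (alternatingGroup (Fin n)) => f g) := by
    intro f
    funext g
    simp only [R, LinearMap.funLeft_apply, pRegularPart, IsPRegular, Subgroup.orderOf_coe]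
    by_cases hg : p ∣ orderOf g <;> simp [hg]
  have hle : Submodule.span ℂ ((fun θ : IrrCharacter (alternatingGroup (Fin n)) => pRegularPart p (θ : (alternatingGroup (Fin n)) → ℂ)) '' b) ≤
      Submodule.map R W ⊔ Submodule.span ℂ (Set.range extra) := by
    rw [Submodule.span_le]
    rintro _ ⟨θ, hθ, rfl⟩
    obtain ⟨χ₁, hχ₁, θ₁, hθ₁, hcon⟩ := hcov
    obtain ⟨χ, hχ, hχθ⟩ := Char.exists_over_of_covered hM hB hb hχ₁ hθ₁ hcon hθ
    obtain ⟨v, hv, hχv⟩ := exists_label h χ
    rw [hχv] at hχθ
    have hres : SameRes p v₀ v := sameRes_of_sameBlock hM h hv₀ hv (by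
      rw [← hχv]; exact (Char.mem_block_iff (Char.pmod_prime hM) hB hv₀B χ).mp hχ)
    obtain ⟨hexp, hcard, hpos⟩ := constit_spec hv
    have hθT : θ ∈ constit n v := by rw [constit, Finset.mem_filter]; exact ⟨Finset.mem_univ _, hχθ⟩
    have hW : pRegularPart p (fun g : (alternatingGroup (Fin n)) => psi v (g : Perm (Fin n))) ∈ Submodule.map R W :=
      ⟨pRegularPart p (psi v), Submodule.subset_span ⟨χ, hχ, congrArg (pRegularPart p) hχv⟩, hR _⟩
    show pRegularPart p (θ : (alternatingGroup (Fin n)) → ℂ) ∈ _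
    rcases hd01 v (Finset.mem_filter.mpr ⟨hv, hres⟩) with e | e
    · rw [e, add_zero] at hcard
      obtain ⟨θ', hθ'⟩ := Finset.card_eq_one.mp (by exact_mod_cast hcard : (constit n v).card = 1)
      rw [hθ', Finset.mem_singleton] at hθT
      rw [hexp, hθ', Finset.sum_singleton, ← hθT] at hW
      exact Submodule.mem_sup_left hW
    · rw [e] at hcard
      have hcard2 : (constit n v).card = 2 := by
        have : ((constit n v).card : ℚ) = (2 : ℕ) := by rw [hcard]; norm_num
        exact_mod_cast this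
      have hne : (constit n v).Nonempty := Finset.card_pos.mp (by omega)
      have hx : pRegularPart p (hne.choose : (alternatingGroup (Fin n)) → ℂ) ∈ Submodule.span ℂ (Set.range extra) := by
        refine Submodule.subset_span ⟨⟨v, Finset.mem_filter.mpr ⟨Finset.mem_filter.mpr ⟨hv, hres⟩, e⟩⟩, ?_⟩
        exact dif_pos hne
      by_cases hθc : θ = hne.choose
      · rw [hθc]; exact Submodule.mem_sup_right hx
      · have hT : constit n v = {θ, hne.choose} := by
          refine (Finset.eq_of_subset_of_card_le (fun x hx => ?_) ?_).symm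
          · rcases Finset.mem_insert.mp hx with rfl | hx
            · exact hθT
            · rw [Finset.mem_singleton] at hx; exact hx ▸ hne.choose_spec
          · rw [Finset.card_pair hθc]; omega
        rw [hexp, hT, Finset.sum_pair hθc] at hW
        have e2 : pRegularPart p (θ : (alternatingGroup (Fin n)) → ℂ) = pRegularPart p ((θ : (alternatingGroup (Fin n)) → ℂ) + (hne.choose : (alternatingGroup (Fin n)) → ℂ)) -
            pRegularPart p (hne.choose : (alternatingGroup (Fin n)) → ℂ) := by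
          funext g
          simp only [Pi.sub_apply, pRegularPart, Pi.add_apply]
          split_ifs <;> simp
        rw [e2]
        exact Submodule.sub_mem _ (Submodule.mem_sup_left hW) (Submodule.mem_sup_right hx)
  have h1 : Module.finrank ℂ (Submodule.map R W) ≤ blockRank p B := Submodule.finrank_map_le R W
  have h2 := finrank_range_le_card (R := ℂ) extra
  rw [Fintype.card_coe] at h2
  exact ((Submodule.finrank_mono hle).trans (Submodule.finrank_add_le_finrank_add_finrank _ _)).trans
    (Nat.add_le_add h1 h2)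

end Cfsg.Agent.SymChar
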