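import Cfsg.Agent.Lib.Char.SymChar.Blocks

/-!
# Congruences for the alternant functions
-/

set_option autoImplicit false
set_option linter.style.haveILetI false

namespace Cfsg.Agent.SymChar

open Finset Equiv

variable {N n p : ℕ}

/-- Translations of functions. -/
def translHom (N p : ℕ) :
    Multiplicative (Fin N → ℤ) →* Module.End (ZMod p) ((Fin N → ℤ) → ZMod p) where
  toFun a := LinearMap.funLeft (ZMod p) (ZMod p) (fun u => u - Multiplicative.toAdd a)
  map_one' := by
    refine LinearMap.ext fun g => funext fun u => ?_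
    simp [LinearMap.funLeft_apply]
  map_mul' a b := by
    refine LinearMap.ext fun g => funext fun u => ?_
    simp [LinearMap.funLeft_apply, sub_sub]

theorem replicate_succ_add (k : ℕ) (a : ℕ) (μ : Multiset ℕ) :
    Multiset.replicate (k + 1) a + μ = a ::ₘ (Multiset.replicate k a + μ) := by
  rw [Multiset.replicate_succ, Multiset.cons_add]

theorem F_replicate_congr (hp : p.Prime) (μ : Multiset ℕ) (v : Fin N → ℤ) :
    ((F (Multiset.replicate p 1 + μ) v : ℤ) : ZMod p) = ((F (p ::ₘ μ) v : ℤ) : ZMod p) := by
  haveI := Fact.mk hp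
  classical
  set Φ : (AddMonoidAlgebra (ZMod p) (Fin N → ℤ)) →ₐ[ZMod p] Module.End (ZMod p) ((Fin N → ℤ) → ZMod p) :=
    AddMonoidAlgebra.lift (ZMod p) _ (Fin N → ℤ) (translHom N p) with hΦ
  haveI : CharP (AddMonoidAlgebra (ZMod p) (Fin N → ℤ)) p := charP_of_injective_algebraMap (algebraMap (ZMod p) (AddMonoidAlgebra (ZMod p) (Fin N → ℤ))).injective p
  let s : ℕ → (AddMonoidAlgebra (ZMod p) (Fin N → ℤ)) := fun k => ∑ i : Fin N, AddMonoidAlgebra.single (Pi.single i (k : ℤ)) 1
  have hs : ∀ (k : ℕ) (μ : Multiset ℕ),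
      (fun u => ((F (k ::ₘ μ) u : ℤ) : ZMod p)) = Φ (s k) fun u : Fin N → ℤ => ((F μ u : ℤ) : ZMod p) := by
    intro k μ
    funext u
    simp only [s, map_sum, LinearMap.sum_apply, Finset.sum_apply, F_cons_apply, Int.cast_sum]
    refine Finset.sum_congr rfl fun i _ => ?_
    rw [hΦ, AddMonoidAlgebra.lift_single, one_smul]
    rfl
  have hpow : ∀ k, (fun u => ((F (Multiset.replicate k 1 + μ) u : ℤ) : ZMod p)) =
      Φ (s 1 ^ k) fun u : Fin N → ℤ => ((F μ u : ℤ) : ZMod p) := by
    intro k
    induction k with
    | zero => simp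
    | succ k ih => rw [replicate_succ_add, hs, ih, pow_succ' (s 1), map_mul]; rfl
  have e : s 1 ^ p = s p := by
    simp only [s]
    rw [sum_pow_char p]
    refine Finset.sum_congr rfl fun i _ => ?_
    rw [AddMonoidAlgebra.single_pow, one_pow]
    congr 1
    funext l
    by_cases hl : l = i
    · subst hl; simp
    · simp [Pi.single_eq_of_ne hl]
  have h := congr_fun (hpow p) v
  rw [e, ← hs] at h
  exact h

/-- Fixed points may be traded for `p`-cycles modulo `p`. -/
theorem F_ones_congr (hp : p.Prime) : ∀ (w : ℕ) (μ : Multiset ℕ) (v : Fin N → ℤ),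
    ((F (Multiset.replicate (p * w) 1 + μ) v : ℤ) : ZMod p) =
      ((F (Multiset.replicate w p + μ) v : ℤ) : ZMod p) := by
  intro w
  induction w with
  | zero => intro μ v; simp
  | succ w ih =>
    intro μ v
    rw [show Multiset.replicate (p * (w + 1)) 1 + μ =
      Multiset.replicate p 1 + (Multiset.replicate (p * w) 1 + μ) by
        rw [← add_assoc, ← Multiset.replicate_add]; congr 2; ring,
      F_replicate_congr hp, ← Multiset.add_cons, ih, replicate_succ_add, Multiset.add_cons]

theorem pushed_injective (hp : 0 < p) {v : Fin N → ℤ} (hv : Function.Injective v) :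
    Function.Injective (pushed p v) := by
  intro a b e
  simp only [pushed] at e
  have e1 := congrArg (· % (p : ℤ)) e
  simp only [Int.add_mul_emod_self_left, Int.emod_emod_of_dvd _ (dvd_refl (p : ℤ))] at e1
  rw [e1, add_right_inj] at e
  have e3 : rnk p v a = rnk p v b := by exact_mod_cast (mul_left_cancel₀ (by omega : (p : ℤ) ≠ 0) e)
  refine hv ?_
  by_contra hne
  simp only [rnk, e1] at e3
  rcases lt_or_gt_of_ne hne with hlt | hlt
  · refine (Finset.card_lt_card ?_).ne e3
    rw [Finset.ssubset_iff_of_subset (fun l hl => ?_)]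
    · exact ⟨a, Finset.mem_filter.mpr ⟨Finset.mem_univ _, e1, hlt⟩, by simp⟩
    · simp only [Finset.mem_filter] at hl ⊢
      exact ⟨hl.1, hl.2.1, hl.2.2.trans hlt⟩
  · refine (Finset.card_lt_card ?_).ne e3.symm
    rw [Finset.ssubset_iff_of_subset (fun l hl => ?_)]
    · exact ⟨b, Finset.mem_filter.mpr ⟨Finset.mem_univ _, rfl, hlt⟩, by simp⟩
    · simp only [Finset.mem_filter] at hl ⊢
      exact ⟨hl.1, hl.2.1, hl.2.2.trans hlt⟩

/-- The canonical core positions of given bead numbers. -/
def coreSet (p : ℕ) (c : Fin p → ℕ) : Finset ℤ :=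
  Finset.univ.biUnion fun r : Fin p => Finset.image (fun k : ℕ => ((r : ℕ) : ℤ) + (p : ℤ) * (k : ℤ)) (Finset.range (c r))

theorem card_coreSet_le (c : Fin p → ℕ) : (coreSet p c).card ≤ ∑ r, c r :=
  Finset.card_biUnion_le.trans (Finset.sum_le_sum fun r _ => Finset.card_image_le.trans (le_of_eq (Finset.card_range _)))

theorem image_pushed (hp : 0 < p) {v : Fin N → ℤ} (hv : Function.Injective v) :
    Finset.univ.image (pushed p v) = coreSet p (beads p v) := by
  classical
  refine Finset.eq_of_subset_of_card_le (fun x hx => ?_) ?_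
  · obtain ⟨i, -, rfl⟩ := Finset.mem_image.mp hx
    obtain ⟨r, hr⟩ := exists_residue hp (v i)
    refine Finset.mem_biUnion.mpr ⟨r, Finset.mem_univ _, Finset.mem_image.mpr ⟨rnk p v i, ?_, ?_⟩⟩
    · rw [Finset.mem_range, beads, rnk]
      refine Finset.card_lt_card ?_
      rw [Finset.ssubset_iff_of_subset (fun l hl => ?_)]
      · exact ⟨i, Finset.mem_filter.mpr ⟨Finset.mem_univ _, hr⟩, by simp⟩
      · simp only [Finset.mem_filter, Finset.mem_univ, true_and] at hl ⊢
        exact hl.1.trans hr
    · rw [pushed, hr]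
  · rw [Finset.card_image_of_injective _ (pushed_injective hp hv), Finset.card_fin]
    refine (card_coreSet_le _).trans (le_of_eq ?_)
    have := Finset.card_eq_sum_card_fiberwise (s := (Finset.univ : Finset (Fin N)))
      (t := (Finset.univ : Finset (Fin p))) (f := fun i => (exists_residue hp (v i)).choose)
      (fun i _ => Finset.mem_univ _)
    rw [Finset.card_fin] at this
    refine Eq.trans (Finset.sum_congr rfl fun r _ => ?_) this.symm
    rw [beads]
    congr 1
    ext i
    simp only [Finset.mem_filter, Finset.mem_univ, true_and]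
    have h := (exists_residue hp (v i)).choose_spec
    exact ⟨fun e => Fin.ext (by rw [h] at e; exact_mod_cast e), fun e => by rw [h, e]⟩

theorem pushed_eq_comp (hp : 0 < p) {v v' : Fin N → ℤ} (hv : Function.Injective v)
    (hv' : Function.Injective v') (h : res p v' = res p v) :
    ∃ σ : Perm (Fin N), pushed p v' = pushed p v ∘ σ := by
  classical
  have hmem : ∀ i, ∃ l, pushed p v l = pushed p v' i := fun i => by
    have : pushed p v' i ∈ Finset.univ.image (pushed p v) := by
      rw [image_pushed hp hv, ← beads_congr h, ← image_pushed hp hv']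
      exact Finset.mem_image_of_mem _ (Finset.mem_univ i)
    obtain ⟨l, -, hl⟩ := Finset.mem_image.mp this
    exact ⟨l, hl⟩
  choose f hf using hmem
  have hinj : Function.Injective f := fun a b e => pushed_injective hp hv' (by rw [← hf a, ← hf b, e])
  exact ⟨Equiv.ofBijective f (Finite.injective_iff_bijective.mp hinj), funext fun i => (hf i).symm⟩

/-- The pushed label with the top bead of runner `r` moved up once. -/
def pushedTop (q : ℕ) (r : ℤ) (v : Fin N → ℤ) : Fin N → ℤ := fun i =>
  if v i % (q : ℤ) = r ∧ rnk q v i + 1 = (Finset.univ.filter fun l => v l % (q : ℤ) = r).card then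
    pushed q v i + q else pushed q v i

theorem pushedTop_sub_single {q : ℕ} (r : ℤ) {v : Fin N → ℤ} (hv : Function.Injective v) {i : Fin N}
    (hu : Function.Injective (v - Pi.single i (q : ℤ))) :
    pushedTop q r (v - Pi.single i (q : ℤ)) = pushedTop q r v := by
  funext l
  have hp := congr_fun (pushed_sub_single hv hu) l
  have e : rnk q (v - Pi.single i (q : ℤ) : Fin N → ℤ) l = rnk q v l := by
    refine congrArg Finset.card (Finset.filter_congr fun m _ => ?_)
    rw [sub_single_emod, sub_single_emod]
    exact and_congr_right fun h => order_sub_single hv hu h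
  simp only [pushedTop, sub_single_emod, e, hp]

theorem exists_pushedTop {q : ℕ} (hq : 0 < q) {v : Fin N → ℤ} (hv : Function.Injective v)
    (hpos : ∀ i, 0 ≤ v i) (hs : ∑ i, (v i - pushed q v i) = (q : ℤ)) {r : ℤ}
    (hoff : ∀ i, v i % (q : ℤ) ≠ r → v i = pushed q v i) : pushedTop q r v = v := by
  classical
  have hle := pushed_le hq hv hpos
  have hdiv : ∀ i, (q : ℤ) ∣ v i - pushed q v i := fun i => by
    refine ⟨v i / q - rnk q v i, ?_⟩
    have := Int.mul_ediv_add_emod (v i) q
    simp only [pushed]
    rw [mul_sub]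
    linarith
  obtain ⟨i, hi⟩ : ∃ i, v i ≠ pushed q v i := by
    by_contra hno
    push Not at hno
    rw [Finset.sum_eq_zero fun i _ => by rw [← hno i, sub_self]] at hs
    omega
  have hbig : (q : ℤ) ≤ v i - pushed q v i := by
    obtain ⟨d, hd⟩ := hdiv i
    have h1 : 0 < v i - pushed q v i := by have := hle i; omega
    rw [hd] at h1 ⊢
    have : 0 < d := by
      by_contra h5
      have := mul_nonpos_of_nonneg_of_nonpos (by positivity : (0 : ℤ) ≤ q) (not_lt.mp h5)
      omega
    exact le_mul_of_one_le_right (by positivity) (by omega)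
  have hrest : ∀ l, l ≠ i → v l = pushed q v l := by
    intro l hl
    rw [← Finset.add_sum_erase _ _ (Finset.mem_univ i)] at hs
    have h1 : ∑ j ∈ Finset.univ.erase i, (v j - pushed q v j) = 0 := by
      have h2 : 0 ≤ ∑ j ∈ Finset.univ.erase i, (v j - pushed q v j) :=
        Finset.sum_nonneg fun j _ => by have := hle j; omega
      omega
    have := (Finset.sum_eq_zero_iff_of_nonneg fun j _ => by have := hle j; omega).mp h1 l
      (Finset.mem_erase.mpr ⟨hl, Finset.mem_univ _⟩)
    omega
  have hir : v i % (q : ℤ) = r := by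
    by_contra h
    exact hi (hoff i h)
  have hval : v i = pushed q v i + q := by
    rw [← Finset.add_sum_erase _ _ (Finset.mem_univ i),
      Finset.sum_eq_zero fun l hl => by rw [← hrest l (Finset.mem_erase.mp hl).1, sub_self], add_zero] at hs
    omega
  -- the moved bead is the top one
  have htop : ∀ l, v l % (q : ℤ) = r → l ≠ i → v l < v i := by
    intro l hl hne
    by_contra hge
    have hlt : v i < v l := lt_of_le_of_ne (not_lt.mp hge) fun e => hne (hv e).symm
    -- take the least bead above
    obtain ⟨m, hm, hmin⟩ := Finset.exists_min_image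
      (Finset.univ.filter fun j => v j % (q : ℤ) = r ∧ v i < v j) v ⟨l, Finset.mem_filter.mpr ⟨Finset.mem_univ _, hl, hlt⟩⟩
    obtain ⟨-, hm1, hm2⟩ := Finset.mem_filter.mp hm
    have hrk : rnk q v m = rnk q v i + 1 := by
      rw [rnk, rnk, ← Finset.card_insert_of_notMem (a := i)
        (show i ∉ Finset.univ.filter fun j => v j % (q : ℤ) = v i % (q : ℤ) ∧ v j < v i by simp)]
      congr 1
      ext j
      simp only [Finset.mem_insert, Finset.mem_filter, Finset.mem_univ, true_and, hm1, hir]
      constructor
      · rintro ⟨h1, h2⟩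
        by_cases hji : j = i
        · exact Or.inl hji
        refine Or.inr ⟨h1, ?_⟩
        rcases lt_or_gt_of_ne (fun e => hji (hv e)) with h | h
        · exact h
        · exact absurd (hmin j (Finset.mem_filter.mpr ⟨Finset.mem_univ _, h1, h⟩)) (not_le.mpr h2)
      · rintro (rfl | ⟨h1, h2⟩)
        · exact ⟨hir, hm2⟩
        · exact ⟨h1, h2.trans hm2⟩
    have h1 := hrest m (fun e => by rw [e] at hm2; exact lt_irrefl _ hm2)
    simp only [pushed] at h1 hval
    rw [hrk, hm1] at h1
    rw [hir] at hval
    push_cast at h1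
    rw [mul_add, mul_one] at h1
    omega
  funext l
  simp only [pushedTop]
  by_cases hl : l = i
  · subst hl
    rw [if_pos ?_, ← hval]
    refine ⟨hir, ?_⟩
    rw [rnk, ← Finset.card_insert_of_notMem (a := l)
      (show l ∉ Finset.univ.filter fun j => v j % (q : ℤ) = v l % (q : ℤ) ∧ v j < v l by simp)]
    congr 1
    ext j
    simp only [Finset.mem_insert, Finset.mem_filter, Finset.mem_univ, true_and, hir]
    exact ⟨fun h => h.elim (fun e => e ▸ hir) (·.1), fun h => (em (j = l)).imp id fun hj => ⟨h, htop j h hj⟩⟩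
  · rw [if_neg ?_, ← hrest l hl]
    rintro ⟨h1, h2⟩
    have : (Finset.univ.filter fun j => v j % (q : ℤ) = v l % (q : ℤ) ∧ v j < v l) ⊆
        ((Finset.univ.filter fun j => v j % (q : ℤ) = r).erase l).erase i := by
      intro j hj
      obtain ⟨-, h3, h4⟩ := Finset.mem_filter.mp hj
      refine Finset.mem_erase.mpr ⟨fun e => ?_, Finset.mem_erase.mpr ⟨fun e => by rw [e] at h4; exact lt_irrefl _ h4,
        Finset.mem_filter.mpr ⟨Finset.mem_univ _, h3.trans h1⟩⟩⟩
      rw [e] at h4
      exact absurd (htop l h1 hl) (not_lt.mpr h4.le)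
    have h5 := Finset.card_le_card this
    have h6 : ({l, i} : Finset (Fin N)) ⊆ Finset.univ.filter fun j => v j % (q : ℤ) = r := by
      intro j hj
      rcases Finset.mem_insert.mp hj with rfl | hj
      · exact Finset.mem_filter.mpr ⟨Finset.mem_univ _, h1⟩
      · rw [Finset.mem_singleton] at hj; subst hj; exact Finset.mem_filter.mpr ⟨Finset.mem_univ _, hir⟩
    have h7 := Finset.card_le_card h6
    rw [Finset.card_pair hl] at h7
    rw [Finset.card_erase_of_mem (Finset.mem_erase.mpr ⟨fun e => hl e.symm, Finset.mem_filter.mpr ⟨Finset.mem_univ _, hir⟩⟩),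
      Finset.card_erase_of_mem (show l ∈ Finset.univ.filter fun j => v j % (q : ℤ) = r from Finset.mem_filter.mpr ⟨Finset.mem_univ _, h1⟩)] at h5
    simp only [rnk] at h2
    omega

/-- Removing all but one part from a label carried by a single runner. -/
theorem F_replicate_top {q : ℕ} (hq : 0 < q) {r : ℤ} : ∀ (w : ℕ) {v : Fin N → ℤ}, Function.Injective v →
    (∀ i, 0 ≤ v i) → ∑ i, (v i - pushed q v i) = (q : ℤ) * (w + 1) →
    (∀ i, v i % (q : ℤ) ≠ r → v i = pushed q v i) →
    ∃ K : ℤ, 0 < K ∧ ∀ μ : Multiset ℕ, F (Multiset.replicate w q + μ) v = K * F μ (pushedTop q r v) := by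
  intro w
  induction w with
  | zero =>
    intro v hv hpos hs hoff
    rw [exists_pushedTop hq hv hpos (by simpa using hs) hoff]
    exact ⟨1, one_pos, fun μ => by simp⟩
  | succ w ih =>
    intro v hv hpos hs hoff
    classical
    set T := Finset.univ.filter fun i => (q : ℤ) ≤ v i ∧ Function.Injective (v - Pi.single i (q : ℤ))
    have hstep : ∀ i ∈ T, ∃ K : ℤ, 0 < K ∧ ∀ μ : Multiset ℕ,
        F (Multiset.replicate w q + μ) (v - Pi.single i (q : ℤ)) = K * F μ (pushedTop q r v) := by
      intro i hi
      obtain ⟨-, h1, h2⟩ := Finset.mem_filter.mp hi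
      rw [← pushedTop_sub_single r hv h2]
      refine ih h2 (fun l => by
        by_cases hl : l = i
        · subst hl; simp; omega
        · simp [Pi.single_eq_of_ne hl, hpos l]) (by
        rw [pushed_sub_single hv h2]
        simp only [Pi.sub_apply, Finset.sum_sub_distrib, Finset.sum_pi_single', Finset.mem_univ, if_true] at hs ⊢
        push_cast at hs
        linarith) fun l hl => ?_
      rw [sub_single_emod] at hl
      have hne : l ≠ i := by
        rintro rfl
        have h3 := pushed_le hq h2 (fun j => by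
          by_cases hj : j = l
          · subst hj; simp; omega
          · simp [Pi.single_eq_of_ne hj, hpos j]) l
        rw [pushed_sub_single hv h2, ← hoff l hl] at h3
        simp at h3
        omega
      rw [pushed_sub_single hv h2]
      simp [Pi.single_eq_of_ne hne, hoff l hl]
    choose! K hK0 hK using hstep
    refine ⟨∑ i ∈ T, K i, Finset.sum_pos (fun i hi => hK0 i hi) ?_, fun μ => ?_⟩
    · have hne : pushed q v ≠ v := fun e => by
        rw [e] at hs
        simp at hs
        omega
      obtain ⟨i, hi⟩ := exists_movable hq hv hpos hne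
      exact ⟨i, Finset.mem_filter.mpr ⟨Finset.mem_univ _, hi⟩⟩
    · rw [replicate_succ_add, F_cons_apply, Finset.sum_mul,
        ← Finset.sum_filter_add_sum_filter_not Finset.univ
          (fun i => (q : ℤ) ≤ v i ∧ Function.Injective (v - Pi.single i (q : ℤ))),
        Finset.sum_eq_zero (s := Finset.univ.filter fun i => ¬ _), add_zero]
      · exact Finset.sum_congr rfl fun i hi => hK i hi μ
      · intro i hi
        rcases not_and_or.mp (Finset.mem_filter.mp hi).2 with h | h
        · exact F_eq_zero_of_neg _ (i := i) (by simp; omega)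
        · exact F_eq_zero_of_not_injective _ h

theorem pushedTop_injective {q : ℕ} (hq : 0 < q) (r : ℤ) {v : Fin N → ℤ} (hv : Function.Injective v) :
    Function.Injective (pushedTop q r v) := by
  classical
  intro a b e
  have hpa : ∀ i, pushedTop q r v i % (q : ℤ) = v i % (q : ℤ) := fun i => by
    simp only [pushedTop]
    split_ifs <;> simp [pushed, Int.emod_emod_of_dvd _ (dvd_refl (q : ℤ))]
  have e1 := congrArg (· % (q : ℤ)) e
  simp only [hpa] at e1
  have hlt : ∀ i, v i % (q : ℤ) = r → rnk q v i + 1 ≤ (Finset.univ.filter fun l => v l % (q : ℤ) = r).card := fun i hi => by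
    rw [rnk]
    refine Finset.card_lt_card ?_
    rw [Finset.ssubset_iff_of_subset (fun l hl => ?_)]
    · exact ⟨i, Finset.mem_filter.mpr ⟨Finset.mem_univ _, hi⟩, by simp⟩
    · simp only [Finset.mem_filter, Finset.mem_univ, true_and] at hl ⊢
      exact hl.1.trans hi
  refine pushed_injective hq hv ?_
  simp only [pushedTop] at e
  split_ifs at e with ha hb hb
  · exact add_right_cancel e
  · exfalso
    have h1 := hlt b (e1 ▸ ha.1)
    simp only [pushed, e1] at e
    have h2 : (q : ℤ) * ((rnk q v b : ℤ) - ((rnk q v a : ℤ) + 1)) = 0 := by rw [mul_sub, mul_add, mul_one]; linarith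
    rcases mul_eq_zero.mp h2 with h | h
    · omega
    · exact hb ⟨e1 ▸ ha.1, by omega⟩
  · exfalso
    have h1 := hlt a (e1 ▸ hb.1)
    simp only [pushed, e1] at e
    have h2 : (q : ℤ) * ((rnk q v a : ℤ) - ((rnk q v b : ℤ) + 1)) = 0 := by rw [mul_sub, mul_add, mul_one]; linarith
    rcases mul_eq_zero.mp h2 with h | h
    · omega
    · exact ha ⟨e1 ▸ hb.1, by omega⟩
  · exact e

end Cfsg.Agent.SymChar
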