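import Cfsg.Agent.Lib.Char.SymChar.AltLocal
import Cfsg.Agent.Lib.Char.SymChar.Congr

/-!
# The shape of defect groups and the blocks of a residue class
-/

set_option autoImplicit false
set_option linter.style.haveILetI false

namespace Cfsg.Agent.SymChar

open Finset Equiv Cfsg
open scoped Nat

variable {N n p : ℕ} {M : Ideal AlgInt}

theorem fixes_of_pow_fixes (hp : p.Prime) {x : Perm (Fin n)} (hx : x ^ p = 1) {k : ℕ} (hk : ¬ p ∣ k)
    {t : Fin n} (h : (x ^ k) t = t) : x t = t := by
  obtain ⟨m, hm⟩ := exists_pow_eq_self_of_coprime (x := x) (n := k)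
    ((Nat.Coprime.symm (hp.coprime_iff_not_dvd.mpr hk)).coprime_dvd_right (orderOf_dvd_of_pow_eq_one hx))
  have : ((x ^ k) ^ m) t = t := by
    clear hm
    induction m with
    | zero => simp
    | succ m ih => rw [pow_succ, Perm.mul_apply, h, ih]
  rwa [hm] at this

/-- Shifting each cycle by a prescribed amount. -/
theorem exists_shift {x : Perm (Fin n)} (f : Fin n → ℕ) (hf : ∀ t, f (x t) = f t) :
    ∃ e ∈ cyclewise x, ∀ t, e t = (x ^ f t) t := by
  have hpow : ∀ (k : ℕ) t, f ((x ^ k) t) = f t := fun k => by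
    induction k with
    | zero => simp
    | succ k ih => intro t; rw [pow_succ', Perm.mul_apply, hf, ih]
  have hinj : Function.Injective fun t => (x ^ f t) t := by
    intro a b e
    have h1 : f a = f b := by
      have := congrArg f e
      simp only [hpow] at this
      exact this
    simp only [h1] at e
    exact (x ^ f b).injective e
  refine ⟨Equiv.ofBijective _ (Finite.injective_iff_bijective.mp hinj), ⟨?_, fun a => ⟨(f a : ℤ), ?_⟩⟩, fun t => rfl⟩
  · refine Equiv.ext fun t => ?_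
    show (x ^ f (x t)) (x t) = x ((x ^ f t) t)
    rw [hf, ← Perm.mul_apply, ← Perm.mul_apply, (Commute.self_pow x _).eq]
  · rw [zpow_natCast]; rfl

theorem sameCycle_step {x : Perm (Fin n)} (t : Fin n) : x.cycleOf (x t) = x.cycleOf t :=
  (Perm.SameCycle.cycleOf_eq (Perm.sameCycle_apply_right.mpr (Perm.SameCycle.refl x t))).symm

theorem pow_apply_eq_of_sameCycle {x : Perm (Fin n)} {a b : Fin n} {k : ℕ} (h : x.SameCycle a b)
    (hk : (x ^ k) a = a) : (x ^ k) b = b := by
  obtain ⟨j, -, rfl⟩ := h.exists_pow_eq'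
  rw [← Perm.mul_apply, ← pow_add, add_comm, pow_add, Perm.mul_apply, hk]

theorem exists_good_shift (hp : p.Prime) {x : Perm (Fin n)} (hx : x ^ p = 1) {D : Subgroup (Perm (Fin n))}
    (hD : IsPGroup p D) (hE : cyclewise x ≤ D) {a : Perm (Fin n)} (ha : a ∈ D) {t₀ : Fin n} (ht : x t₀ ≠ t₀) :
    ∃ i : ℕ, ∀ t, x.SameCycle t₀ t → a ((x ^ i) t) ≠ t := by
  classical
  haveI := Fact.mk hp
  by_contra hno
  push Not at hno
  choose τ hτ hτa using hno
  have hmov : ∀ t, x.SameCycle t₀ t → x t ≠ t := fun t h e =>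
    ht (by simpa using pow_apply_eq_of_sameCycle (k := 1) h.symm (by rwa [pow_one]))
  let C := {t : Fin n // x.SameCycle t₀ t}
  have hC : ∀ t, x.SameCycle t₀ t → x.SameCycle t₀ (x t) := fun t h => Perm.sameCycle_apply_right.mpr h
  have hCp : ∀ k t, x.SameCycle t₀ t → x.SameCycle t₀ ((x ^ k) t) := fun k t h => Perm.sameCycle_pow_right.mpr h
  have hcard : Fintype.card C = p := by
    let ψ : Fin p → C := fun i => ⟨(x ^ (i : ℕ)) t₀, hCp _ _ (Perm.SameCycle.refl x t₀)⟩
    have hψ : Function.Bijective ψ := by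
      refine ⟨fun i j e => ?_, fun c => ?_⟩
      · have e' : (x ^ (i : ℕ)) t₀ = (x ^ (j : ℕ)) t₀ := congrArg Subtype.val e
        by_contra hne
        rcases lt_or_gt_of_ne (fun h => hne (Fin.ext h)) with h | h
        · refine hmov t₀ (Perm.SameCycle.refl x t₀) (fixes_of_pow_fixes hp hx (k := (j : ℕ) - i) ?_ ?_)
          · intro hd; have := Nat.le_of_dvd (by omega) hd; omega
          · apply (x ^ (i : ℕ)).injective
            rw [← Perm.mul_apply, ← pow_add, Nat.add_sub_cancel' h.le, e']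
        · refine hmov t₀ (Perm.SameCycle.refl x t₀) (fixes_of_pow_fixes hp hx (k := (i : ℕ) - j) ?_ ?_)
          · intro hd; have := Nat.le_of_dvd (by omega) hd; omega
          · apply (x ^ (j : ℕ)).injective
            rw [← Perm.mul_apply, ← pow_add, Nat.add_sub_cancel' h.le, e']
      · obtain ⟨k, -, hk⟩ := c.2.exists_pow_eq'
        refine ⟨⟨k % p, Nat.mod_lt _ hp.pos⟩, Subtype.ext ?_⟩
        show (x ^ (k % p)) t₀ = c
        rw [← hk]
        conv_rhs => rw [← Nat.mod_add_div k p, pow_add, pow_mul, hx, one_pow, mul_one]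
    rw [← Fintype.card_of_bijective hψ, Fintype.card_fin]
  have hτinj : Function.Injective fun i : Fin p => (⟨τ i, hτ i⟩ : C) := by
    intro i j e
    have e' : τ i = τ j := congrArg Subtype.val e
    have h1 : (x ^ (i : ℕ)) (τ i) = (x ^ (j : ℕ)) (τ i) := a.injective (by rw [hτa i, e', hτa j])
    by_contra hne
    rcases lt_or_gt_of_ne (fun h => hne (Fin.ext h)) with h | h
    · refine hmov _ (hτ i) (fixes_of_pow_fixes hp hx (k := (j : ℕ) - i) ?_ ?_)
      · intro hd; have := Nat.le_of_dvd (by omega) hd; omega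
      · apply (x ^ (i : ℕ)).injective
        rw [← Perm.mul_apply, ← pow_add, Nat.add_sub_cancel' h.le, h1]
    · refine hmov _ (hτ i) (fixes_of_pow_fixes hp hx (k := (i : ℕ) - j) ?_ ?_)
      · intro hd; have := Nat.le_of_dvd (by omega) hd; omega
      · apply (x ^ (j : ℕ)).injective
        rw [← Perm.mul_apply, ← pow_add, Nat.add_sub_cancel' h.le, h1]
  have hτsurj : Function.Surjective fun i : Fin p => (⟨τ i, hτ i⟩ : C) :=
    ((Fintype.bijective_iff_injective_and_card _).mpr ⟨hτinj, by rw [Fintype.card_fin, hcard]⟩).2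
  have hainv : ∀ t, x.SameCycle t₀ t → x.SameCycle t₀ (a.symm t) := by
    intro t ht'
    obtain ⟨i, hi⟩ := hτsurj ⟨t, ht'⟩
    have hi' : τ i = t := congrArg Subtype.val hi
    rw [← hi', show a.symm (τ i) = (x ^ (i : ℕ)) (τ i) from (Equiv.symm_apply_eq a).mpr (hτa i).symm]
    exact hCp _ _ (hτ i)
  have haiff : ∀ t, x.SameCycle t₀ (a t) ↔ x.SameCycle t₀ t := by
    have hbij : Function.Bijective fun c : C => (⟨a.symm c, hainv c c.2⟩ : C) :=
      Finite.injective_iff_bijective.mp fun c d e => Subtype.ext (a.symm.injective (congrArg Subtype.val e))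
    intro t
    constructor
    · intro h; simpa using hainv _ h
    · intro h
      obtain ⟨c, hc⟩ := hbij.2 ⟨t, h⟩
      have hc' : a.symm c = t := congrArg Subtype.val hc
      rw [← hc', Equiv.apply_symm_apply]
      exact c.2
  let K : Subgroup (Perm (Fin n)) :=
    { carrier := {d | d ∈ D ∧ ∀ t, x.SameCycle t₀ (d t) ↔ x.SameCycle t₀ t}
      one_mem' := ⟨D.one_mem, fun t => Iff.rfl⟩
      mul_mem' := fun {d e} hd he => ⟨D.mul_mem hd.1 he.1, fun t => (hd.2 (e t)).trans (he.2 t)⟩
      inv_mem' := fun {d} hd => ⟨D.inv_mem hd.1, fun t => by simpa using (hd.2 (d⁻¹ t)).symm⟩ }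
  let res' : K →* Perm C :=
    { toFun := fun d => (d : Perm (Fin n)).subtypePerm d.2.2
      map_one' := by ext c; rfl
      map_mul' := fun d e => by ext c; rfl }
  have hKp : IsPGroup p K := hD.to_le fun d hd => hd.1
  have hrange : Nat.card res'.range ≤ p := by
    have hp' : IsPGroup p res'.range := hKp.of_surjective res'.rangeRestrict res'.rangeRestrict_surjective
    obtain ⟨k, hk⟩ := IsPGroup.iff_card.mp hp'
    have hdvd := Subgroup.card_subgroup_dvd_card res'.range
    rw [hk, Nat.card_perm, Nat.card_eq_fintype_card, hcard] at hdvd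
    rw [hk]
    have h1 : k ≤ 1 := by
      have h2 := (hp.pow_dvd_iff_le_factorization (Nat.factorial_ne_zero p)).mp hdvd
      rwa [← Nat.mul_factorial_pred hp.ne_zero, Nat.factorization_mul hp.ne_zero (Nat.factorial_ne_zero _),
        Finsupp.add_apply, hp.factorization_self,
        Nat.factorization_eq_zero_of_not_dvd (fun h => by have := hp.dvd_factorial.mp h; have := hp.pos; omega),
        add_zero] at h2
    calc p ^ k ≤ p ^ 1 := Nat.pow_le_pow_right hp.pos h1
      _ = p := pow_one p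
  have hxD : x ∈ D := hE ⟨Commute.refl x, fun t => Perm.sameCycle_apply_right.mpr (Perm.SameCycle.refl x t)⟩
  have hxK : x ∈ K := ⟨hxD, fun t => Perm.sameCycle_apply_right⟩
  have haK : a ∈ K := ⟨ha, haiff⟩
  set X := res' ⟨x, hxK⟩ with hX
  have hXord : orderOf X = p := by
    refine orderOf_eq_prime ?_ fun e => ?_
    · rw [hX, ← map_pow, show (⟨x, hxK⟩ : K) ^ p = 1 from Subtype.ext hx, map_one]
    · have := congrArg Subtype.val (DFunLike.congr_fun e (⟨t₀, Perm.SameCycle.refl x t₀⟩ : C))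
      exact ht this
  have hgen : Subgroup.zpowers X = res'.range :=
    Subgroup.eq_of_le_of_card_ge (Subgroup.zpowers_le.mpr ⟨_, hX.symm⟩) (by rw [Nat.card_zpowers, hXord]; exact hrange)
  obtain ⟨i, hi⟩ := Subgroup.mem_zpowers_iff.mp (show res' ⟨a, haK⟩ ∈ Subgroup.zpowers X by
    rw [hgen]; exact ⟨_, rfl⟩)
  obtain ⟨i', hi'⟩ : ∃ i' : ℕ, X ^ i' = res' ⟨a, haK⟩ := by
    obtain ⟨m, hm⟩ := (isOfFinOrder_of_finite X).mem_powers_iff_mem_zpowers.mpr
      (show res' ⟨a, haK⟩ ∈ Subgroup.zpowers X from ⟨i, hi⟩)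
    exact ⟨m, hm⟩
  have hact : ∀ t, x.SameCycle t₀ t → a t = (x ^ i') t := by
    intro t ht'
    have h1 := congrArg Subtype.val (DFunLike.congr_fun hi' (⟨t, ht'⟩ : C))
    rw [hX, ← map_pow] at h1
    exact h1.symm
  have h0 := hτa 0
  have h1 := hτa 1
  rw [hact _ (hCp _ _ (hτ 0)), ← Perm.mul_apply, ← pow_add] at h0
  rw [hact _ (hCp _ _ (hτ 1)), ← Perm.mul_apply, ← pow_add] at h1
  simp only [add_zero] at h0
  have h2 := pow_apply_eq_of_sameCycle ((hτ 0).symm.trans (hτ 1)) h0
  rw [pow_succ', Perm.mul_apply, h2] at h1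
  exact hmov _ (hτ 1) h1

/-- A `p`-group with small moved sets above a fixed point free elementary subgroup fixes the rest. -/
theorem fixes_outside (hp : p.Prime) {x : Perm (Fin n)} {w : ℕ} (hx : x ^ p = 1) (hcard : x.support.card = p * w)
    {D : Subgroup (Perm (Fin n))} (hD : IsPGroup p D) (hE : cyclewise x ≤ D)
    (hmv : ∀ z ∈ D, z.support.card ≤ p * w) {a : Perm (Fin n)} (ha : a ∈ D) {t : Fin n} (ht : x t = t) :
    a t = t := by
  classical
  let g : Perm (Fin n) → ℕ := fun c =>
    if h : ∃ i : ℕ, ∀ t, x.cycleOf t = c → x t ≠ t → a ((x ^ i) t) ≠ t then h.choose else 0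
  obtain ⟨e, he, hev⟩ := exists_shift (x := x) (fun t => g (x.cycleOf t)) (fun t => by rw [sameCycle_step])
  have hmove : ∀ t, x t ≠ t → (a * e) t ≠ t := by
    intro t ht'
    have hex : ∃ i : ℕ, ∀ s, x.cycleOf s = x.cycleOf t → x s ≠ s → a ((x ^ i) s) ≠ s := by
      obtain ⟨i, hi⟩ := exists_good_shift hp hx hD hE ha ht'
      refine ⟨i, fun s hs hs' => hi s ?_⟩
      have h1 : s ∈ (x.cycleOf t).support := by
        rw [← hs, Perm.mem_support_cycleOf_iff]
        exact ⟨Perm.SameCycle.refl x s, Perm.mem_support.mpr hs'⟩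
      exact (Perm.mem_support_cycleOf_iff.mp h1).1
    rw [Perm.mul_apply, hev]
    simp only [g, dif_pos hex]
    exact hex.choose_spec t rfl ht'
  by_contra hat
  have h1 : insert t x.support ⊆ (a * e).support := by
    intro s hs
    rw [Perm.mem_support]
    rcases Finset.mem_insert.mp hs with rfl | hs
    · rwa [Perm.mul_apply, hev, Perm.pow_apply_eq_self_of_apply_eq_self ht]
    · exact hmove s (Perm.mem_support.mp hs)
  have h2 := Finset.card_le_card h1
  rw [Finset.card_insert_of_notMem (Perm.notMem_support.mpr ht), hcard] at h2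
  have := hmv _ (D.mul_mem ha (hE he))
  omega

theorem regular_fixes (hp : p.Prime) {x : Perm (Fin n)} (hx : x ^ p = 1) {y : Perm (Fin n)}
    (hy : ¬ p ∣ orderOf y) (hc : ∀ e ∈ cyclewise x, Commute y e) {t : Fin n} (ht : x t ≠ t) : y t = t := by
  classical
  obtain ⟨e, he, hev⟩ := exists_shift (x := x) (fun s => if x.cycleOf s = x.cycleOf t then 1 else 0)
    (fun s => by simp only [sameCycle_step])
  have hxc : Commute y x := hc x ⟨Commute.refl x, fun s => Perm.sameCycle_apply_right.mpr (Perm.SameCycle.refl x s)⟩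
  have hey : e (y t) = y (x t) := by
    have h := congr_fun (congrArg DFunLike.coe (hc e he).eq) t
    rw [Perm.mul_apply, Perm.mul_apply, hev t, if_pos rfl, pow_one] at h
    exact h.symm
  have hsame : x.SameCycle t (y t) := by
    by_cases h : x.cycleOf (y t) = x.cycleOf t
    · have hyt : x (y t) ≠ y t := fun e' => ht (y.injective (by
        rw [show y (x t) = x (y t) from congr_fun (congrArg DFunLike.coe hxc.eq) t, e']))
      have h1 : y t ∈ (x.cycleOf t).support := by
        rw [← h, Perm.mem_support_cycleOf_iff]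
        exact ⟨Perm.SameCycle.refl x _, Perm.mem_support.mpr hyt⟩
      exact (Perm.mem_support_cycleOf_iff.mp h1).1
    · exfalso
      rw [hev, if_neg h, pow_zero, Perm.one_apply] at hey
      exact ht (y.injective hey).symm
  obtain ⟨i, -, hi⟩ := hsame.exists_pow_eq'
  have key : ∀ k : ℕ, (y ^ k) t = (x ^ (i * k)) t := by
    intro k
    induction k with
    | zero => simp
    | succ k ih =>
      rw [pow_succ', Perm.mul_apply, ih,
        show y ((x ^ (i * k)) t) = (x ^ (i * k)) (y t) from congr_fun (congrArg DFunLike.coe (hxc.pow_right _).eq) t,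
        ← hi, ← Perm.mul_apply, ← pow_add, mul_add, mul_one]
  have h0 := key (orderOf y)
  rw [pow_orderOf_eq_one, Perm.one_apply] at h0
  by_cases hpi : p ∣ i
  · obtain ⟨q, rfl⟩ := hpi
    rw [← hi, pow_mul, hx, one_pow, Perm.one_apply]
  · exact absurd (fixes_of_pow_fixes hp hx (fun hd => (hp.dvd_mul.mp hd).elim hpi hy) h0.symm) ht

/-- The permutations of the moved points of `x`. -/
def movedPerms (x : Perm (Fin n)) : Subgroup (Perm (Fin n)) :=
  (Perm.ofSubtype : Perm {t // x t ≠ t} →* Perm (Fin n)).range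

theorem mem_movedPerms {x g : Perm (Fin n)} (h : ∀ t, x t = t → g t = t) : g ∈ movedPerms x := by
  classical
  have h1 : ∀ t, x (g t) ≠ g t ↔ x t ≠ t := by
    intro t
    refine not_congr ⟨fun e => ?_, fun e => by rw [h t e]; exact e⟩
    have := g.injective (h (g t) e)
    rwa [this] at e
  exact ⟨g.subtypePerm h1, Perm.ofSubtype_subtypePerm h1 fun t ht e => ht (h t e)⟩

theorem card_movedPerms (x : Perm (Fin n)) : Nat.card (movedPerms x) = x.support.card ! := by
  classical
  rw [movedPerms, ← Nat.card_congr (MonoidHom.ofInjective Perm.ofSubtype_injective).toEquiv, Nat.card_perm,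
    Nat.card_eq_fintype_card, Fintype.card_subtype]
  congr 2

theorem movedPerms_le_centralizer {x y : Perm (Fin n)} (hy : ∀ t, x t ≠ t → y t = t) :
    movedPerms x ≤ Subgroup.centralizer ({y} : Set (Perm (Fin n))) := by
  classical
  rintro _ ⟨g, rfl⟩
  rw [Subgroup.mem_centralizer_singleton_iff]
  refine (Perm.Disjoint.commute fun t => ?_).eq
  by_cases h : x t = t
  · exact Or.inl (Perm.ofSubtype_apply_of_not_mem g (fun h' => h' h))
  · exact Or.inr (hy t h)

theorem parts_replicate (hp : p.Prime) {w : ℕ} {x : Perm (Fin n)}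
    (hx : parts x = Multiset.replicate w p + Multiset.replicate (n - p * w) 1) :
    x ^ p = 1 ∧ x.support.card = p * w := by
  have hct : x.cycleType = Multiset.replicate w p := by
    rw [← filter_parts, hx, Multiset.filter_add, Multiset.filter_eq_self.mpr, Multiset.filter_eq_nil.mpr, add_zero]
    · intro a ha; rw [Multiset.eq_of_mem_replicate ha]; omega
    · intro a ha; rw [Multiset.eq_of_mem_replicate ha]; exact hp.two_le
  refine ⟨?_, ?_⟩
  · rw [← orderOf_dvd_iff_pow_eq_one, ← Perm.lcm_cycleType, hct, Multiset.lcm_dvd]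
    intro a ha; rw [Multiset.eq_of_mem_replicate ha]
  · rw [← Perm.sum_cycleType, hct, Multiset.sum_replicate, smul_eq_mul, mul_comm]

/-- The defect data of a block over a residue class of weight `w`. -/
theorem defect_shape {j : ℕ} (hM : IsPModular (j + 1) M) {B : Set (IrrCharacter (Perm (Fin n)))}
    (hB : IsPBlock M B) (h : n ≤ N) {v : Fin N → ℤ} (hv : v ∈ Beta N n) (hvB : chi ⟨v, hv⟩ ∈ B) {w : ℕ}
    (hw : (n : ℤ) + ∑ i, del N i = base (j + 1) (beads (j + 1) v) + (j + 1 : ℕ) * w) :
    ∃ (x y : Perm (Fin n)) (D : Subgroup (Perm (Fin n))),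
      parts x = Multiset.replicate w (j + 1) + Multiset.replicate (n - (j + 1) * w) 1 ∧
      IsDefectClass M B y ∧ Char.IsSylCent (j + 1) y D ∧ cyclewise x ≤ D ∧ D ≤ movedPerms x ∧
      (∀ t, x t ≠ t → y t = t) ∧
      blockDefect (j + 1) B = (((j + 1) * w) !).factorization (j + 1) ∧
      ∀ W : Subgroup (Perm (Fin n)), W ≤ movedPerms x → Nat.card W = Nat.card D → IsPGroup (j + 1) W →
        IsDefectGroup (j + 1) M B W := by
  classical
  have hp := hM.1
  haveI := Fact.mk hp
  have hpw := mul_weight_le hv hw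
  obtain ⟨x, hx⟩ := exists_parts (n := n) (μ := Multiset.replicate w (j + 1) + Multiset.replicate (n - (j + 1) * w) 1)
    (mem_Ps.mpr ⟨by simp [mul_comm]; rw [mul_comm] at hpw; omega, fun a ha => by
      rcases Multiset.mem_add.mp ha with h | h <;> rw [Multiset.eq_of_mem_replicate h] <;> omega⟩)
  obtain ⟨hxp, hcard⟩ := parts_replicate hp hx
  have hxord : ∃ k : ℕ, orderOf x = (j + 1) ^ k := by
    obtain ⟨k, -, hk⟩ := (Nat.dvd_prime_pow hp).mp (show orderOf x ∣ (j + 1) ^ 1 by
      rw [pow_one]; exact orderOf_dvd_of_pow_eq_one hxp)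
    exact ⟨k, hk⟩
  obtain ⟨D, hD, hE⟩ := le_defect_of_value_ne_zero hM hB (χ := chi ⟨v, hv⟩) hvB hxord (E := cyclewise x)
    (psi_ne_zero_of_parts (Nat.succ_pos j) hv hw hpw hx)
    (fun e => ⟨1, Subtype.ext (by rw [pow_one]; exact pow_eq_one_cyclewise hxp e.2)⟩)
    (fun e he => Subgroup.mem_centralizer_singleton_iff.mpr he.1.eq)
    (fun c hc e he => conj_mem_cyclewise (Subgroup.mem_centralizer_singleton_iff.mp hc) he)
  obtain ⟨y, hy, hDy⟩ := (Char.isDefectGroup_iff B D).mp hD
  have hmv : ∀ z ∈ D, z.support.card ≤ (j + 1) * w := fun z hz => card_support_le hM hB h hv hvB hw hD hz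
  have hDle : D ≤ movedPerms x := fun a ha =>
    mem_movedPerms fun t ht => fixes_outside hp hxp hcard hDy.isPGroup hE hmv ha ht
  have hyfix : ∀ t, x t ≠ t → y t = t := fun t ht => regular_fixes hp hxp (Char.defectClass_regular hM hB hy)
    (fun e he => (show Commute e y from Subgroup.mem_centralizer_singleton_iff.mp (hDy.le (hE he))).symm) ht
  have hC := movedPerms_le_centralizer hyfix
  have hcardD := hDy.card hp
  have hd := Char.factorization_centralizer_defectClass hM hB hy
  have hfac : blockDefect (j + 1) B = (((j + 1) * w) !).factorization (j + 1) := by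
    rw [← hd]
    refine le_antisymm ?_ ?_
    · have h1 : (j + 1) ^ (Nat.card (Subgroup.centralizer ({y} : Set (Perm (Fin n))))).factorization (j + 1) ∣
          ((j + 1) * w) ! := by
        rw [← hcardD, ← hcard, ← card_movedPerms]
        exact Subgroup.card_dvd_of_le hDle
      exact (hp.pow_dvd_iff_le_factorization (Nat.factorial_ne_zero _)).mp h1
    · refine (Nat.factorization_le_iff_dvd (Nat.factorial_ne_zero _) Nat.card_pos.ne').mpr ?_ (j + 1)
      rw [← hcard, ← card_movedPerms]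
      exact Subgroup.card_dvd_of_le hC
  refine ⟨x, y, D, hx, hy, hDy, hE, hDle, hyfix, hfac, fun W hW hWc hWp => ?_⟩
  refine (Char.isDefectGroup_iff B W).mpr ⟨y, hy, Sylow.ofCard (W.subgroupOf _) ?_, ?_⟩
  · rw [Nat.card_congr (Subgroup.subgroupOfEquivOfLe (hW.trans hC)).toEquiv, hWc, hcardD]
  · rw [Sylow.coe_ofCard, Subgroup.map_subgroupOf_eq_of_le (hW.trans hC)]

theorem parts_of_fixed {x g : Perm (Fin n)} {k : ℕ} (hk : x.support.card = k) (h : ∀ t, x t ≠ t → g t = t) :
    ∃ μ : Multiset ℕ, parts g = Multiset.replicate k 1 + μ := by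
  have h1 : g.support.card + k ≤ n := by
    have hd : _root_.Disjoint g.support x.support := Finset.disjoint_left.mpr fun t ht hx' =>
      Perm.mem_support.mp ht (h t (Perm.mem_support.mp hx'))
    have := Finset.card_le_univ (g.support ∪ x.support)
    rw [Finset.card_union_of_disjoint hd, hk, Fintype.card_fin] at this
    exact this
  refine ⟨g.cycleType + Multiset.replicate (n - g.support.card - k) 1, ?_⟩
  rw [parts_eq, add_left_comm, ← Multiset.replicate_add]
  congr 2
  omega

theorem memLR_scalar (hM : IsPModular p M) {B : Set (IrrCharacter (Perm (Fin n)))} (hB : IsPBlock M B)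
    {g : Perm (Fin n)} {d : ℕ} (hd : blockDefect p B = d)
    (hg : (Nat.card (Subgroup.centralizer ({g} : Set (Perm (Fin n))))).factorization p = d)
    {χ : IrrCharacter (Perm (Fin n))} (hχ : χ ∈ B) (h0 : blockHeight p B (χ : Perm (Fin n) → ℂ) = 0) :
    MemLocalRing M ((Nat.card {y : Perm (Fin n) // IsConj g y} : ℂ) / (χ : Perm (Fin n) → ℂ) 1) := by
  have hP := Char.pmod_prime hM
  have hp := hM.1
  obtain ⟨c, hc, hdeg⟩ := Char.deg_eq_pow_mul hp χ.2
  have hsum := Char.dmin_add_defect (p := p) (Char.block_nonempty hP hB)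
  have hcl := Char.card_conjClass_factorization (p := p) g
  have hδ := (Char.blockHeight_eq_zero_iff hχ).mp h0
  set K := Nat.card {y : Perm (Fin n) // IsConj g y} with hK
  have he : Char.dexp p (χ : Perm (Fin n) → ℂ) = K.factorization p := by omega
  have hKm : p ^ Char.dexp p (χ : Perm (Fin n) → ℂ) * (K / p ^ K.factorization p) = K := by
    rw [he]; exact Nat.ordProj_mul_ordCompl_eq_self _ _
  generalize K / p ^ K.factorization p = m at hKm
  have hc0 : (c : ℂ) ≠ 0 := Nat.cast_ne_zero.mpr fun h => hc (h ▸ dvd_zero p)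
  have hp0 := pow_ne_zero (Char.dexp p (χ : Perm (Fin n) → ℂ)) (Nat.cast_ne_zero.mpr hp.ne_zero : (p : ℂ) ≠ 0)
  have e : (K : ℂ) / (χ : Perm (Fin n) → ℂ) 1 = (m : ℂ) * (c : ℂ)⁻¹ := by
    rw [← hKm, Char.char_one_eq_deg (Char.irr_isCharacter χ.2), hdeg]
    push_cast
    field_simp
  rw [e]
  exact Char.memLR_mul hP (Char.memLR_natCast hP m) (Char.memLR_inv_natCast hM hc)

/-- A residue class of labels makes up a single block. -/
theorem mem_block_of_sameRes {j : ℕ} (hM : IsPModular (j + 1) M) {B : Set (IrrCharacter (Perm (Fin n)))}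
    (hB : IsPBlock M B) (h : n ≤ N) {v : Fin N → ℤ} (hv : v ∈ Beta N n) (hvB : chi ⟨v, hv⟩ ∈ B) {w : ℕ}
    (hw : (n : ℤ) + ∑ i, del N i = base (j + 1) (beads (j + 1) v) + (j + 1 : ℕ) * w)
    {v' : Fin N → ℤ} (hv' : v' ∈ Beta N n) (hres : res (j + 1) v' = res (j + 1) v) :
    chi ⟨v', hv'⟩ ∈ B := by
  classical
  have hp := hM.1
  haveI := Fact.mk hp
  have hP := Char.pmod_prime hM
  set B' := blockOf M (chi ⟨v', hv'⟩ : Perm (Fin n) → ℂ) with hB'def
  have hB' : IsPBlock M B' := Char.isPBlock_blockOf M _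
  have hv'B : chi ⟨v', hv'⟩ ∈ B' := Char.self_mem_blockOf hP _
  have hw' : (n : ℤ) + ∑ i, del N i = base (j + 1) (beads (j + 1) v') + (j + 1 : ℕ) * w := by
    rw [beads_congr hres]; exact hw
  obtain ⟨x, y, D, hx, hy, hDy, hE, -, hyfix, hd, -⟩ := defect_shape hM hB h hv hvB hw
  obtain ⟨x', y', D', hx', hy', hDy', hE', -, hyfix', hd', -⟩ := defect_shape hM hB' h hv' hv'B hw'
  obtain ⟨hxp, hxs⟩ := parts_replicate hp hx
  obtain ⟨hxp', hxs'⟩ := parts_replicate hp hx'
  obtain ⟨χ, hχ, h0⟩ := Char.exists_height_zero (p := j + 1) (Char.block_nonempty hP hB)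
  obtain ⟨χ', hχ', h0'⟩ := Char.exists_height_zero (p := j + 1) (Char.block_nonempty hP hB')
  obtain ⟨u, hu, hχu⟩ := exists_label h χ
  obtain ⟨u', hu', hχu'⟩ := exists_label h χ'
  have hru : res (j + 1) u = res (j + 1) v := sameRes_of_sameBlock hM h hv hu (by
    rw [← hχu]; exact (Char.mem_block_iff hP hB hvB χ).mp hχ)
  have hru' : res (j + 1) u' = res (j + 1) v' := sameRes_of_sameBlock hM h hv' hu' (by
    rw [← hχu']; exact (Char.mem_block_iff hP hB' hv'B χ').mp hχ')
  -- values at the classes of this type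
  have hinju := (mem_Beta.mp hu).2.injective
  have hinju' := (mem_Beta.mp hu').2.injective
  obtain ⟨σ, hσ⟩ := pushed_eq_comp (Nat.succ_pos j) hinju hinju' (hru'.trans (hres.trans hru.symm))
  set d := (((j + 1) * w) !).factorization (j + 1) with hdd
  have hval : ∀ {t : Fin N → ℤ}, t ∈ Beta N n → res (j + 1) t = res (j + 1) v →
      ∃ K : ℤ, ∀ μ : Multiset ℕ,
        ((F (Multiset.replicate ((j + 1) * w) 1 + μ) t : ℤ) : ZMod (j + 1)) = (K : ZMod (j + 1)) * (F μ (pushed (j + 1) t) : ℤ) := by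
    intro t ht hrt
    obtain ⟨hA, hmono⟩ := mem_Beta.mp ht
    obtain ⟨K, -, hK, -⟩ := F_replicate (Nat.succ_pos j) w hmono.injective hA.1 (by
      rw [Finset.sum_sub_distrib, hA.2, sum_pushed (Nat.succ_pos j) hmono.injective, beads_congr hrt]; linarith) 0
    exact ⟨K, fun μ => by rw [F_ones_congr hp, hK μ, Int.cast_mul]⟩
  obtain ⟨K, hK⟩ := hval hu hru
  obtain ⟨K', hK'⟩ := hval hu' (hru'.trans hres)
  -- the classes
  have htype : ∀ g : Perm (Fin n), ¬ MemLocalIdeal M (blockCoeff B' g) →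
      (¬ MemLocalIdeal M (Char.omega (χ : Perm (Fin n) → ℂ) g) ∨ ¬ MemLocalIdeal M (Char.omega (χ' : Perm (Fin n) → ℂ) g)) →
      (Nat.card (Subgroup.centralizer ({g} : Set (Perm (Fin n))))).factorization (j + 1) = d ∧
        ∃ μ : Multiset ℕ, parts g = Multiset.replicate ((j + 1) * w) 1 + μ := by
    intro g hg hω
    have hreg : ¬ (j + 1) ∣ orderOf g := fun e => hg (by
      rw [Char.blockCoeff_eq_zero_of_singular hM hB' e]; exact Char.memLI_zero hP)
    obtain ⟨Q, hQ⟩ := Char.exists_isSylCent (j + 1) g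
    obtain ⟨s, hs⟩ := Char.le_defect_of_detect hM hB' hy' hDy' hQ.isPGroup hQ.self_mem_centralizer hg
    have hup : (Nat.card (Subgroup.centralizer ({g} : Set (Perm (Fin n))))).factorization (j + 1) ≤ d := by
      have h1 := Subgroup.card_le_of_le hs
      rw [Subgroup.card_map_of_injective (MulEquiv.injective _), hQ.card hp, hDy'.card hp,
        Char.factorization_centralizer_defectClass hM hB' hy', hd'] at h1
      exact (Nat.pow_le_pow_iff_right hp.one_lt).mp h1
    have hfin : ∀ (C : Set (IrrCharacter (Perm (Fin n)))) (hC : IsPBlock M C) (D₀ : Subgroup (Perm (Fin n)))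
        (x₀ y₀ : Perm (Fin n)) (θ₀ : IrrCharacter (Perm (Fin n))), θ₀ ∈ C → IsDefectClass M C y₀ →
        Char.IsSylCent (j + 1) y₀ D₀ → cyclewise x₀ ≤ D₀ → x₀ ^ (j + 1) = 1 → x₀.support.card = (j + 1) * w →
        blockDefect (j + 1) C = d → ¬ MemLocalIdeal M (Char.omega (θ₀ : Perm (Fin n) → ℂ) g) →
        d ≤ (Nat.card (Subgroup.centralizer ({g} : Set (Perm (Fin n))))).factorization (j + 1) ∧
        ∃ μ : Multiset ℕ, parts g = Multiset.replicate ((j + 1) * w) 1 + μ := by
      intro C hC D₀ x₀ y₀ θ₀ hθ₀ hy₀ hD₀ hE₀ hxp₀ hxs₀ hd₀ hω₀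
      obtain ⟨g', hconj, hc⟩ := Char.exists_conj_mem_centralizer hM hC hD₀.isPGroup hD₀.self_mem_centralizer
        hy₀.2.1 hθ₀ hω₀
      have hpg : parts g' = parts g := congrArg Nat.Partition.parts (Perm.partition_eq_of_isConj.mp hconj).symm
      obtain ⟨s, hs⟩ := isConj_iff.mp hconj
      refine ⟨?_, ?_⟩
      · rw [← hd₀, ← Char.factorization_centralizer_defectClass hM hC hy₀,
          ← (hp.pow_dvd_iff_le_factorization Nat.card_pos.ne'), ← hD₀.card hp]
        have hle : D₀.map (MulAut.conj s⁻¹).toMonoidHom ≤ Subgroup.centralizer ({g} : Set (Perm (Fin n))) := by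
          rintro _ ⟨a, ha, rfl⟩
          rw [Subgroup.mem_centralizer_singleton_iff]
          have h1 : a * g' = g' * a := Subgroup.mem_centralizer_iff.mp hc a ha
          show MulAut.conj s⁻¹ a * g = g * MulAut.conj s⁻¹ a
          rw [← hs] at h1
          simp only [MulAut.conj_apply, inv_inv]
          calc s⁻¹ * a * s * g = s⁻¹ * (a * (s * g * s⁻¹)) * s := by group
            _ = s⁻¹ * (s * g * s⁻¹ * a) * s := by rw [h1]
            _ = g * (s⁻¹ * a * s) := by group
        have := Subgroup.card_dvd_of_le hle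
        rwa [Subgroup.card_map_of_injective (MulEquiv.injective _)] at this
      · have hregg' : ¬ (j + 1) ∣ orderOf g' := by
          rwa [← hs, ← MulAut.conj_apply, MulEquiv.orderOf_eq]
        rw [← hpg]
        exact parts_of_fixed hxs₀ fun t ht => regular_fixes hp hxp₀ hregg'
          (fun e he => (show Commute e g' from Subgroup.mem_centralizer_iff.mp hc e (hE₀ he)).symm) ht
    rcases hω with hω | hω
    · obtain ⟨h1, h2⟩ := hfin B hB D x y χ hχ hy hDy hE hxp hxs hd hω
      exact ⟨le_antisymm hup h1, h2⟩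
    · obtain ⟨h1, h2⟩ := hfin B' hB' D' x' y' χ' hχ' hy' hDy' hE' hxp' hxs' hd' hω
      exact ⟨le_antisymm hup h1, h2⟩
  -- proportionality
  have hcross : ∀ g g₀ : Perm (Fin n),
      (Nat.card (Subgroup.centralizer ({g} : Set (Perm (Fin n))))).factorization (j + 1) = d →
      (∃ μ : Multiset ℕ, parts g = Multiset.replicate ((j + 1) * w) 1 + μ) →
      (Nat.card (Subgroup.centralizer ({g₀} : Set (Perm (Fin n))))).factorization (j + 1) = d →
      (∃ μ : Multiset ℕ, parts g₀ = Multiset.replicate ((j + 1) * w) 1 + μ) →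
      MemLocalIdeal M (Char.omega (χ' : Perm (Fin n) → ℂ) g₀ * Char.omega (χ : Perm (Fin n) → ℂ) g -
        Char.omega (χ : Perm (Fin n) → ℂ) g₀ * Char.omega (χ' : Perm (Fin n) → ℂ) g) := by
    rintro g g₀ hg ⟨μ, hμ⟩ hg₀ ⟨μ₀, hμ₀⟩
    have e1 : ∀ (f : Perm (Fin n) → ℂ) (q : Perm (Fin n)),
        Char.omega f q = (Nat.card {y : Perm (Fin n) // IsConj q y} : ℂ) / f 1 * f q := fun f q => by
      rw [Char.omega, mul_div_right_comm]
    have hsa := Char.memLR_mul hP (memLR_scalar hM hB' hd' hg₀ hχ' h0') (memLR_scalar hM hB hd hg hχ h0)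
    have hvu : ∀ q : Perm (Fin n), (χ : Perm (Fin n) → ℂ) q = (F (parts q) u : ℂ) := fun q => by rw [hχu]; rfl
    have hvu' : ∀ q : Perm (Fin n), (χ' : Perm (Fin n) → ℂ) q = (F (parts q) u' : ℂ) := fun q => by rw [hχu']; rfl
    have hdvd : ((j + 1 : ℕ) : ℤ) ∣ F (parts g₀) u' * F (parts g) u - F (parts g₀) u * F (parts g) u' := by
      rw [← ZMod.intCast_zmod_eq_zero_iff_dvd]
      push_cast
      rw [hμ, hμ₀, hK μ, hK μ₀, hK' μ, hK' μ₀, show pushed (j + 1) u' = pushed (j + 1) u ∘ σ from hσ, F_comp, F_comp]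
      push_cast
      ring
    have heq : Char.omega (χ' : Perm (Fin n) → ℂ) g₀ * Char.omega (χ : Perm (Fin n) → ℂ) g -
        Char.omega (χ : Perm (Fin n) → ℂ) g₀ * Char.omega (χ' : Perm (Fin n) → ℂ) g =
        (Nat.card {y : Perm (Fin n) // IsConj g₀ y} : ℂ) / (χ' : Perm (Fin n) → ℂ) 1 *
          ((Nat.card {y : Perm (Fin n) // IsConj g y} : ℂ) / (χ : Perm (Fin n) → ℂ) 1) *
        ((F (parts g₀) u' * F (parts g) u - F (parts g₀) u * F (parts g) u' : ℤ) : ℂ) := by
      rw [e1, e1, e1, e1, hvu g, hvu g₀, hvu' g, hvu' g₀]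
      push_cast
      ring
    rw [heq]
    exact Char.memLI_mul_left hP hsa ((Char.memLI_intCast_iff hM _).mpr hdvd)
  by_contra hno
  have hne : χ ∉ B' := fun hm => hno ((Char.mem_block_iff hP hB hχ _).mpr
    ((Char.mem_block_iff hP hB' hm _).mp hv'B))
  have hω' : ¬ MemLocalIdeal M (Char.omega (χ' : Perm (Fin n) → ℂ) y') :=
    (Char.omega_unit_iff hM hB' hχ' y').mp hy'.2.2
  have hω : ¬ MemLocalIdeal M (Char.omega (χ : Perm (Fin n) → ℂ) y) := (Char.omega_unit_iff hM hB hχ y).mp hy.2.2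
  obtain ⟨t', ht'⟩ := htype y' hy'.2.1 (Or.inr hω')
  have hLR : ∀ (θ₀ : IrrCharacter (Perm (Fin n))) (q : Perm (Fin n)),
      MemLocalRing M (Char.omega (θ₀ : Perm (Fin n) → ℂ) q) := fun θ₀ q => Char.memLR_omega hP θ₀.2 q
  -- the idempotent of `B'` separates the two characters
  have hz : MemLocalIdeal M (Char.omega (χ : Perm (Fin n) → ℂ) y') := by
    haveI : Fintype (ConjClasses (Perm (Fin n))) := Fintype.ofFinite _
    have h1 := Char.lam_blockCoeff B' χ'
    have h2 := Char.lam_blockCoeff B' χ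
    rw [if_pos hχ', Char.lam_eq_sum_omega (Char.isClassFunction_character (Char.irr_isCharacter χ'.2))
      (Char.isClassFunction_blockCoeff B')] at h1
    rw [if_neg hne, Char.lam_eq_sum_omega (Char.isClassFunction_character (Char.irr_isCharacter χ.2))
      (Char.isClassFunction_blockCoeff B')] at h2
    have hsum : MemLocalIdeal M (∑ C : ConjClasses (Perm (Fin n)), blockCoeff B' C.out *
        (Char.omega (χ' : Perm (Fin n) → ℂ) y' * Char.omega (χ : Perm (Fin n) → ℂ) C.out -
          Char.omega (χ : Perm (Fin n) → ℂ) y' * Char.omega (χ' : Perm (Fin n) → ℂ) C.out)) := by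
      refine Char.memLI_sum hP _ _ fun C _ => ?_
      by_cases he : MemLocalIdeal M (blockCoeff B' C.out)
      · exact Char.memLI_mul_right hP he (Char.memLR_sub hP (Char.memLR_mul hP (hLR _ _) (hLR _ _))
          (Char.memLR_mul hP (hLR _ _) (hLR _ _)))
      · refine Char.memLI_mul_left hP (Char.memLR_blockCoeff hM hB' _) ?_
        by_cases hor : MemLocalIdeal M (Char.omega (χ : Perm (Fin n) → ℂ) C.out) ∧
            MemLocalIdeal M (Char.omega (χ' : Perm (Fin n) → ℂ) C.out)
        · exact Char.memLI_sub hP (Char.memLI_mul_left hP (hLR _ _) hor.1) (Char.memLI_mul_left hP (hLR _ _) hor.2)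
        · obtain ⟨hc, hμ⟩ := htype C.out he (not_and_or.mp hor)
          exact hcross C.out y' hc hμ t' ht'
    simp only [mul_sub, Finset.sum_sub_distrib, mul_left_comm (blockCoeff B' _), ← Finset.mul_sum] at hsum
    rw [h1, h2, mul_zero, mul_one, zero_sub] at hsum
    simpa using Char.memLI_neg hP hsum
  have hc := hcross y y' ((Char.factorization_centralizer_defectClass hM hB hy).trans hd)
    (parts_of_fixed hxs hyfix) t' ht'
  have hprod : MemLocalIdeal M (Char.omega (χ' : Perm (Fin n) → ℂ) y' * Char.omega (χ : Perm (Fin n) → ℂ) y) :=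
    Char.memLI_congr hP hc (Char.memLI_mul_right hP hz (hLR _ _))
  rcases Char.memLI_mul_mem hP (hLR _ _) (hLR _ _) hprod with h | h
  · exact hω' h
  · exact hω h

end Cfsg.Agent.SymChar
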