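import Cfsg.Agent.Lib.Char.SymmetricSylowGen
import Cfsg.Agent.Lib.Char.Linear
import Cfsg.Agent.Lib.Char.DegreeDvd
import Cfsg.Agent.Lib.Char.Inflate
import Cfsg.Agent.Lib.Char.SymChar.DefectShape

/-!
# Characters of degree `p` of iterated wreath products
-/

set_option autoImplicit false
set_option linter.style.haveILetI false
set_option linter.unusedSectionVars false

namespace Cfsg.Agent.SymChar

open Cfsg
open scoped commutatorElement

attribute [local instance] Fintype.ofFinite

/-- Having an irreducible character of degree `p`. -/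
def HasDeg (p : ℕ) (P : Type) [Group P] : Prop :=
  ∃ χ : IrrCharacter P, charDegree (χ : P → ℂ) = p

theorem hasDeg_of_surj {P Q : Type} [Group P] [Group Q] [Finite P] [Finite Q] {p : ℕ} (f : P →* Q)
    (hf : Function.Surjective f) (h : HasDeg p Q) : HasDeg p P := by
  obtain ⟨χ, hχ⟩ := h
  refine ⟨⟨fun a => (χ : Q → ℂ) (f a), Char.isIrr_inflate f.ker
    (Char.isIrrCharacter_comp_equiv (QuotientGroup.quotientKerEquivOfSurjective f hf) χ.2)⟩, ?_⟩
  show ⌊((χ : Q → ℂ) (f 1)).re⌋₊ = p
  rw [map_one]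
  exact hχ

theorem zmod_two_cases : (∀ j : ZMod 2, j = 0 ∨ j = 1) ∧ (1 + 1 : ZMod 2) = 0 := by decide

variable {p : ℕ} [hp : Fact p.Prime]

theorem hasDeg_of_abelian_kernel {P T : Type} [Group P] [Group T] [Finite P] (f : P →* T) (a b : P)
    (hne : f a * f b ≠ f b * f a) (c : P →* Multiplicative (ZMod p))
    (hcomm : ∀ x y, c x = 1 → c y = 1 → f x * f y = f y * f x) : HasDeg p P := by
  classical
  haveI : NeZero p := ⟨hp.out.ne_zero⟩
  refine hasDeg_of_surj f.rangeRestrict f.rangeRestrict_surjective ?_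
  set A := c.ker.map f.rangeRestrict with hA
  haveI : A.Normal := Subgroup.Normal.map inferInstance _ f.rangeRestrict_surjective
  have hab : ∀ x y : A, x * y = y * x := by
    rintro ⟨_, x, hx, rfl⟩ ⟨_, y, hy, rfl⟩
    exact Subtype.ext (Subtype.ext (hcomm x y hx hy))
  have hidx : A.index ∣ p := by
    refine (Subgroup.index_map_dvd _ f.rangeRestrict_surjective).trans ?_
    rw [Subgroup.index_ker]
    have h := Subgroup.card_subgroup_dvd_card c.range
    rwa [Nat.card_congr (Multiplicative.toAdd : Multiplicative (ZMod p) ≃ ZMod p), Nat.card_zmod] at h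
  obtain ⟨χ, hχ⟩ : ∃ χ : IrrCharacter f.range, (χ : f.range → ℂ) 1 ≠ 1 := by
    by_contra hno
    push Not at hno
    exact hne (congrArg Subtype.val (Char.forall_linear_iff_comm.mpr hno (f.rangeRestrict a) (f.rangeRestrict b)))
  refine ⟨χ, ?_⟩
  have h := (Char.deg_dvd_index_abelian_normal χ.2 A hab).trans hidx
  rcases hp.out.eq_one_or_self_of_dvd _ h with e | e
  · exact absurd (by rw [Char.char_one_eq_deg (Char.irr_isCharacter χ.2), e, Nat.cast_one]) hχ
  · exact e

theorem exists_detect {X : Type} {S : Type} [Group S] [Finite S] [MulAction S X] (hS : IsPGroup p S)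
    {t : X} {s : S} (hst : s • t ≠ t) :
    ∃ χ : S →* Multiplicative (ZMod p), (∀ s, s • t = t → χ s = 1) ∧
      ∃ s, χ s = Multiplicative.ofAdd 1 := by
  classical
  haveI : NeZero p := ⟨hp.out.ne_zero⟩
  obtain ⟨k, hk⟩ := IsPGroup.iff_card.mp hS
  obtain ⟨l, hl⟩ := IsPGroup.iff_card.mp (hS.to_subgroup (MulAction.stabilizer S t))
  have hlk : l < k := by
    have h1 : Nat.card (MulAction.stabilizer S t) < Nat.card S := by
      refine lt_of_le_of_ne (Nat.card_le_card_of_injective _ Subtype.val_injective) fun e => hst ?_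
      exact MulAction.mem_stabilizer_iff.mp ((Subgroup.eq_top_of_card_eq _ e).symm ▸ Subgroup.mem_top s)
    rw [hk, hl] at h1
    exact (Nat.pow_lt_pow_iff_right hp.out.one_lt).mp h1
  obtain ⟨K, hK, hle⟩ := Sylow.exists_subgroup_card_pow_prime_le p (m := k - 1)
    (hk ▸ Nat.pow_dvd_pow p (Nat.sub_le k 1)) (MulAction.stabilizer S t) hl (by omega)
  have hidx : K.index = p := by
    have h := K.index_mul_card
    rw [hK, hk] at h
    have : p ^ k = p * p ^ (k - 1) := by rw [← pow_succ']; congr 1; omega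
    rw [this] at h
    exact Nat.eq_of_mul_eq_mul_right (pow_pos hp.out.pos _) h
  haveI : K.Normal := Subgroup.normal_of_index_eq_minFac_card (by
    rw [hidx, hk, Nat.pow_minFac (by omega), hp.out.minFac_eq])
  have hq : Nat.card (S ⧸ K) = p := hidx
  have hz : Nat.card (Multiplicative (ZMod p)) = p := by
    rw [Nat.card_congr (Multiplicative.toAdd : Multiplicative (ZMod p) ≃ ZMod p), Nat.card_zmod]
  let e := mulEquivOfPrimeCardEq hq hz
  refine ⟨e.toMonoidHom.comp (QuotientGroup.mk' K), fun s hs => ?_, ?_⟩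
  · show e (QuotientGroup.mk' K s) = 1
    rw [show QuotientGroup.mk' K s = 1 from (QuotientGroup.eq_one_iff s).mpr (hle hs), map_one]
  · obtain ⟨s, hs⟩ := QuotientGroup.mk'_surjective K (e.symm (Multiplicative.ofAdd 1))
    exact ⟨s, by show e (QuotientGroup.mk' K s) = _; rw [hs, MulEquiv.apply_symm_apply]⟩

section Wreath

open Char.SymGen

variable {m : ℕ}

/-- The permutation of the blocks. -/
noncomputable def blockPart {S : Subgroup (Equiv.Perm (Fin m))} (g : wr (p := p) S) : S :=
  ⟨g.2.choose, g.2.choose_spec.1⟩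

theorem apply_blockPart {S : Subgroup (Equiv.Perm (Fin m))} (g : wr (p := p) S) :
    ∃ v : Fin m → Multiplicative (ZMod p),
      ∀ i j, (g : Equiv.Perm (Fin m × ZMod p)) (i, j) =
        ((blockPart g : Equiv.Perm (Fin m)) i, j + Multiplicative.toAdd (v i)) := by
  obtain ⟨v, hv⟩ := g.2.choose_spec.2
  exact ⟨v, fun i j => (congrArg (fun f : Equiv.Perm (Fin m × ZMod p) => f (i, j)) hv).trans rfl⟩

theorem apply_fst {S : Subgroup (Equiv.Perm (Fin m))} (g : wr (p := p) S) (i : Fin m) (j : ZMod p) :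
    (g : Equiv.Perm (Fin m × ZMod p)) (i, j) =
      ((blockPart g : Equiv.Perm (Fin m)) i, j + ((g : Equiv.Perm (Fin m × ZMod p)) (i, 0)).2) := by
  obtain ⟨v, hv⟩ := apply_blockPart g
  rw [hv i j, hv i 0, zero_add]

/-- The block permutation as a homomorphism. -/
noncomputable def blockHom (S : Subgroup (Equiv.Perm (Fin m))) : wr (p := p) S →* S :=
  MonoidHom.mk' blockPart fun g h => by
    refine Subtype.ext (Equiv.ext fun i => ?_)
    have h1 := congrArg Prod.fst (apply_fst (g * h) i 0)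
    rw [Subgroup.coe_mul, Equiv.Perm.mul_apply, apply_fst h i, apply_fst g] at h1
    exact h1.symm

theorem blockHom_lift {S : Subgroup (Equiv.Perm (Fin m))} {h : Equiv.Perm (Fin m)} (hh : h ∈ S)
    (v : Fin m → Multiplicative (ZMod p)) :
    blockHom S (⟨lift h * Char.SymGen.base v, h, hh, v, rfl⟩ : wr (p := p) S) = ⟨h, hh⟩ := by
  refine Subtype.ext (Equiv.ext fun i => ?_)
  exact (congrArg Prod.fst (apply_fst (⟨lift h * Char.SymGen.base v, h, hh, v, rfl⟩ : wr (p := p) S) i 0)).symm

/-- Degree `p` from a subgroup of the wreath product. -/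
theorem hasDeg_of_wr {S : Subgroup (Equiv.Perm (Fin m))} (P : Subgroup (Equiv.Perm (Fin m × ZMod p)))
    (hP : P ≤ wr S) (χ : S →* Multiplicative (ZMod p)) {t : Fin m}
    (hstab : ∀ s : S, (s : Equiv.Perm (Fin m)) t = t → χ s = 1)
    (b : P) (hb : χ (blockHom S (Subgroup.inclusion hP b)) = Multiplicative.ofAdd 1)
    (v : Fin m → Multiplicative (ZMod p)) (hv : Char.SymGen.base v ∈ P)
    (hvt : Multiplicative.toAdd (v t) = 1)
    (hvo : ∀ i, (∃ s : S, (s : Equiv.Perm (Fin m)) t = i) → i ≠ t → v i = 1) : HasDeg p P := by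
  classical
  haveI : NeZero p := ⟨hp.out.ne_zero⟩
  let κ : Fin m → Option (ZMod p) := fun i =>
    if h : ∃ s : S, (s : Equiv.Perm (Fin m)) t = i then some (Multiplicative.toAdd (χ h.choose)) else none
  have hκ : ∀ s : S, κ ((s : Equiv.Perm (Fin m)) t) = some (Multiplicative.toAdd (χ s)) := by
    intro s
    have h : ∃ r : S, (r : Equiv.Perm (Fin m)) t = (s : Equiv.Perm (Fin m)) t := ⟨s, rfl⟩
    simp only [κ, dif_pos h]
    have h1 : χ (s⁻¹ * h.choose) = 1 := hstab _ (by
      rw [Subgroup.coe_mul, Equiv.Perm.mul_apply, h.choose_spec, Subgroup.coe_inv, Equiv.Perm.inv_def,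
        Equiv.symm_apply_apply])
    rw [map_mul, map_inv, inv_mul_eq_one] at h1
    rw [h1]
  have hmove : ∀ (h : S) i, κ ((h : Equiv.Perm (Fin m)) i) =
      (κ i).map fun k => k + Multiplicative.toAdd (χ h) := by
    intro h i
    by_cases hi : ∃ s : S, (s : Equiv.Perm (Fin m)) t = i
    · obtain ⟨s, rfl⟩ := hi
      rw [show (h : Equiv.Perm (Fin m)) ((s : Equiv.Perm (Fin m)) t) = ((h * s : S) : Equiv.Perm (Fin m)) t from rfl,
        hκ, hκ, map_mul, toAdd_mul, Option.map_some, add_comm]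
    · have hi' : ¬ ∃ s : S, (s : Equiv.Perm (Fin m)) t = (h : Equiv.Perm (Fin m)) i := by
        rintro ⟨s, hs⟩
        exact hi ⟨h⁻¹ * s, by rw [Subgroup.coe_mul, Equiv.Perm.mul_apply, hs, Subgroup.coe_inv,
          Equiv.Perm.inv_def, Equiv.symm_apply_apply]⟩
      simp only [κ, dif_neg hi, dif_neg hi', Option.map_none]
  -- the colour sums
  let sh : P → Fin m → ZMod p := fun g i => ((g : Equiv.Perm (Fin m × ZMod p)) (i, 0)).2
  let bp : P → S := fun g => blockHom S (Subgroup.inclusion hP g)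
  let x : P → ZMod p := fun g => Multiplicative.toAdd (χ (bp g))
  let V : P → ZMod p → ZMod p := fun g k => ∑ i ∈ Finset.univ.filter (fun i => κ i = some k), sh g i
  have hfst : ∀ (g : P) i j, (g : Equiv.Perm (Fin m × ZMod p)) (i, j) =
      ((bp g : Equiv.Perm (Fin m)) i, j + sh g i) := fun g i j => apply_fst (Subgroup.inclusion hP g) i j
  have hsh : ∀ (g h : P) i, sh (g * h) i = sh h i + sh g ((bp h : Equiv.Perm (Fin m)) i) := by
    intro g h i
    show ((((g : Equiv.Perm (Fin m × ZMod p)) * (h : Equiv.Perm (Fin m × ZMod p))) (i, 0)).2) = _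
    rw [Equiv.Perm.mul_apply, hfst h, hfst g, zero_add]
  have hx : ∀ g h : P, x (g * h) = x g + x h := fun g h => by
    simp only [x, bp, map_mul, toAdd_mul]
  have hV : ∀ (g h : P) k, V (g * h) k = V h k + V g (k + x h) := by
    intro g h k
    simp only [V, hsh, Finset.sum_add_distrib]
    congr 1
    refine Finset.sum_equiv (bp h : Equiv.Perm (Fin m)) (fun i => ?_) fun i _ => rfl
    simp only [Finset.mem_filter, Finset.mem_univ, true_and, hmove]
    cases κ i with
    | none => simp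
    | some a => simp [x]
  let act : P →* Equiv.Perm (ZMod p × ZMod p) := MonoidHom.mk' (fun g =>
    { toFun := fun q => (q.1 + V g q.2, q.2 + x g)
      invFun := fun q => (q.1 - V g (q.2 - x g), q.2 - x g)
      left_inv := fun q => by simp
      right_inv := fun q => by simp }) fun g h => Equiv.ext fun q => by
    show (q.1 + V (g * h) q.2, q.2 + x (g * h)) = (q.1 + V h q.2 + V g (q.2 + x h), q.2 + x h + x g)
    rw [hV, hx]
    refine Prod.ext ?_ ?_ <;> simp only <;> ring
  let c : P →* Multiplicative (ZMod p) := χ.comp ((blockHom S).comp (Subgroup.inclusion hP))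
  set a : P := ⟨Char.SymGen.base v, hv⟩ with ha
  have hbpa : bp a = 1 := by
    refine Subtype.ext (Equiv.ext fun i => ?_)
    exact (congrArg Prod.fst (hfst a i 0)).symm
  have hxa : x a = 0 := by simp [x, hbpa]
  have hsha : ∀ i, sh a i = Multiplicative.toAdd (v i) := fun i => by
    show (Char.SymGen.base v (i, (0 : ZMod p))).2 = _
    rw [base_apply, zero_add]
  have hVa : ∀ k, V a k = if k = 0 then 1 else 0 := by
    intro k
    have h0 : κ t = some 0 := by
      have := hκ 1
      simpa using this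
    simp only [V, hsha, Finset.sum_filter]
    rw [Finset.sum_eq_single t]
    · rw [h0, hvt]
      by_cases hk : k = 0
      · rw [if_pos hk, if_pos (by rw [hk])]
      · rw [if_neg hk, if_neg (fun e => hk (Option.some.inj e).symm)]
    · intro i _ hi
      by_cases ho : ∃ s : S, (s : Equiv.Perm (Fin m)) t = i
      · rw [hvo i ho hi, toAdd_one, ite_self]
      · rw [if_neg (by rw [show κ i = none from dif_neg ho]; simp)]
    · exact fun h => absurd (Finset.mem_univ t) h
  have hxb : x b = 1 := by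
    show Multiplicative.toAdd (χ (blockHom S (Subgroup.inclusion hP b))) = 1
    rw [hb]; rfl
  refine hasDeg_of_abelian_kernel act a b (fun e => ?_) c fun g h hg hh => ?_
  · have h1 := congrArg Prod.fst (congr_fun (congrArg DFunLike.coe e) ((0, 0) : ZMod p × ZMod p))
    rw [← map_mul, ← map_mul] at h1
    change 0 + V (a * b) 0 = 0 + V (b * a) 0 at h1
    simp only [hV, hVa, hxa, hxb, zero_add, add_zero, if_true, if_neg (one_ne_zero (α := ZMod p))] at h1
    exact one_ne_zero (show (1 : ZMod p) = 0 by linear_combination -h1)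
  · rw [← map_mul, ← map_mul]
    have hgx : x g = 0 := by show Multiplicative.toAdd (c g) = 0; rw [hg]; rfl
    have hhx : x h = 0 := by show Multiplicative.toAdd (c h) = 0; rw [hh]; rfl
    refine Equiv.ext fun q => ?_
    show (q.1 + V (g * h) q.2, q.2 + x (g * h)) = (q.1 + V (h * g) q.2, q.2 + x (h * g))
    rw [hV, hV, hx, hx, hgx, hhx, add_zero, add_comm (V h q.2)]

theorem sylow_card (m : ℕ) (S : Sylow p (Equiv.Perm (Fin m))) :
    Nat.card (S : Subgroup (Equiv.Perm (Fin m))) = p ^ m.factorial.factorization p := by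
  rw [S.card_eq_multiplicity, Nat.card_perm, Nat.card_fin]

theorem card_wr_sylow (m : ℕ) (S : Sylow p (Equiv.Perm (Fin m))) :
    Nat.card (wr (p := p) (S : Subgroup (Equiv.Perm (Fin m)))) = p ^ (p * m).factorial.factorization p := by
  rw [card_wr, sylow_card, ← pow_add, Nat.factorization_def _ hp.out, Nat.factorization_def _ hp.out,
    padicValNat_factorial_mul, add_comm]

theorem exists_moved {m : ℕ} (hm : p ≤ m) (S : Sylow p (Equiv.Perm (Fin m))) :
    ∃ (s : (S : Subgroup (Equiv.Perm (Fin m)))) (t : Fin m), s • t ≠ t := by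
  by_contra hno
  push Not at hno
  have hbot : (S : Subgroup (Equiv.Perm (Fin m))) = ⊥ := (Subgroup.eq_bot_iff_forall _).mpr fun s hs =>
    Equiv.ext fun t => hno ⟨s, hs⟩ t
  have h := sylow_card m S
  rw [hbot, Subgroup.card_bot] at h
  have h1 : 1 ≤ m.factorial.factorization p := (hp.out.dvd_iff_one_le_factorization (Nat.factorial_ne_zero m)).mp
    (Nat.dvd_factorial hp.out.pos hm)
  have h2 := Nat.one_lt_pow (a := p) (by omega : m.factorial.factorization p ≠ 0) hp.out.one_lt
  omega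

theorem hasDeg_wr {m : ℕ} (hm : p ≤ m) (S : Sylow p (Equiv.Perm (Fin m))) :
    HasDeg p (wr (p := p) (S : Subgroup (Equiv.Perm (Fin m)))) := by
  obtain ⟨s, t, hst⟩ := exists_moved hm S
  obtain ⟨χ, hstab, s₁, hs₁⟩ := exists_detect S.isPGroup' hst
  refine hasDeg_of_wr (wr (S : Subgroup (Equiv.Perm (Fin m)))) le_rfl χ (t := t) hstab
    ⟨lift (s₁ : Equiv.Perm (Fin m)) * Char.SymGen.base 1, _, s₁.2, 1, rfl⟩ ?_ (Pi.mulSingle t (Multiplicative.ofAdd 1))
    ⟨1, one_mem _, _, by rw [MonoidHom.map_one, one_mul]⟩ (by simp) (fun i _ hi => Pi.mulSingle_eq_of_ne hi _)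
  show χ (blockHom _ _) = _
  rw [← hs₁]
  exact congrArg χ (blockHom_lift s₁.2 1)

theorem hasDeg_sylow {n : ℕ} (hn : p * p ≤ n) (P : Sylow p (Equiv.Perm (Fin n))) :
    HasDeg p (P : Subgroup (Equiv.Perm (Fin n))) := by
  haveI : NeZero p := ⟨hp.out.ne_zero⟩
  obtain ⟨m, r, hm, hr⟩ : ∃ m r, n = p * m + r ∧ r < p :=
    ⟨n / p, n % p, (Nat.div_add_mod n p).symm, Nat.mod_lt _ hp.out.pos⟩
  have hpm : p ≤ m := by
    by_contra hlt
    have := Nat.mul_le_mul_left p (Nat.succ_le_of_lt (Nat.lt_of_not_le hlt))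
    rw [Nat.mul_succ] at this
    omega
  obtain ⟨S⟩ : Nonempty (Sylow p (Equiv.Perm (Fin m))) := inferInstance
  let e : (Fin m × ZMod p) ⊕ Fin r ≃ Fin n :=
    Fintype.equivFinOfCardEq (by
      rw [Fintype.card_sum, Fintype.card_prod, Fintype.card_fin, Fintype.card_fin, ZMod.card, hm, mul_comm])
  let F : Equiv.Perm (Fin m × ZMod p) →* Equiv.Perm (Fin n) :=
    (Equiv.permCongrHom e).toMonoidHom.comp
      ((Equiv.Perm.sumCongrHom (Fin m × ZMod p) (Fin r)).comp (MonoidHom.inl _ _))
  have hF : Function.Injective F := (Equiv.permCongrHom e).injective.comp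
    (Equiv.Perm.sumCongrHom_injective.comp fun a b h => (Prod.mk.inj h).1)
  let W := (wr (p := p) (S : Subgroup (Equiv.Perm (Fin m)))).map F
  have hW : Nat.card W = p ^ (Nat.card (Equiv.Perm (Fin n))).factorization p := by
    rw [Subgroup.card_map_of_injective hF, card_wr_sylow, Nat.card_perm, Nat.card_fin, hm,
      Nat.factorization_def _ hp.out, Nat.factorization_def _ hp.out, padicValNat_factorial_mul_add m hr]
  let eW : (P : Subgroup (Equiv.Perm (Fin n))) ≃* wr (p := p) (S : Subgroup (Equiv.Perm (Fin m))) :=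
    (P.equiv (Sylow.ofCard W hW)).trans
      ((MulEquiv.subgroupCongr (Sylow.coe_ofCard W hW)).trans
        (Subgroup.equivMapOfInjective _ F hF).symm)
  exact hasDeg_of_surj eW.toMonoidHom eW.surjective (hasDeg_wr hpm S)

theorem isMulCommutative_wr_bot {m : ℕ} {S : Subgroup (Equiv.Perm (Fin m))} (hS : S = ⊥) :
    ∀ g ∈ wr (p := p) S, ∀ h ∈ wr (p := p) S, g * h = h * g := by
  rintro _ ⟨s, hs, u, rfl⟩ _ ⟨s', hs', u', rfl⟩
  obtain rfl : s = 1 := Subgroup.mem_bot.mp (hS ▸ hs)
  obtain rfl : s' = 1 := Subgroup.mem_bot.mp (hS ▸ hs')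
  rw [map_one, one_mul, one_mul, ← map_mul, ← map_mul, mul_comm]

section Two

variable [NeZero p]

theorem sign_base_comp (h : Equiv.Perm (Fin m)) (v : Fin m → Multiplicative (ZMod p)) :
    Equiv.Perm.sign (Char.SymGen.base (v ∘ h)) = Equiv.Perm.sign (Char.SymGen.base v) := by
  have e := congrArg Equiv.Perm.sign (base_lift (p := p) h v)
  rw [map_mul, map_mul, mul_comm] at e
  exact (mul_left_cancel e).symm

/-- The even part of the wreath product for the prime two. -/
theorem hasDeg_wr_even (hp2 : p = 2) {m : ℕ} (hm : 3 ≤ m) (S : Sylow p (Equiv.Perm (Fin m))) :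
    HasDeg p (wr (p := p) (S : Subgroup (Equiv.Perm (Fin m))) ⊓ alternatingGroup (Fin m × ZMod p) :
      Subgroup (Equiv.Perm (Fin m × ZMod p))) := by
  set P := wr (p := p) (S : Subgroup (Equiv.Perm (Fin m))) ⊓ alternatingGroup (Fin m × ZMod p) with hP
  have hlift : ∀ s ∈ (S : Subgroup (Equiv.Perm (Fin m))), lift (p := p) s * Char.SymGen.base 1 ∈ P := fun s hs =>
    ⟨⟨s, hs, 1, rfl⟩, Equiv.Perm.mem_alternatingGroup.mpr (by
      rw [map_one, mul_one]; exact sign_lift_two hp2 s)⟩
  rcases Nat.lt_or_ge m 4 with h4 | h4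
  · obtain rfl : m = 3 := by omega
    obtain ⟨s, t, hst⟩ := exists_moved (by omega) S
    obtain ⟨χ, hstab, s₁, hs₁⟩ := exists_detect S.isPGroup' hst
    obtain ⟨u, hu⟩ : ∃ u, ∀ s : (S : Subgroup (Equiv.Perm (Fin 3))), (s : Equiv.Perm (Fin 3)) t ≠ u := by
      by_contra hno
      push Not at hno
      have h := Nat.card_le_card_of_surjective
        (fun s : (S : Subgroup (Equiv.Perm (Fin 3))) => (s : Equiv.Perm (Fin 3)) t) hno
      rw [sylow_card, Nat.card_fin] at h
      have h6 : (Nat.factorial 3).factorization 2 = 1 := by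
        rw [Nat.factorization_def _ Nat.prime_two, show Nat.factorial 3 = 2 * 3 by rfl, padicValNat.mul (by omega) (by omega),
          padicValNat.self (by omega), padicValNat.eq_zero_of_not_dvd (by omega)]
      rw [hp2, h6] at h
      omega
    have htu : t ≠ u := fun e => hu 1 e
    have hsg : Equiv.Perm.sign (Char.SymGen.base (p := p) (Pi.mulSingle u (Multiplicative.ofAdd 1))) =
        Equiv.Perm.sign (Char.SymGen.base (p := p) (Pi.mulSingle t (Multiplicative.ofAdd 1))) := by
      rw [← sign_base_comp (Equiv.swap t u) (Pi.mulSingle t (Multiplicative.ofAdd 1))]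
      congr 2
      funext i
      simp only [Function.comp_apply, Pi.mulSingle_apply, Equiv.swap_apply_eq_iff, Equiv.swap_apply_left]
    refine hasDeg_of_wr P inf_le_left χ (t := t) hstab ⟨_, hlift _ s₁.2⟩ ?_
      (Pi.mulSingle t (Multiplicative.ofAdd 1) * Pi.mulSingle u (Multiplicative.ofAdd 1))
      ⟨⟨1, one_mem _, _, by rw [MonoidHom.map_one, one_mul]⟩, Equiv.Perm.mem_alternatingGroup.mpr (by
        rw [map_mul, map_mul, hsg, Int.units_mul_self])⟩ (by simp [htu]) (fun i ⟨r, hr⟩ hi => by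
        rw [Pi.mul_apply, Pi.mulSingle_eq_of_ne hi, Pi.mulSingle_eq_of_ne (fun e => hu r (hr.trans e)), mul_one])
    show χ (blockHom _ _) = _
    rw [← hs₁]
    exact congrArg χ (blockHom_lift s₁.2 1)
  · refine hasDeg_of_surj ((blockHom (S : Subgroup (Equiv.Perm (Fin m)))).comp
      (Subgroup.inclusion (inf_le_left : P ≤ wr (p := p) _))) (fun s => ⟨⟨_, hlift _ s.2⟩, ?_⟩)
      (hasDeg_sylow (by rw [hp2]; omega) S)
    exact blockHom_lift s.2 1

theorem sign_base_single (hp2 : p = 2) {m : ℕ} (t : Fin m) :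
    Equiv.Perm.sign (Char.SymGen.base (p := p) (Pi.mulSingle t (Multiplicative.ofAdd 1))) = -1 := by
  subst hp2
  have e : Char.SymGen.base (p := 2) (Pi.mulSingle t (Multiplicative.ofAdd 1)) = Equiv.swap (t, 0) (t, 1) := by
    refine Equiv.ext fun ⟨i, j⟩ => ?_
    rw [base_apply]
    rcases eq_or_ne i t with rfl | hi
    · rw [Pi.mulSingle_eq_same, toAdd_ofAdd]
      obtain rfl | rfl := zmod_two_cases.1 j
      · rw [Equiv.swap_apply_left, zero_add]
      · rw [Equiv.swap_apply_right, zmod_two_cases.2]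
    · rw [Pi.mulSingle_eq_of_ne hi, toAdd_one, add_zero,
        Equiv.swap_apply_of_ne_of_ne (by simp [hi]) (by simp [hi])]
  rw [e, Equiv.Perm.sign_swap (by simp)]

end Two

/-- A Sylow subgroup of the permutations of the moved points, with its properties. -/
theorem exists_model {n w : ℕ} {x : Equiv.Perm (Fin n)} (hx : x.support.card = p * w) :
    ∃ W : Subgroup (Equiv.Perm (Fin n)), W ≤ movedPerms x ∧ IsPGroup p W ∧
      Nat.card W = p ^ (p * w).factorial.factorization p ∧
      (w < p → ∀ g ∈ W, ∀ h ∈ W, g * h = h * g) ∧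
      (p ≤ w → HasDeg p W) ∧
      (p = 2 → 3 ≤ w → HasDeg p (W ⊓ alternatingGroup (Fin n) : Subgroup (Equiv.Perm (Fin n)))) ∧
      (p = 2 → w ≤ 2 → Nat.card (W ⊓ alternatingGroup (Fin n) : Subgroup (Equiv.Perm (Fin n))) ∣ 4) ∧
      (p = 2 → 0 < w → ∃ g ∈ W, Equiv.Perm.sign g = -1) := by
  classical
  haveI : NeZero p := ⟨hp.out.ne_zero⟩
  obtain ⟨S⟩ : Nonempty (Sylow p (Equiv.Perm (Fin w))) := inferInstance
  let e : Fin w × ZMod p ≃ {t // x t ≠ t} := Fintype.equivOfCardEq (by
    rw [Fintype.card_prod, Fintype.card_fin, ZMod.card, Fintype.card_subtype, mul_comm, ← hx]; rfl)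
  let F : Equiv.Perm (Fin w × ZMod p) →* Equiv.Perm (Fin n) :=
    Equiv.Perm.ofSubtype.comp (Equiv.permCongrHom e).toMonoidHom
  have hF : Function.Injective F := Equiv.Perm.ofSubtype_injective.comp (Equiv.permCongrHom e).injective
  have hsign : ∀ g, Equiv.Perm.sign (F g) = Equiv.Perm.sign g := fun g => by
    show Equiv.Perm.sign (Equiv.Perm.ofSubtype (e.permCongr g)) = _
    rw [Equiv.Perm.sign_ofSubtype, Equiv.Perm.sign_permCongr]
  set W0 := wr (p := p) (S : Subgroup (Equiv.Perm (Fin w))) with hW0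
  have hc : Nat.card (W0.map F) = p ^ (p * w).factorial.factorization p := by
    rw [Subgroup.card_map_of_injective hF, card_wr_sylow]
  let eW := Subgroup.equivMapOfInjective W0 F hF
  have hinf : W0.map F ⊓ alternatingGroup (Fin n) = (W0 ⊓ alternatingGroup (Fin w × ZMod p)).map F := by
    refine le_antisymm ?_ ?_
    · rintro g ⟨⟨y, hy, rfl⟩, hA⟩
      exact ⟨y, ⟨hy, Equiv.Perm.mem_alternatingGroup.mpr
        ((hsign y).symm.trans (Equiv.Perm.mem_alternatingGroup.mp hA))⟩, rfl⟩
    · rintro g ⟨y, ⟨hy, hA⟩, rfl⟩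
      exact ⟨⟨y, hy, rfl⟩, Equiv.Perm.mem_alternatingGroup.mpr
        ((hsign y).trans (Equiv.Perm.mem_alternatingGroup.mp hA))⟩
  refine ⟨W0.map F, ?_, IsPGroup.of_card hc, hc, fun hw => ?_, fun hw => ?_, fun hp2 hw => ?_, fun hp2 hw => ?_, fun hp2 hw => ?_⟩
  · rintro _ ⟨g, -, rfl⟩; exact ⟨_, rfl⟩
  · rintro _ ⟨g, hg, rfl⟩ _ ⟨h, hh, rfl⟩
    have hS : (S : Subgroup (Equiv.Perm (Fin w))) = ⊥ := Subgroup.card_eq_one.mp (by
      rw [sylow_card, Nat.factorization_eq_zero_of_not_dvd
        (fun h => absurd (hp.out.dvd_factorial.mp h) (not_le.mpr hw)), pow_zero])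
    rw [← map_mul, ← map_mul, isMulCommutative_wr_bot hS g hg h hh]
  · exact hasDeg_of_surj eW.symm.toMonoidHom eW.symm.surjective (hasDeg_wr hw S)
  · let eA := (MulEquiv.subgroupCongr hinf).trans (Subgroup.equivMapOfInjective _ F hF).symm
    exact hasDeg_of_surj eA.toMonoidHom eA.surjective (hasDeg_wr_even hp2 hw S)
  · rw [hinf, Subgroup.card_map_of_injective hF]
    have hdvd : Nat.card (W0 ⊓ alternatingGroup (Fin w × ZMod p) : Subgroup _) ∣ Nat.card W0 :=
      Subgroup.card_dvd_of_le inf_le_left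
    have hcW : Nat.card W0 = 2 ^ (2 * w).factorial.factorization 2 := by subst hp2; exact card_wr_sylow w S
    rw [hcW] at hdvd
    obtain ⟨k, hk, hcard⟩ := (Nat.dvd_prime_pow Nat.prime_two).mp hdvd
    rw [hcard, show 4 = 2 ^ 2 by rfl]
    refine Nat.pow_dvd_pow 2 ?_
    have hle : (2 * w).factorial.factorization 2 ≤ 3 := by
      rw [Nat.factorization_def _ Nat.prime_two, padicValNat_factorial_mul]
      interval_cases w <;> simp [Nat.factorial, padicValNat.eq_zero_of_not_dvd]
    by_contra hk2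
    have hk3 : k = (2 * w).factorial.factorization 2 := by omega
    rcases Nat.eq_zero_or_pos w with rfl | hw0
    · simp at hk3; omega
    have heq : W0 ⊓ alternatingGroup (Fin w × ZMod p) = W0 := Subgroup.eq_of_le_of_card_ge inf_le_left (by
      rw [hcW, ← hk3, ← hcard])
    have hb : Char.SymGen.base (p := p) (Pi.mulSingle (⟨0, hw0⟩ : Fin w) (Multiplicative.ofAdd 1)) ∈
        W0 ⊓ alternatingGroup (Fin w × ZMod p) := heq.symm ▸ ⟨1, one_mem _, _, by rw [MonoidHom.map_one, one_mul]⟩
    have h1 := Equiv.Perm.mem_alternatingGroup.mp hb.2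
    rw [sign_base_single hp2] at h1
    exact absurd h1 (by decide)
  · exact ⟨_, Subgroup.mem_map_of_mem F (show Char.SymGen.base (p := p) (Pi.mulSingle (⟨0, hw⟩ : Fin w) (Multiplicative.ofAdd 1)) ∈ W0 from
      ⟨1, one_mem _, _, by rw [MonoidHom.map_one, one_mul]⟩), by rw [hsign, sign_base_single hp2]⟩

end Wreath

end Cfsg.Agent.SymChar
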