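import Cfsg.Agent.Lib.Char.SymChar.HookVal
import Cfsg.Agent.Lib.Char.SymChar.SylowChar
import Cfsg.Agent.Lib.Char.SymChar.AltRestrict

/-!
# Labels of height one
-/

set_option autoImplicit false
set_option linter.style.haveILetI false

namespace Cfsg.Agent.SymChar

open Finset Equiv Cfsg
open scoped Nat

variable {N n p : ℕ}

theorem two_mul_tot_range (c : ℕ) : 2 * tot (Finset.range c) + c = c * c := by
  induction c with
  | zero => rfl
  | succ c ih =>
    rw [tot, Finset.sum_range_succ]
    rw [tot] at ih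
    linear_combination ih

theorem exists_merge (hp : p.Prime) (f : Fin p → Finset ℕ) :
    ∃ T : Finset ℕ, (∀ x, x ∈ T ↔ ∃ r : Fin p, ∃ q ∈ f r, x = p * q + (r : ℕ)) ∧
      T.card = ∑ r, (f r).card ∧ tot T = p * ∑ r, tot (f r) + ∑ r : Fin p, (r : ℕ) * (f r).card ∧
      vf p T = ∑ r, (tot (f r) + vf p (f r)) ∧
      vd p T = ∑ r, (tot (Finset.range (f r).card) + vd p (f r)) := by
  classical
  set val : (Σ _ : Fin p, ℕ) → ℕ := fun x => p * x.2 + (x.1 : ℕ) with hval
  have hinj : Function.Injective val := by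
    rintro ⟨r, q⟩ ⟨r', q'⟩ e
    simp only [hval] at e
    have h1 := congrArg (· % p) e
    simp only [Nat.mul_add_mod, Nat.mod_eq_of_lt r.isLt, Nat.mod_eq_of_lt r'.isLt] at h1
    obtain rfl : r = r' := Fin.ext h1
    rw [Nat.eq_of_mul_eq_mul_left hp.pos (Nat.add_right_cancel e)]
  refine ⟨(Finset.univ.sigma f).map ⟨val, hinj⟩, ?_⟩
  have hmem : ∀ x, x ∈ (Finset.univ.sigma f).map ⟨val, hinj⟩ ↔ ∃ r : Fin p, ∃ q ∈ f r, x = p * q + (r : ℕ) := by
    intro x
    rw [Finset.mem_map]
    simp only [Finset.mem_sigma, Finset.mem_univ, true_and, Function.Embedding.coeFn_mk, hval, Sigma.exists]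
    exact ⟨fun ⟨r, q, hq, e⟩ => ⟨r, q, hq, e.symm⟩, fun ⟨r, q, hq, e⟩ => ⟨r, q, hq, e.symm⟩⟩
  refine ⟨hmem, by rw [Finset.card_map, Finset.card_sigma], ?_, vd_vf_runners hp f hmem⟩
  rw [tot, Finset.sum_map, Finset.sum_sigma, Finset.mul_sum, ← Finset.sum_add_distrib]
  refine Finset.sum_congr rfl fun r _ => ?_
  simp only [Function.Embedding.coeFn_mk, hval, tot, Finset.sum_add_distrib, Finset.sum_const, smul_eq_mul,
    Finset.mul_sum]
  ring

theorem range_mem_Sets (c : ℕ) : Finset.range c ∈ Sets c 0 := mem_Sets.mpr ⟨Finset.card_range c, rfl⟩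

theorem vf_range (hp : p.Prime) (c : ℕ) : vf p (Finset.range c) = vd p (Finset.range c) := by
  obtain ⟨h1, h2⟩ := vd_le_vf hp (range_mem_Sets c)
  rw [Nat.factorial_zero, Nat.factorization_one, Finsupp.zero_apply, add_zero] at h2
  omega

/-- The label of degree one with given weight. -/
theorem exists_trivial (hp : p.Prime) {c : ℕ} (hc : 0 < c) (m : ℕ) :
    ∃ T ∈ Sets c m, vf p T = vd p T + (m !).factorization p := by
  obtain ⟨k, rfl⟩ : ∃ k, c = k + 1 := ⟨c - 1, by omega⟩
  have hna : k + m ∉ Finset.range k := by simp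
  refine ⟨insert (k + m) (Finset.range k), mem_Sets.mpr ⟨by rw [Finset.card_insert_of_notMem hna, Finset.card_range], ?_⟩, ?_⟩
  · rw [tot, Finset.sum_insert hna, tot, Finset.sum_range_succ]; ring
  · have hvr := vf_range hp k
    rw [vf, Finset.sum_insert hna, ← vf]
    rw [vd, Finset.sum_insert hna]
    have e1 : (insert (k + m) (Finset.range k)).filter (· < k + m) = Finset.range k := by
      ext x; simp only [Finset.mem_filter, Finset.mem_insert, Finset.mem_range]; omega
    have e2 : ∀ b ∈ Finset.range k, (insert (k + m) (Finset.range k)).filter (· < b) = (Finset.range k).filter (· < b) :=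
      fun b hb => by rw [Finset.filter_insert, if_neg (by have := Finset.mem_range.mp hb; omega)]
    have e3 : ∑ a ∈ Finset.range k, ∑ b ∈ (insert (k + m) (Finset.range k)).filter (· < a), (a - b).factorization p =
        vd p (Finset.range k) := by
      rw [vd]; exact Finset.sum_congr rfl fun b hb => by rw [e2 b hb]
    rw [e1, e3]
    have hne : (k + m).descFactorial k ≠ 0 := fun e => by
      rw [Nat.descFactorial_eq_zero_iff_lt] at e; omega
    have h := congrArg (fun q => q.factorization p) (Nat.factorial_mul_descFactorial (Nat.le_add_right k m))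
    simp only [Nat.factorization_mul (Nat.factorial_ne_zero _) hne, Finsupp.add_apply, Nat.add_sub_cancel_left] at h
    have h2 : ((k + m).descFactorial k).factorization p = ∑ b ∈ Finset.range k, (k + m - b).factorization p := by
      rw [Nat.descFactorial_eq_prod_range, Nat.factorization_prod (fun b hb => by
        have := Finset.mem_range.mp hb; omega), Finset.sum_apply']
    rw [vf] at hvr
    simp only [vf] at h hvr ⊢
    omega

theorem vf_mul_add (hp : p.Prime) (a : ℕ) {r : ℕ} (hr : r < p) :
    ((p * a + r) !).factorization p = a + (a !).factorization p := by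
  haveI := Fact.mk hp
  rw [Nat.factorization_def _ hp, Nat.factorization_def _ hp, padicValNat_factorial_mul_add a hr,
    padicValNat_factorial_mul, add_comm]

theorem vf_small (hp : p.Prime) {r : ℕ} (hr : r < p) : (r !).factorization p = 0 :=
  Nat.factorization_eq_zero_of_not_dvd fun h => absurd (hp.dvd_factorial.mp h) (not_le.mpr hr)

/-- A multinomial coefficient with three entries and valuation one. -/
theorem exists_split (hp : p.Prime) : ∀ w : ℕ, p ≤ w → ∃ a b c : ℕ, a + b + c = w ∧
    (a !).factorization p + (b !).factorization p + (c !).factorization p + 1 = (w !).factorization p := by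
  intro w
  induction w using Nat.strong_induction_on with
  | _ w ih =>
    intro hw
    obtain ⟨q, r, rfl, hr⟩ : ∃ q r, w = p * q + r ∧ r < p :=
      ⟨w / p, w % p, (Nat.div_add_mod w p).symm, Nat.mod_lt _ hp.pos⟩
    have hq : 0 < q := by
      rcases Nat.eq_zero_or_pos q with rfl | h
      · simp at hw; omega
      · exact h
    rw [vf_mul_add hp q hr]
    by_cases hd : p ∣ q
    · have hlt : q < p * q + r := by
        have := Nat.mul_le_mul_right q hp.two_le
        omega
      obtain ⟨a, b, c, hs, hv⟩ := ih q hlt (Nat.le_of_dvd hq hd)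
      refine ⟨p * a + r, p * b, p * c, by rw [← hs]; ring, ?_⟩
      have hb := vf_mul_add hp b hp.pos
      have hc := vf_mul_add hp c hp.pos
      rw [add_zero] at hb hc
      rw [vf_mul_add hp a hr, hb, hc]
      omega
    · obtain ⟨q', rfl⟩ : ∃ q', q = q' + 1 := ⟨q - 1, by omega⟩
      refine ⟨p * q' + (p - 1), r, 1, by rw [mul_add, mul_one]; have := hp.pos; omega, ?_⟩
      rw [vf_mul_add hp q' (Nat.sub_lt hp.pos one_pos), vf_small hp hr, Nat.factorial_one, Nat.factorization_one,
        Finsupp.zero_apply, Nat.factorial_succ, Nat.factorization_mul (Nat.succ_ne_zero q') (Nat.factorial_ne_zero q'),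
        Finsupp.add_apply, Nat.factorization_eq_zero_of_not_dvd hd]
      omega

/-- A single runner of weight `w` one step above the least degree, for the prime two. -/
theorem exists_drop_two : ∀ w, 3 ≤ w → ∀ c, w + 1 ≤ c →
    ∃ T ∈ Sets c w, vf 2 T + 1 = vd 2 T + (w !).factorization 2 := by
  have hp := Nat.prime_two
  intro w
  induction w using Nat.strong_induction_on with
  | _ w ih =>
    intro hw c hc
    obtain ⟨k, e, rfl, he⟩ : ∃ k e, c = 2 * k + e ∧ e < 2 := ⟨c / 2, c % 2, by omega, by omega⟩
    obtain ⟨u, d, rfl, hd⟩ : ∃ u d, w = 2 * u + d ∧ d < 2 := ⟨w / 2, w % 2, by omega, by omega⟩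
    rw [vf_mul_add hp u hd]
    -- the bead numbers on the two runners
    obtain ⟨c0, c1, hsum, hkey, h0, h1⟩ : ∃ c0 c1, c0 + c1 = 2 * k + e ∧
        2 * (tot (Finset.range c0) + tot (Finset.range c1)) + c1 + (if 2 * u + d = 3 then 3 else d) =
          tot (Finset.range (2 * k + e)) + (if 2 * u + d = 3 then 3 else d) + (if 2 * u + d = 3 then 3 else d) ∧
        (2 * u + d ≠ 3 → u + 1 ≤ c0) ∧ (2 * u + d ≠ 3 → 1 ≤ c1) := by
      have hk := two_mul_tot_range (2 * k + e)
      by_cases h3 : 2 * u + d = 3
      · simp only [if_pos h3]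
        interval_cases e
        · obtain ⟨k', rfl⟩ : ∃ k', k = k' + 2 := ⟨k - 2, by omega⟩
          refine ⟨k' + 1, k' + 3, by omega, ?_, fun h => absurd h3 h, fun h => absurd h3 h⟩
          have := two_mul_tot_range (k' + 1)
          have := two_mul_tot_range (k' + 3)
          linarith
        · obtain ⟨k', rfl⟩ : ∃ k', k = k' + 1 := ⟨k - 1, by omega⟩
          refine ⟨k' + 3, k', by omega, ?_, fun h => absurd h3 h, fun h => absurd h3 h⟩
          have := two_mul_tot_range (k' + 3)
          have := two_mul_tot_range k'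
          linarith
      · simp only [if_neg h3]
        interval_cases d <;> interval_cases e
        · refine ⟨k, k, by omega, ?_, fun _ => by omega, fun _ => by omega⟩
          have := two_mul_tot_range k
          linarith
        · refine ⟨k + 1, k, by omega, ?_, fun _ => by omega, fun _ => by omega⟩
          have := two_mul_tot_range k
          have := two_mul_tot_range (k + 1)
          linarith
        · obtain ⟨k', rfl⟩ : ∃ k', k = k' + 2 := ⟨k - 2, by omega⟩
          refine ⟨k' + 3, k' + 1, by omega, ?_, fun _ => by omega, fun _ => by omega⟩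
          have := two_mul_tot_range (k' + 3)
          have := two_mul_tot_range (k' + 1)
          linarith
        · refine ⟨k, k + 1, by omega, ?_, fun _ => by omega, fun _ => by omega⟩
          have := two_mul_tot_range k
          have := two_mul_tot_range (k + 1)
          linarith
    have build : ∀ f : Fin 2 → Finset ℕ, (f 0).card = c0 → (f 1).card = c1 → ∀ (m L : ℕ),
        tot (f 0) + tot (f 1) = tot (Finset.range c0) + tot (Finset.range c1) + m →
        vf 2 (f 0) + vf 2 (f 1) = vd 2 (f 0) + vd 2 (f 1) + L →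
        2 * m + (if 2 * u + d = 3 then 3 else d) = 2 * u + d → m + L + 1 = u + (u !).factorization 2 →
        ∃ T ∈ Sets (2 * k + e) (2 * u + d), vf 2 T + 1 = vd 2 T + (u + (u !).factorization 2) := by
      intro f hf0 hf1 m L htot hL hm hmL
      obtain ⟨T, -, hcard, hT, hvf, hvd⟩ := exists_merge hp f
      simp only [Fin.sum_univ_two, hf0, hf1, Fin.val_zero, Fin.val_one, zero_mul, one_mul, zero_add] at hcard hT hvf hvd
      exact ⟨T, mem_Sets.mpr ⟨by omega, by omega⟩, by omega⟩
    rcases eq_or_ne (2 * u + d) 3 with h3 | h3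
    · obtain ⟨rfl, rfl⟩ : u = 1 ∧ d = 1 := by omega
      refine build ![Finset.range c0, Finset.range c1] (by simp) (by simp) 0 0 (by simp) ?_ (by simp) ?_
      · simp [vf_range hp]
      · simp
    have hu2 : 2 ≤ u := by omega
    obtain hu | hu := Nat.eq_or_lt_of_le hu2
    · subst hu
      obtain ⟨T0, hT0, hv0⟩ := exists_trivial hp (c := c0) (by have := h0 h3; omega) 1
      obtain ⟨T1, hT1, hv1⟩ := exists_trivial hp (c := c1) (h1 h3) 1
      obtain ⟨a0, b0⟩ := mem_Sets.mp hT0
      obtain ⟨a1, b1⟩ := mem_Sets.mp hT1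
      simp only [Nat.factorial_one, Nat.factorization_one, Finsupp.zero_apply] at hv0 hv1
      refine build ![T0, T1] (by simpa using a0) (by simpa using a1) 2 0 (by simp; omega) (by simp; omega)
        (by rw [if_neg h3]) ?_
      rw [Nat.factorial_two, hp.factorization_self]
    · obtain ⟨T0, hT0, hv0⟩ := ih u (by omega) hu c0 (h0 h3)
      obtain ⟨a0, b0⟩ := mem_Sets.mp hT0
      have hle := (vd_le_vf hp hT0).1
      refine build ![T0, Finset.range c1] (by simpa using a0) (by simp) u (vf 2 T0 - vd 2 T0) (by simp; omega) ?_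
        (by rw [if_neg h3]) (by omega)
      simp [vf_range hp]
      omega

/-- The label of a configuration. -/
theorem exists_label_of_runners (hp : p.Prime) {v : Fin N → ℤ} (hv : v ∈ Beta N n) {w : ℕ}
    (hw : (n : ℤ) + ∑ i, del N i = base p (beads p v) + (p : ℤ) * w) {f : Fin p → Finset ℕ}
    (hf : f ∈ Conf (beads p v) w) :
    ∃ u, u ∈ Beta N n ∧ res p u = res p v ∧ runner p u = f := by
  obtain ⟨hcard, hsum⟩ := mem_Conf.mp hf
  obtain ⟨T, hT, hTc, hTt, -, -⟩ := exists_merge hp f
  obtain ⟨w₀, -, hmem⟩ := exists_weight hp.pos hv (v₀ := v) rfl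
  have hN : ∑ r, beads p v r = N := by
    obtain ⟨e1, -⟩ := mem_Conf.mp hmem
    obtain ⟨T', hT', hT'c, -⟩ := exists_merge hp (runner p v)
    have he : T' = entries v := by
      ext x; rw [hT', entries_runner hp.pos (mem_Beta.mp hv).1.1]
    rw [he, entries, Finset.card_image_of_injective _ (toNat_strictMono hv).injective, Finset.card_fin] at hT'c
    refine Eq.trans ?_ hT'c.symm
    exact Finset.sum_congr rfl fun r _ => (e1 r).symm
  have hTN : T ∈ Sets N n := by
    refine mem_Sets.mpr ⟨by rw [hTc, Finset.sum_congr rfl fun r _ => hcard r, hN], ?_⟩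
    have hd : ∑ i, del N i = ((tot (Finset.range N) : ℕ) : ℤ) := by
      rw [tot, Finset.sum_range]; push_cast; rfl
    rw [hd, base] at hw
    simp only [hTt, hsum, hcard]
    have : ((p * (∑ r, tot (Finset.range (beads p v r)) + w) + ∑ r : Fin p, (r : ℕ) * beads p v r : ℕ) : ℤ) =
        ((tot (Finset.range N) + n : ℕ) : ℤ) := by
      push_cast at hw ⊢
      linarith
    exact_mod_cast this
  obtain ⟨u, hu, hue⟩ := exists_entries hTN
  have hpos := (mem_Beta.mp hu).1.1
  have hrun : runner p u = f := by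
    funext r
    ext q
    have key : ∀ g : Fin p → Finset ℕ, (∀ x, x ∈ T ↔ ∃ r : Fin p, ∃ q ∈ g r, x = p * q + (r : ℕ)) →
        (q ∈ g r ↔ p * q + (r : ℕ) ∈ T) := by
      intro g hg
      rw [hg]
      refine ⟨fun h => ⟨r, q, h, rfl⟩, fun ⟨r', q', h', e⟩ => ?_⟩
      have h1 := congrArg (· % p) e
      simp only [Nat.mul_add_mod, Nat.mod_eq_of_lt r.isLt, Nat.mod_eq_of_lt r'.isLt] at h1
      obtain rfl : r = r' := Fin.ext h1
      rwa [Nat.eq_of_mul_eq_mul_left hp.pos (Nat.add_right_cancel e)]
    rw [key (runner p u) (fun x => hue ▸ entries_runner hp.pos hpos x), key f hT]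
  refine ⟨u, hu, res_eq_of_beads hp.pos (funext fun r => ?_), hrun⟩
  rw [← card_runner hpos (mem_Beta.mp hu).2.injective, hrun, hcard]

/-- The valuation of the degree through the runners. -/
theorem dexp_label (hp : p.Prime) {v : Fin N → ℤ} (hv : v ∈ Beta N n) {w : ℕ} {c : Fin p → ℕ}
    (hf : runner p v ∈ Conf c w) :
    (charDegree (psi (n := n) v)).factorization p + w + ∑ r, vf p (runner p v r) =
      (n !).factorization p + ∑ r, vd p (runner p v r) := by
  have h1 := vf_entries hp hv
  have h2 := vf_label hp hv hf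
  omega

theorem dexp_small (hp : p.Prime) {v : Fin N → ℤ} (hv : v ∈ Beta N n) {w : ℕ} {c : Fin p → ℕ}
    (hf : runner p v ∈ Conf c w) (hw : w < p) :
    (charDegree (psi (n := n) v)).factorization p + w = (n !).factorization p := by
  obtain ⟨h1, h2⟩ := mem_Conf.mp hf
  have h : ∀ r, vf p (runner p v r) = vd p (runner p v r) := by
    intro r
    have hge : ∀ r, tot (Finset.range (c r)) ≤ tot (runner p v r) := fun r => h1 r ▸ sum_range_le _
    have hm : tot (runner p v r) - tot (Finset.range (c r)) ≤ w := by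
      have := Finset.single_le_sum (f := fun r => tot (runner p v r) - tot (Finset.range (c r)))
        (fun _ _ => Nat.zero_le _) (Finset.mem_univ r)
      rw [Finset.sum_tsub_distrib _ (fun r _ => hge r), h2, Nat.add_sub_cancel_left] at this
      exact this
    obtain ⟨e1, e2⟩ := vd_le_vf hp (T := runner p v r) (c := c r) (m := tot (runner p v r) - tot (Finset.range (c r)))
      (mem_Sets.mpr ⟨h1 r, (Nat.add_sub_cancel' (hge r)).symm⟩)
    rw [vf_small hp (lt_of_le_of_lt hm hw)] at e2
    omega
  have h3 := dexp_label hp hv hf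
  rw [Finset.sum_congr rfl fun r _ => h r] at h3
  omega

/-- A label one step above the least degree, for odd primes. -/
theorem exists_up_odd (hp : p.Prime) (hp3 : 3 ≤ p) {v : Fin N → ℤ} (hv : v ∈ Beta N n) {w : ℕ}
    (hw : (n : ℤ) + ∑ i, del N i = base p (beads p v) + (p : ℤ) * w) (hwp : p ≤ w) (hN : p * n + n ≤ N) :
    ∃ u, u ∈ Beta N n ∧ res p u = res p v ∧
      (charDegree (psi (n := n) u)).factorization p + w + (w !).factorization p = (n !).factorization p + 1 := by
  obtain ⟨a, b, c, hs, hval⟩ := exists_split hp w hwp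
  set i0 : Fin p := ⟨0, by omega⟩ with hi0
  set i1 : Fin p := ⟨1, by omega⟩ with hi1
  set i2 : Fin p := ⟨2, by omega⟩ with hi2
  let m : Fin p → ℕ := fun r => if r = i0 then a else if r = i1 then b else if r = i2 then c else 0
  have h01 : i0 ≠ i1 := by simp [i0, i1, Fin.ext_iff]
  have h02 : i0 ≠ i2 := by simp [i0, i2, Fin.ext_iff]
  have h12 : i1 ≠ i2 := by simp [i1, i2, Fin.ext_iff]
  have hsum : ∀ g : ℕ → ℕ, g 0 = 0 → ∑ r, g (m r) = g a + g b + g c := by
    intro g hg
    rw [← Finset.sum_subset (Finset.subset_univ ({i0, i1, i2} : Finset (Fin p))) fun r _ hr => by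
      simp only [Finset.mem_insert, Finset.mem_singleton, not_or] at hr
      simp [m, hr.1, hr.2.1, hr.2.2, hg]]
    rw [Finset.sum_insert (by simp [h01, h02]), Finset.sum_pair h12]
    simp [m, h01.symm, h02.symm, h12.symm, add_assoc]
  have hn : 0 < n := by
    have := mul_weight_le (j := p - 1) hv (w := w) (by rw [Nat.sub_add_cancel hp.pos]; exact hw)
    rw [Nat.sub_add_cancel hp.pos] at this
    have := Nat.mul_le_mul hp.two_le hwp
    omega
  have hc : ∀ r, 0 < beads p v r := fun r => lt_of_lt_of_le hn (le_beads hv hN r)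
  choose f hf hfv using fun r => exists_trivial hp (hc r) (m r)
  have hconf : f ∈ Conf (beads p v) w := by
    refine mem_Conf.mpr ⟨fun r => (mem_Sets.mp (hf r)).1, ?_⟩
    rw [Finset.sum_congr rfl fun r _ => (mem_Sets.mp (hf r)).2, Finset.sum_add_distrib,
      show ∑ r, m r = w from (hsum id rfl).trans hs]
  obtain ⟨u, hu, hres, hrun⟩ := exists_label_of_runners hp hv hw hconf
  refine ⟨u, hu, hres, ?_⟩
  have h := dexp_label hp hu (c := beads p v) (w := w) (hrun ▸ hconf)
  rw [hrun, Finset.sum_congr rfl fun r _ => hfv r, Finset.sum_add_distrib,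
    hsum (fun k => (k !).factorization p) (by simp)] at h
  omega

theorem pushed_eq_of_ground {v : Fin N → ℤ} (hv : v ∈ Beta N n) {r : Fin p}
    (hg : runner p v r = Finset.range (runner p v r).card) {i : Fin N} (hi : v i % (p : ℤ) = (r : ℕ)) :
    pushed p v i = v i := by
  classical
  obtain ⟨⟨hpos, -⟩, hmono⟩ := mem_Beta.mp hv
  have hp0 : (0 : ℤ) < p := by have := r.isLt; omega
  set T := Finset.univ.filter fun l => v l % (p : ℤ) = (r : ℕ) with hT
  have hinjT := runner_injOn hpos hmono.injective r
  have hsub : T.filter (fun l => v l < v i) ⊆ T := Finset.filter_subset _ _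
  have hiT : i ∈ T := Finset.mem_filter.mpr ⟨Finset.mem_univ _, hi⟩
  have hval : ∀ l ∈ T, v l = ((r : ℕ) : ℤ) + (p : ℤ) * ((v l / (p : ℤ)).toNat : ℤ) := by
    intro l hl
    rw [Int.toNat_of_nonneg (Int.ediv_nonneg (hpos l) hp0.le)]
    have := Int.mul_ediv_add_emod (v l) p
    rw [(Finset.mem_filter.mp hl).2] at this
    linarith
  have hrnk : rnk p v i = (v i / (p : ℤ)).toNat := by
    have e : (T.filter fun l => v l < v i).image (fun l => (v l / (p : ℤ)).toNat) =
        Finset.range (v i / (p : ℤ)).toNat := by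
      ext q
      simp only [Finset.mem_image, Finset.mem_filter, Finset.mem_range]
      constructor
      · rintro ⟨l, ⟨hl, hlt⟩, rfl⟩
        rw [hval l hl, hval i hiT] at hlt
        have := lt_of_mul_lt_mul_left (lt_of_add_lt_add_left hlt) hp0.le
        exact_mod_cast this
      · intro hq
        have hi' : (v i / (p : ℤ)).toNat ∈ runner p v r := Finset.mem_image_of_mem _ hiT
        rw [hg, Finset.mem_range] at hi'
        have hq' : q ∈ runner p v r := by rw [hg, Finset.mem_range]; omega
        obtain ⟨l, hl, rfl⟩ := Finset.mem_image.mp hq'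
        refine ⟨l, ⟨hl, ?_⟩, rfl⟩
        rw [hval l hl, hval i hiT]
        exact add_lt_add_right (mul_lt_mul_of_pos_left (by exact_mod_cast hq) hp0) _
    have h := congrArg Finset.card e
    rw [Finset.card_image_of_injOn (hinjT.mono (by rw [Finset.coe_subset]; exact hsub)), Finset.card_range] at h
    rw [← h, rnk, hT, Finset.filter_filter, hi]
  rw [pushed, hrnk, hi, ← hval i hiT]

/-- For the prime two: a nonsplit label one step above the least degree. -/
theorem exists_up_two {v : Fin N → ℤ} (hv : v ∈ Beta N n) {w : ℕ}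
    (hw : (n : ℤ) + ∑ i, del N i = base 2 (beads 2 v) + (2 : ℕ) * (w : ℤ)) (hw3 : 3 ≤ w) (hN : 2 * n + n ≤ N) :
    ∃ u, u ∈ Beta N n ∧ res 2 u = res 2 v ∧
      (charDegree (psi (n := n) u)).factorization 2 + w + (w !).factorization 2 = (n !).factorization 2 + 1 ∧
      ∃ μ ∈ Ps n, eps μ = -1 ∧ F μ u ≠ 0 := by
  classical
  have hp := Nat.prime_two
  have hnw : 2 * w ≤ n := mul_weight_le (j := 1) hv hw
  obtain ⟨T0, hT0, hv0⟩ := exists_drop_two w hw3 (beads 2 v 0) (by have := le_beads hv hN (0 : Fin 2); omega)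
  obtain ⟨a0, b0⟩ := mem_Sets.mp hT0
  have hconf : ![T0, Finset.range (beads 2 v 1)] ∈ Conf (beads 2 v) w := by
    refine mem_Conf.mpr ⟨fun r => by fin_cases r <;> simp [a0], ?_⟩
    simp only [Fin.sum_univ_two]
    simp [b0]
    omega
  obtain ⟨u, hu, hres, hrun⟩ := exists_label_of_runners hp hv hw hconf
  obtain ⟨hA, hmono⟩ := mem_Beta.mp hu
  refine ⟨u, hu, hres, ?_, ?_⟩
  · have h := dexp_label hp hu (c := beads 2 v) (w := w) (hrun ▸ hconf)
    rw [hrun] at h
    simp only [Fin.sum_univ_two, Matrix.cons_val_zero, Matrix.cons_val_one, Matrix.cons_val_fin_one, vf_range hp] at h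
    omega
  have hsum : ∑ i, (u i - pushed 2 u i) = ((2 : ℕ) : ℤ) * w := by
    rw [Finset.sum_sub_distrib, hA.2, sum_pushed two_pos hmono.injective, beads_congr hres]
    linarith
  have heps : ∀ k l : ℕ, eps (Multiset.replicate k 2 + Multiset.replicate l 1) = (-1) ^ k := by
    intro k l
    simp only [eps, Multiset.sum_add, Multiset.sum_replicate]
    simp
    rw [show k * 2 + l + (k + l) = k + 2 * (k + l) by ring, pow_add, pow_mul]
    simp
  have hmem : ∀ k l : ℕ, 2 * k + l = n → Multiset.replicate k 2 + Multiset.replicate l 1 ∈ Ps n := by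
    intro k l h
    refine mem_Ps.mpr ⟨by simp; omega, fun a ha => ?_⟩
    rcases Multiset.mem_add.mp ha with h | h <;> rw [Multiset.eq_of_mem_replicate h] <;> omega
  rcases Nat.even_or_odd w with hev | hodd
  · obtain ⟨w', rfl⟩ : ∃ w', w = w' + 1 := ⟨w - 1, by omega⟩
    refine ⟨_, hmem w' (n - 2 * w') (by omega), ?_, ?_⟩
    · rw [heps, Odd.neg_one_pow]
      rw [Nat.even_add_one, Nat.not_even_iff_odd] at hev
      exact hev
    obtain ⟨K, hK, hKF⟩ := F_replicate_top (q := 2) two_pos (r := 0) w' hmono.injective hA.1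
      (by rw [hsum]; push_cast; ring) (fun i hi => by
        have h1 : u i % ((2 : ℕ) : ℤ) = 1 := by omega
        refine (pushed_eq_of_ground hu (r := (1 : Fin 2)) ?_ (by simpa using h1)).symm
        rw [hrun]; simp)
    rw [hKF]
    refine mul_ne_zero hK.ne' fun h0 => ?_
    have hinj := pushedTop_injective two_pos (0 : ℤ) hmono.injective
    obtain ⟨σ, hσ⟩ := exists_sorted hinj
    set t := pushedTop 2 0 u with ht
    have hnn : ∀ i, 0 ≤ t i := fun i => by
      simp only [ht, pushedTop, pushed]
      have := Int.emod_nonneg (u i) (b := ((2 : ℕ) : ℤ)) (by norm_num)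
      split_ifs <;> positivity
    have hst : ∑ i, t i = ∑ i, pushed 2 u i + 2 := by
      set S := Finset.univ.filter fun l => u l % ((2 : ℕ) : ℤ) = 0 with hS
      have e : ∑ i, t i = ∑ i, pushed 2 u i + ∑ i, (if u i % ((2 : ℕ) : ℤ) = 0 ∧ rnk 2 u i + 1 = S.card then (2 : ℤ) else 0) := by
        rw [← Finset.sum_add_distrib]
        refine Finset.sum_congr rfl fun i _ => ?_
        simp only [ht, pushedTop, ← hS]
        split_ifs <;> simp
      have hne : S.Nonempty := by
        have := le_beads hu hN (0 : Fin 2)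
        refine Finset.card_pos.mp (lt_of_lt_of_le (by omega : 0 < n) (this.trans (le_of_eq ?_)))
        simp [beads, hS]
      obtain ⟨i, hi, hmax⟩ := S.exists_max_image u hne
      have hi0 := (Finset.mem_filter.mp hi).2
      rw [e, add_right_inj, Finset.sum_eq_single i, if_pos]
      · refine ⟨hi0, ?_⟩
        rw [rnk, hi0, ← Finset.card_erase_add_one hi]
        congr 2
        ext l
        simp only [Finset.mem_filter, Finset.mem_univ, true_and, Finset.mem_erase, hS]
        exact ⟨fun h => ⟨fun e => by rw [e] at h; exact lt_irrefl _ h.2, h.1⟩, fun h =>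
          ⟨h.2, lt_of_le_of_ne (hmax l (Finset.mem_filter.mpr ⟨Finset.mem_univ _, h.2⟩)) fun e => h.1 (hmono.injective e)⟩⟩
      · intro l _ hl
        refine if_neg fun ⟨hl0, hcard⟩ => ?_
        have hlS : l ∈ S := Finset.mem_filter.mpr ⟨Finset.mem_univ _, hl0⟩
        have hlt : u l < u i := lt_of_le_of_ne (hmax l hlS) fun e => hl (hmono.injective e)
        have hsub : (Finset.univ.filter fun m => u m % ((2 : ℕ) : ℤ) = u l % ((2 : ℕ) : ℤ) ∧ u m < u l) ⊆ (S.erase l).erase i := by
          intro m hm
          obtain ⟨-, h1, h2⟩ := Finset.mem_filter.mp hm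
          exact Finset.mem_erase.mpr ⟨fun e => by rw [e] at h2; omega, Finset.mem_erase.mpr
            ⟨fun e => by rw [e] at h2; omega, Finset.mem_filter.mpr ⟨Finset.mem_univ _, h1.trans hl0⟩⟩⟩
        have := Finset.card_le_card hsub
        rw [Finset.card_erase_of_mem (Finset.mem_erase.mpr ⟨Ne.symm hl, hi⟩), Finset.card_erase_of_mem hlS] at this
        have h2 : 2 ≤ S.card := Finset.one_lt_card.mpr ⟨l, hlS, i, hi, hl⟩
        simp only [rnk] at hcard
        omega
      · exact fun h => absurd (Finset.mem_univ i) h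
    have hB : t ∘ σ ∈ Beta N (n - 2 * w') := by
      refine mem_Beta.mpr ⟨⟨fun i => hnn _, ?_⟩, hσ⟩
      simp only [Function.comp_apply]
      rw [Equiv.sum_comp σ t, hst]
      rw [Finset.sum_sub_distrib, hA.2] at hsum
      push_cast [Nat.cast_sub (by omega : 2 * w' ≤ n)] at hsum ⊢
      linarith
    have := F_degree_pos hB
    rw [F_comp, h0, mul_zero] at this
    exact lt_irrefl _ this
  · refine ⟨_, hmem w (n - 2 * w) (by omega), by rw [heps, hodd.neg_one_pow], fun h0 => ?_⟩
    obtain ⟨x, hx⟩ := exists_parts (hmem w (n - 2 * w) (by omega))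
    exact psi_ne_zero_of_parts two_pos hu (by rw [beads_congr hres]; exact hw) hnw hx (by rw [psi, hx, h0]; simp)

theorem dlt_ne_one_of_odd [Nontrivial (Fin n)] {v : Fin N → ℤ} (hv : v ∈ Beta N n) {μ : Multiset ℕ}
    (hμ : μ ∈ Ps n) (he : eps μ = -1) (hne : F μ v ≠ 0) : (constit n v).card = 1 := by
  obtain ⟨-, hc, h1⟩ := constit_spec hv
  have hlt : dlt n v < 1 := by
    have h := row_orth hv hv
    rw [if_pos rfl] at h
    rw [dlt, ← h]
    refine Finset.sum_lt_sum (fun ν hν => ?_) ⟨μ, hμ, ?_⟩
    · have h0 : (0 : ℚ) ≤ (F ν v : ℚ) * F ν v / zNat ν := div_nonneg (mul_self_nonneg _) (Nat.cast_nonneg _)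
      rcases eps_eq ν with e | e <;> rw [e] <;> push_cast <;> linarith
    · have hz : (0 : ℚ) < (F μ v : ℚ) * F μ v / zNat μ :=
        div_pos (mul_self_pos.mpr (Int.cast_ne_zero.mpr hne)) (Nat.cast_pos.mpr (zNat_pos (mem_Ps.mp hμ).2))
      rw [he]; push_cast; linarith
  have : ((constit n v).card : ℚ) < (2 : ℕ) := by rw [hc]; push_cast; linarith
  have : (constit n v).card < 2 := by exact_mod_cast this
  omega

end Cfsg.Agent.SymChar
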