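import Cfsg.Agent.Lib.Char.SymChar.AltHeights
import Cfsg.Agent.Lib.Char.SymChar.AltBlocks

/-!
# Least positive heights of blocks of alternating groups
-/

set_option autoImplicit false
set_option linter.style.haveILetI false

namespace Cfsg.Agent.SymChar

open Finset Equiv Cfsg
open scoped Nat

variable {N n p : ℕ} {M : Ideal AlgInt}

theorem mul_deg_constituent [Nontrivial (Fin n)] {v : Fin N → ℤ} (hv : v ∈ Beta N n)
    {θ : IrrCharacter (alternatingGroup (Fin n))} (hθ : θ ∈ constit n v) :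
    1 ≤ (constit n v).card ∧ (constit n v).card ≤ 2 ∧
      charDegree (psi (n := n) v) = (constit n v).card * charDegree (θ : (alternatingGroup (Fin n)) → ℂ) := by
  classical
  obtain ⟨hexp, hc, h1⟩ := constit_spec hv
  refine ⟨h1, ?_, ?_⟩
  · have : ((constit n v).card : ℚ) ≤ (2 : ℕ) := by rw [hc]; have := dlt_le_one hv; push_cast; linarith
    exact_mod_cast this
  have hall : ∀ θ' ∈ constit n v, (θ' : (alternatingGroup (Fin n)) → ℂ) 1 = (θ : (alternatingGroup (Fin n)) → ℂ) 1 := by
    intro θ' hθ'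
    have h : θ' ∈ Char.cliffOrbit (alternatingGroup (Fin n)) θ :=
      Char.mem_cliffOrbit_of_constituent (χ := chi ⟨v, hv⟩) (Finset.mem_filter.mp hθ).2 (Finset.mem_filter.mp hθ').2
    obtain ⟨g, rfl⟩ := Char.mem_cliffOrbit.mp h
    rw [Char.irrComp_apply, map_one]
  have h := congrFun hexp 1
  rw [Finset.sum_apply, Finset.sum_congr rfl hall, Finset.sum_const, nsmul_eq_mul,
    Char.char_one_eq_deg (Char.irr_isCharacter θ.2)] at h
  rw [charDegree, show psi (n := n) v 1 = _ from h, ← Nat.cast_mul, Complex.natCast_re, Nat.floor_natCast]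
  rfl

theorem isMulCommutative_of_card_le {G : Type} [Group G] [Finite G] [Fact p.Prime] {k : ℕ}
    (hk : Nat.card G = p ^ k) (h2 : k ≤ 2) : IsMulCommutative G := by
  rcases Nat.lt_or_ge k 2 with h | h
  · interval_cases k
    · haveI := (Nat.card_eq_one_iff_unique.mp (by simpa using hk)).1
      exact ⟨⟨fun a b => Subsingleton.elim _ _⟩⟩
    · haveI : IsCyclic G := isCyclic_of_prime_card (by simpa using hk)
      exact IsCyclic.commutative
  · obtain rfl : k = 2 := by omega
    exact IsPGroup.isMulCommutative_of_card_eq_prime_sq hk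

/-- The dichotomy for the blocks of an alternating group. -/
theorem alt_heights [Fact p.Prime] (hM : IsPModular p M)
    {b : Set (IrrCharacter (alternatingGroup (Fin n)))} (hb : IsPBlock M b)
    {D : Subgroup (alternatingGroup (Fin n))} (hD : IsDefectGroup p M b D) :
    ((∃ χ : IrrCharacter (alternatingGroup (Fin n)), χ ∈ b ∧ blockHeight p b (χ : (alternatingGroup (Fin n)) → ℂ) = 1) ∧
      (∃ θ : IrrCharacter D, charDegree (θ : D → ℂ) = p)) ∨
    ((∀ χ : IrrCharacter (alternatingGroup (Fin n)), χ ∈ b → blockHeight p b (χ : (alternatingGroup (Fin n)) → ℂ) = 0) ∧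
      IsMulCommutative D) := by
  classical
  have hp := hM.1
  have hP := Char.pmod_prime hM
  have hcardD := Char.card_defectGroup hM hb hD
  rcases Nat.lt_or_ge n 2 with hn | hn
  · haveI : Subsingleton (Fin n) := Fin.subsingleton_iff_le_one.mpr (by omega)
    haveI : Subsingleton (alternatingGroup (Fin n)) := ⟨fun a b => Subtype.ext (Subsingleton.elim _ _)⟩
    refine Or.inr ⟨fun χ _ => ?_, ⟨⟨fun a b => Subsingleton.elim _ _⟩⟩⟩
    have h := Char.dexp_le (p := p) χ.2
    rw [Nat.card_of_subsingleton (1 : alternatingGroup (Fin n)), Nat.factorization_one, Finsupp.zero_apply] at h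
    rw [Char.blockHeight_eq]
    omega
  haveI : Nontrivial (Fin n) := Fin.nontrivial_iff_two_le.mpr hn
  obtain ⟨j, rfl⟩ : ∃ j, p = j + 1 := ⟨p - 1, by have := hp.pos; omega⟩
  set N := (j + 1) * n + n with hN
  have hnN : n ≤ N := Nat.le_add_left _ _
  obtain ⟨θ₀, hθ₀⟩ := Char.block_nonempty hP hb
  obtain ⟨χ₀, hχ₀⟩ := Char.exists_constituent_over (alternatingGroup (Fin n)) θ₀
  set B := blockOf M (χ₀ : Perm (Fin n) → ℂ) with hBdef
  have hB : IsPBlock M B := Char.isPBlock_blockOf M χ₀
  have hcov : Char.Covers B b := ⟨χ₀, Char.self_mem_blockOf hP χ₀, θ₀, hθ₀, hχ₀⟩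
  obtain ⟨v, hv, hχv⟩ := exists_label (N := N) hnN χ₀
  have hvB : chi ⟨v, hv⟩ ∈ B := by
    rw [show chi ⟨v, hv⟩ = χ₀ from Subtype.ext hχv.symm]; exact Char.self_mem_blockOf hP χ₀
  obtain ⟨w, hw, hmemw⟩ := exists_weight (p := j + 1) hp.pos hv (v₀ := v) rfl
  have hconf : ∀ u ∈ Beta N n, res (j + 1) u = res (j + 1) v → runner (j + 1) u ∈ Conf (beads (j + 1) v) w := by
    intro u hu hres
    obtain ⟨w', hw', hm⟩ := exists_weight hp.pos hu (v₀ := v) hres
    have h : ((j + 1 : ℕ) : ℤ) * w' = (j + 1 : ℕ) * w := by linarith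
    have : w' = w := by exact_mod_cast mul_left_cancel₀ (Int.natCast_ne_zero.mpr hp.ne_zero) h
    rwa [this] at hm
  obtain ⟨x, y, D₀, hx, hy, hDy, -, -, -, hdB, hWcrit⟩ := defect_shape hM hB hnN hv hvB hw
  obtain ⟨hxp, hxs⟩ := parts_replicate hp hx
  obtain ⟨W, hWle, hWp, hWcard, hWcomm, hWdeg, hWdegA, hW4, hWodd⟩ := exists_model (p := j + 1) (w := w) hxs
  have hD₀ : IsDefectGroup (j + 1) M B D₀ := (Char.isDefectGroup_iff B D₀).mpr ⟨y, hy, hDy⟩
  have hWB : IsDefectGroup (j + 1) M B W := hWcrit W hWle (by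
    rw [hWcard, Char.card_defectGroup hM hB hD₀, hdB]) hWp
  obtain ⟨P, hPD, hPA⟩ := Char.exists_defect_inf_eq hM hB hb hcov hD
  obtain ⟨g, hg⟩ := Char.defect_groups_conj hM hB hWB hPD
  set c := (MulAut.conj g).toMonoidHom with hc
  have hcA : (alternatingGroup (Fin n)).map c = alternatingGroup (Fin n) := by
    refine le_antisymm ?_ fun z hz => ⟨g⁻¹ * z * g, ?_, ?_⟩
    · rintro z ⟨z', hz', rfl⟩
      exact Subgroup.Normal.conj_mem inferInstance z' hz' g
    · have := Subgroup.Normal.conj_mem (inferInstance : (alternatingGroup (Fin n)).Normal) z hz g⁻¹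
      rwa [inv_inv] at this
    · show g * (g⁻¹ * z * g) * g⁻¹ = z
      group
  have hDW : D.map (alternatingGroup (Fin n)).subtype = (W ⊓ alternatingGroup (Fin n)).map c := by
    rw [← hPA, Subgroup.map_inf _ _ c (MulAut.conj g).injective, hcA, hg]
  let eD : D ≃* (W ⊓ alternatingGroup (Fin n) : Subgroup (Perm (Fin n))) :=
    (Subgroup.equivMapOfInjective D _ (alternatingGroup (Fin n)).subtype_injective).trans
      ((MulEquiv.subgroupCongr hDW).trans
        (Subgroup.equivMapOfInjective _ c (MulAut.conj g).injective).symm)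
  have hcD : Nat.card (W ⊓ alternatingGroup (Fin n) : Subgroup (Perm (Fin n))) = (j + 1) ^ blockDefect (j + 1) b := by
    rw [← Nat.card_congr eD.toEquiv, hcardD]
  have hcomm : (∀ a ∈ (W ⊓ alternatingGroup (Fin n) : Subgroup (Perm (Fin n))), ∀ a' ∈ W ⊓ alternatingGroup (Fin n), a * a' = a' * a) →
      IsMulCommutative D := fun h => ⟨⟨fun a a' => eD.injective (Subtype.ext (by
        rw [map_mul, map_mul]; exact h _ (eD a).2 _ (eD a').2))⟩⟩
  -- the valuations of the orders
  have hcardA : 2 * Nat.card (alternatingGroup (Fin n)) = n ! := by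
    rw [Nat.card_eq_fintype_card, two_mul_card_alternatingGroup, Fintype.card_perm, Fintype.card_fin]
  have hvA : ((2 : ℕ)).factorization (j + 1) + (Nat.card (alternatingGroup (Fin n))).factorization (j + 1) =
      (n !).factorization (j + 1) := by
    rw [← hcardA, Nat.factorization_mul two_ne_zero Nat.card_pos.ne', Finsupp.add_apply]
  have hminb := Char.dmin_add_defect (p := j + 1) (Char.block_nonempty hP hb)
  have hdw : blockDefect (j + 1) B = w + (w !).factorization (j + 1) := by
    rw [hdB]; exact vf_mul_add hp w hp.pos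
  -- labels of the block of the alternating group
  have hlab : ∀ θ ∈ b, ∃ u, ∃ _ : u ∈ Beta N n, res (j + 1) u = res (j + 1) v ∧ θ ∈ constit n u := by
    intro θ hθ
    obtain ⟨χ₁, hχ₁, θ₁, hθ₁, hcon⟩ := hcov
    obtain ⟨χ, hχ, hχθ⟩ := Char.exists_over_of_covered hM hB hb hχ₁ hθ₁ hcon hθ
    obtain ⟨u, hu, hχu⟩ := exists_label (N := N) hnN χ
    refine ⟨u, hu, sameRes_of_sameBlock hM hnN hv hu (by
      rw [← hχu]; exact (Char.mem_block_iff hP hB hvB χ).mp hχ), ?_⟩
    rw [constit, Finset.mem_filter]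
    exact ⟨Finset.mem_univ _, hχu ▸ hχθ⟩
  have hover : ∀ u ∈ Beta N n, res (j + 1) u = res (j + 1) v → ∃ θ₁ ∈ constit n u, ∃ θ ∈ b,
      charDegree (θ : (alternatingGroup (Fin n)) → ℂ) = charDegree (θ₁ : (alternatingGroup (Fin n)) → ℂ) := by
    intro u hu hres
    have huB := mem_block_of_sameRes hM hB hnN hv hvB hw hu hres
    obtain ⟨θ₁, hθ₁⟩ : (constit n u).Nonempty := Finset.card_pos.mp (constit_spec hu).2.2
    set e := blockOf M (θ₁ : (alternatingGroup (Fin n)) → ℂ) with he
    obtain ⟨g', hg'⟩ := Char.exists_transport_of_covers hM hB (Char.isPBlock_blockOf M θ₁) hb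
      ⟨chi ⟨u, hu⟩, huB, θ₁, Char.self_mem_blockOf hP θ₁, (Finset.mem_filter.mp hθ₁).2⟩ hcov
    refine ⟨θ₁, hθ₁, _, hg' ▸ Set.mem_image_of_mem _ (Char.self_mem_blockOf hP θ₁), ?_⟩
    simp only [charDegree, Char.irrTransport_apply, map_one]
  rcases Nat.lt_or_ge (j + 1) 3 with hp2 | hp3
  · -- the prime two
    obtain rfl : j = 1 := by have := hp.two_le; omega
    rw [Nat.prime_two.factorization_self] at hvA
    rcases Nat.lt_or_ge w 3 with hw3 | hw3
    · have h4 := hW4 rfl (by omega)
      rw [hcD, show 4 = (1 + 1) ^ 2 by rfl, Nat.pow_dvd_pow_iff_le_right (by norm_num)] at h4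
      refine Or.inr ⟨fun χ hχ => ?_, isMulCommutative_of_card_le (p := 1 + 1) hcardD h4⟩
      by_contra h0
      have := Char.height_add_two_le hM hb hχ h0
      omega
    · have hodd := hWodd rfl (by omega)
      have hhalf : blockDefect (1 + 1) b + 1 = blockDefect (1 + 1) B := by
        have h1 := card_le_two_mul_inf W
        have h2 : Nat.card (W ⊓ alternatingGroup (Fin n) : Subgroup (Perm (Fin n))) < Nat.card W := by
          refine lt_of_le_of_ne (Nat.le_of_dvd Nat.card_pos (Subgroup.card_dvd_of_le inf_le_left)) fun e => ?_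
          obtain ⟨z, hz, hsz⟩ := hodd
          have heq : W ⊓ alternatingGroup (Fin n) = W := Subgroup.eq_of_le_of_card_ge inf_le_left e.ge
          rw [← heq] at hz
          rw [Perm.mem_alternatingGroup.mp hz.2] at hsz
          exact absurd hsz (by decide)
        rw [hcD, hWcard, ← hdB] at h1 h2
        rw [← pow_succ'] at h1
        have h3 := (Nat.pow_le_pow_iff_right (by norm_num : 1 < 1 + 1)).mp h1
        have h4 := (Nat.pow_lt_pow_iff_right (by norm_num : 1 < 1 + 1)).mp h2
        omega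
      obtain ⟨u, hu, hres, hdeg, μ, hμ, he, hne⟩ := exists_up_two hv hw hw3 le_rfl
      have hone := dlt_ne_one_of_odd hu hμ he hne
      obtain ⟨θ₁, hθ₁, θ, hθ, hθd⟩ := hover u hu hres
      obtain ⟨-, -, hmul⟩ := mul_deg_constituent hu hθ₁
      rw [hone, one_mul] at hmul
      refine Or.inl ⟨⟨θ, hθ, ?_⟩, hasDeg_of_surj eD.toMonoidHom eD.surjective (hWdegA rfl hw3)⟩
      rw [Char.blockHeight_eq, Char.dexp, ← Char.charDegree_eq_deg, hθd, ← hmul]
      simp only [Nat.reduceAdd] at *
      omega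
  · -- odd primes
    have h2 : (2 : ℕ).factorization (j + 1) = 0 :=
      Nat.factorization_eq_zero_of_not_dvd fun h => by have := Nat.le_of_dvd two_pos h; omega
    rw [h2, zero_add] at hvA
    have hWA : W ⊓ alternatingGroup (Fin n) = W := inf_eq_left.mpr fun z hz => by
      rw [Perm.mem_alternatingGroup]
      obtain ⟨k, hk⟩ := hWp ⟨z, hz⟩
      have h1 : Perm.sign z ^ (j + 1) ^ k = 1 := by
        rw [← map_pow, show z ^ (j + 1) ^ k = 1 from congrArg Subtype.val hk, map_one]
      rcases Int.units_eq_one_or (Perm.sign z) with h | h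
      · exact h
      · rw [h, ((hp.odd_of_ne_two (by omega)).pow).neg_one_pow] at h1
        exact absurd h1 (by decide)
    have hdd : blockDefect (j + 1) b = blockDefect (j + 1) B := by
      rw [hWA, hWcard, ← hdB] at hcD
      exact (Nat.pow_right_injective hp.two_le hcD).symm
    have hval : ∀ u ∈ Beta N n, ∀ θ ∈ constit n u, (charDegree (psi (n := n) u)).factorization (j + 1) =
        (charDegree (θ : (alternatingGroup (Fin n)) → ℂ)).factorization (j + 1) := by
      intro u hu θ hθ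
      obtain ⟨k1, k2, hmul⟩ := mul_deg_constituent hu hθ
      have hne : charDegree (θ : (alternatingGroup (Fin n)) → ℂ) ≠ 0 := (Char.deg_pos θ.2).ne'
      rw [hmul, Nat.factorization_mul (by omega) hne, Finsupp.add_apply, Nat.factorization_eq_zero_of_not_dvd
        (fun h => by have := Nat.le_of_dvd k1 h; omega), zero_add]
    rcases Nat.lt_or_ge w (j + 1) with hwp | hwp
    · refine Or.inr ⟨fun θ hθ => ?_, hcomm fun a ha a' ha' => hWcomm hwp a ha.1 a' ha'.1⟩
      obtain ⟨u, hu, hres, hθu⟩ := hlab θ hθ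
      have h1 := dexp_small hp hu (hconf u hu hres) hwp
      rw [Char.blockHeight_eq, Char.dexp, ← Char.charDegree_eq_deg, ← hval u hu θ hθu]
      rw [vf_small hp hwp] at hdw
      omega
    · obtain ⟨u, hu, hres, hdeg⟩ := exists_up_odd hp hp3 hv hw hwp le_rfl
      obtain ⟨θ₁, hθ₁, θ, hθ, hθd⟩ := hover u hu hres
      let eW : D ≃* W := eD.trans (MulEquiv.subgroupCongr hWA)
      refine Or.inl ⟨⟨θ, hθ, ?_⟩, hasDeg_of_surj eW.toMonoidHom eW.surjective (hWdeg hwp)⟩
      rw [Char.blockHeight_eq, Char.dexp, ← Char.charDegree_eq_deg, hθd, ← hval u hu θ₁ hθ₁]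
      omega

end Cfsg.Agent.SymChar
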