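import Mathlib

/-!
# The alternant functions of a partition

`F μ v` is the coefficient of `x ^ v` in the product of the Vandermonde alternant with the power
sums of the parts of `μ`. Their orthogonality is proved by induction with an explicit sign
reversing involution.
-/

set_option autoImplicit false

namespace Cfsg.Agent.SymChar

open Finset Equiv
open scoped Nat

variable {N : ℕ}

/-- The staircase. -/
def del (N : ℕ) : Fin N → ℤ := fun i => (i : ℕ)

/-- Signed number of permutations carrying `v` to `w`. -/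
def Aint (v w : Fin N → ℤ) : ℤ :=
  ∑ σ : Perm (Fin N), if w = v ∘ σ then (Perm.sign σ : ℤ) else 0

/-- Lowering one coordinate by `k` in all possible ways. -/
def shift (k : ℕ) (f : (Fin N → ℤ) → ℤ) : (Fin N → ℤ) → ℤ :=
  fun v => ∑ i, f (v - Pi.single i (k : ℤ))

instance : LeftCommutative (shift (N := N)) := ⟨fun a b f => by
  funext v
  simp only [shift]
  rw [Finset.sum_comm]
  exact Finset.sum_congr rfl fun i _ => Finset.sum_congr rfl fun j _ => by rw [sub_right_comm]⟩

/-- The alternant function of the multiset `μ` of parts. -/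
def F (μ : Multiset ℕ) : (Fin N → ℤ) → ℤ := μ.foldr shift (Aint (del N))

theorem F_zero : F (0 : Multiset ℕ) = Aint (del N) := rfl

theorem F_cons (k : ℕ) (μ : Multiset ℕ) : F (N := N) (k ::ₘ μ) = shift k (F μ) :=
  Multiset.foldr_cons _ _ _ _

theorem F_cons_apply (k : ℕ) (μ : Multiset ℕ) (v : Fin N → ℤ) :
    F (k ::ₘ μ) v = ∑ i, F μ (v - Pi.single i (k : ℤ)) := by rw [F_cons]; rfl

theorem sign_mul_self' (σ : Perm (Fin N)) : (Perm.sign σ : ℤ) * Perm.sign σ = 1 := by
  rw [← Units.val_mul, Int.units_mul_self]; rfl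

theorem Aint_comp (v w : Fin N → ℤ) (τ : Perm (Fin N)) :
    Aint v (w ∘ τ) = (Perm.sign τ : ℤ) * Aint v w := by
  rw [Aint, Aint, Finset.mul_sum]
  refine Fintype.sum_equiv (Equiv.mulRight τ⁻¹) _ _ fun σ => ?_
  have e : w ∘ τ = v ∘ σ ↔ w = v ∘ ⇑(σ * τ⁻¹) := by
    constructor
    · intro h; funext i
      simpa using congr_fun h (τ⁻¹ i)
    · intro h; funext i
      simp [h]
  show (if w ∘ τ = v ∘ σ then (Perm.sign σ : ℤ) else 0) =
    (Perm.sign τ : ℤ) * (if w = v ∘ ⇑(σ * τ⁻¹) then (Perm.sign (σ * τ⁻¹) : ℤ) else 0)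
  split_ifs with h1 h2 h2
  · rw [map_mul, Perm.sign_inv, Units.val_mul, mul_left_comm, sign_mul_self', mul_one]
  · exact absurd (e.mp h1) h2
  · exact absurd (e.mpr h2) h1
  · rw [mul_zero]

theorem Aint_self_comp {v : Fin N → ℤ} (hv : Function.Injective v) (τ : Perm (Fin N)) :
    Aint v (v ∘ τ) = Perm.sign τ := by
  rw [Aint, Finset.sum_eq_single τ]
  · rw [if_pos rfl]
  · intro σ _ hσ
    rw [if_neg]
    intro h
    exact hσ (Equiv.ext fun i => (hv (congr_fun h i)).symm)
  · simp

theorem single_comp (τ : Perm (Fin N)) (j : Fin N) (k : ℤ) :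
    (Pi.single (τ j) k : Fin N → ℤ) ∘ τ = Pi.single j k := by
  funext i
  simp [Pi.single_apply]

theorem F_comp (μ : Multiset ℕ) : ∀ (v : Fin N → ℤ) (τ : Perm (Fin N)),
    F μ (v ∘ τ) = (Perm.sign τ : ℤ) * F μ v := by
  induction μ using Multiset.induction_on with
  | empty => exact fun v τ => Aint_comp _ v τ
  | cons k μ ih =>
    intro v τ
    rw [F_cons_apply, F_cons_apply, Finset.mul_sum]
    refine Fintype.sum_equiv τ _ _ fun j => ?_
    rw [← ih, ← single_comp τ j]
    rfl

theorem F_eq_zero_of_not_injective (μ : Multiset ℕ) {v : Fin N → ℤ} (h : ¬ Function.Injective v) :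
    F μ v = 0 := by
  obtain ⟨i, j, hij, hne⟩ := Function.not_injective_iff.mp h
  have e : v ∘ Equiv.swap i j = v := by
    funext a
    show v (Equiv.swap i j a) = v a
    rw [Equiv.swap_apply_def]
    split_ifs with h1 h2
    · rw [h1, hij]
    · rw [h2, hij]
    · rfl
  have h2 := F_comp μ v (Equiv.swap i j)
  rw [e, Perm.sign_swap hne] at h2
  simp at h2
  linarith

theorem F_eq_zero_of_neg (μ : Multiset ℕ) : ∀ {v : Fin N → ℤ} {i : Fin N}, v i < 0 → F μ v = 0 := by
  induction μ using Multiset.induction_on with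
  | empty =>
    intro v i hi
    rw [F_zero, Aint]
    refine Finset.sum_eq_zero fun σ _ => if_neg fun h => ?_
    have := congr_fun h i
    simp [del] at this
    omega
  | cons k μ ih =>
    intro v i hi
    rw [F_cons_apply]
    refine Finset.sum_eq_zero fun j _ => ih (i := i) ?_
    by_cases hij : i = j
    · subst hij; simp; omega
    · simp [hij, hi]

/-- Level `n`: nonnegative vectors of total `n` above the staircase. -/
def Adm (n : ℕ) (v : Fin N → ℤ) : Prop := (∀ i, 0 ≤ v i) ∧ ∑ i, v i = (n : ℤ) + ∑ i, del N i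

theorem F_eq_zero_of_sum (μ : Multiset ℕ) : ∀ {v : Fin N → ℤ},
    ∑ i, v i ≠ (μ.sum : ℤ) + ∑ i, del N i → F μ v = 0 := by
  induction μ using Multiset.induction_on with
  | empty =>
    intro v hv
    rw [F_zero, Aint]
    refine Finset.sum_eq_zero fun σ _ => if_neg fun h => hv ?_
    subst h
    simp only [Multiset.sum_zero, Nat.cast_zero, zero_add, Function.comp_apply]
    exact Equiv.sum_comp σ (del N)
  | cons k μ ih =>
    intro v hv
    rw [F_cons_apply]
    refine Finset.sum_eq_zero fun j _ => ih ?_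
    intro h
    apply hv
    simp only [Pi.sub_apply, Finset.sum_sub_distrib, Finset.sum_pi_single', Finset.mem_univ, if_true] at h
    rw [Multiset.sum_cons, Nat.cast_add]
    linarith

/-- The number of positions below a strictly smaller one. -/
theorem card_lt_pairs {v : Fin N → ℤ} (hv : Function.Injective v) :
    (2 : ℤ) * ((Finset.univ : Finset (Fin N × Fin N)).filter fun q => v q.2 < v q.1).card =
      (N : ℤ) * N - N := by
  classical
  set S := (Finset.univ : Finset (Fin N × Fin N)).filter fun q => v q.2 < v q.1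
  have h1 : (S.map (Equiv.prodComm _ _).toEmbedding) =
      (Finset.univ : Finset (Fin N × Fin N)).filter fun q => v q.1 < v q.2 := by
    ext q
    simp [S, Finset.mem_map, Equiv.prodComm]
  have hdis : Disjoint S (S.map (Equiv.prodComm _ _).toEmbedding) := by
    rw [h1]
    exact Finset.disjoint_filter.mpr fun q _ => by omega
  have hun : S ∪ (S.map (Equiv.prodComm _ _).toEmbedding) = (Finset.univ : Finset (Fin N)).offDiag := by
    rw [h1]
    ext q
    simp only [S, Finset.mem_union, Finset.mem_filter, Finset.mem_univ, true_and, Finset.mem_offDiag]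
    constructor
    · rintro (h | h) e <;> rw [e] at h <;> omega
    · intro h
      rcases lt_trichotomy (v q.1) (v q.2) with h' | h' | h'
      · exact Or.inr h'
      · exact absurd (hv h') h
      · exact Or.inl h'
  have := congrArg Finset.card hun
  rw [Finset.card_union_of_disjoint hdis, Finset.card_map, Finset.offDiag_card] at this
  simp only [Finset.card_univ, Fintype.card_fin] at this
  have hle : N ≤ N * N := Nat.le_mul_self N
  zify [hle] at this
  linarith

theorem two_sum_del (N : ℕ) : (2 : ℤ) * ∑ i, del N i = (N : ℤ) * N - N := by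
  induction N with
  | zero => simp [del]
  | succ N ih =>
    rw [Fin.sum_univ_castSucc]
    have e : ∀ i : Fin N, del (N + 1) i.castSucc = del N i := fun i => rfl
    simp only [e]
    have e2 : del (N + 1) (Fin.last N) = N := rfl
    rw [e2]
    push_cast
    linarith

/-- An injective nonnegative vector of minimal total is a permuted staircase. -/
theorem exists_comp_del {v : Fin N → ℤ} (h : Adm 0 v) (hv : Function.Injective v) :
    ∃ σ : Perm (Fin N), v = del N ∘ σ := by
  classical
  set T := (Finset.univ.image v) with hT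
  have hcard : T.card = N := by rw [hT, Finset.card_image_of_injective _ hv, Finset.card_fin]
  have hmono := (T.orderEmbOfFin hcard).strictMono
  set f : Fin N → ℤ := fun i => T.orderEmbOfFin hcard i with hf
  have hge : ∀ i : Fin N, (i : ℤ) ≤ f i := by
    rintro ⟨i, hi⟩
    induction i with
    | zero =>
      obtain ⟨j, -, hj⟩ := Finset.mem_image.mp (T.orderEmbOfFin_mem hcard ⟨0, hi⟩)
      simp only [hf, Nat.cast_zero]
      rw [← hj]; exact h.1 j
    | succ i ih =>
      have h1 := ih (by omega)
      have h2 : f ⟨i, by omega⟩ < f ⟨i + 1, hi⟩ := hmono (by simp)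
      simp only [Nat.cast_add, Nat.cast_one] at *
      omega
  have hsum : ∑ i, f i = ∑ i, v i := by
    rw [show ∑ i, v i = ∑ x ∈ T, x by rw [hT, Finset.sum_image fun a _ b _ e => hv e]]
    conv_rhs => rw [← Finset.map_orderEmbOfFin_univ T hcard, Finset.sum_map]
    rfl
  have heq : ∀ i : Fin N, f i = i := by
    have h0 : ∑ i : Fin N, (f i - del N i) = 0 := by
      rw [Finset.sum_sub_distrib, hsum, h.2]; simp
    intro i
    have := (Finset.sum_eq_zero_iff_of_nonneg fun i _ => by simpa [del] using hge i).mp h0 i (Finset.mem_univ _)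
    simp [del] at this
    omega
  have hmem : ∀ j, ∃ i : Fin N, (i : ℤ) = v j := fun j => by
    have : v j ∈ T := Finset.mem_image_of_mem v (Finset.mem_univ j)
    rw [← Finset.map_orderEmbOfFin_univ T hcard, Finset.mem_map] at this
    obtain ⟨i, -, hi⟩ := this
    exact ⟨i, by rw [← heq i]; exact hi⟩
  choose g hg using hmem
  have ginj : Function.Injective g := fun a b e => hv (by rw [← hg a, ← hg b, e])
  exact ⟨Equiv.ofBijective g ⟨ginj, Finite.injective_iff_surjective.mp ginj⟩,
    funext fun j => (hg j).symm⟩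

theorem Aint_zero_of_not_injective_left {v w : Fin N → ℤ} (h : ¬ Function.Injective v) :
    Aint v w = 0 := by
  classical
  obtain ⟨i, j, hij, hne⟩ := Function.not_injective_iff.mp h
  have key : ∑ σ : Perm (Fin N), (if w = v ∘ σ then (Perm.sign σ : ℤ) else 0) =
      - ∑ σ : Perm (Fin N), (if w = v ∘ σ then (Perm.sign σ : ℤ) else 0) := by
    rw [← Finset.sum_neg_distrib]
    refine Fintype.sum_equiv (Equiv.mulLeft (Equiv.swap i j)) _ _ fun σ => ?_
    have e : v ∘ ⇑(Equiv.swap i j * σ) = v ∘ σ := by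
      funext a
      simp only [Function.comp_apply, Perm.coe_mul]
      rw [Equiv.swap_apply_def]
      split_ifs with h1 h2
      · rw [h1, hij]
      · rw [h2, hij]
      · rfl
    simp only [Equiv.coe_mulLeft, e, map_mul, Perm.sign_swap hne, Units.val_mul]
    split_ifs <;> simp
  rw [Aint]
  linarith

theorem swap_single (v : Fin N → ℤ) {i m : Fin N} (h : i ≠ m) (k : ℤ) :
    (v - Pi.single i k + Pi.single m k) ∘ Equiv.swap i m =
      v - Pi.single i (v i - v m - k) + Pi.single m (v i - v m - k) := by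
  funext a
  simp only [Function.comp_apply, Pi.add_apply, Pi.sub_apply]
  by_cases ha : a = i
  · subst ha
    rw [Equiv.swap_apply_left, Pi.single_eq_same, Pi.single_eq_of_ne h.symm, Pi.single_eq_same,
      Pi.single_eq_of_ne h]
    ring
  by_cases ha' : a = m
  · subst ha'
    rw [Equiv.swap_apply_right, Pi.single_eq_same, Pi.single_eq_of_ne h, Pi.single_eq_same,
      Pi.single_eq_of_ne h.symm]
    ring
  rw [Equiv.swap_apply_of_ne_of_ne ha ha']
  simp only [Pi.single_eq_of_ne ha, Pi.single_eq_of_ne ha']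

/-- The involution of the orthogonality induction. -/
theorem pair_sum (v w : Fin N → ℤ) (hv : Function.Injective v) (hpos : ∀ i, 0 ≤ v i)
    {L : ℕ} (hL : ∀ i, v i ≤ L) :
    ∑ σ : Perm (Fin N), ∑ i, ∑ m, ∑ k ∈ Finset.Icc 1 L,
      (if (k : ℤ) ≤ v i ∧ w = (v - Pi.single i (k : ℤ) + Pi.single m (k : ℤ)) ∘ σ
        then (Perm.sign σ : ℤ) else 0) = (∑ i, v i - ∑ i, del N i) * Aint v w := by
  classical
  -- the diagonal
  let T : Finset (Perm (Fin N) × Fin N × Fin N × ℕ) :=
    (Finset.univ ×ˢ Finset.univ ×ˢ Finset.univ ×ˢ Finset.Icc 1 L).filter fun t =>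
      (t.2.2.2 : ℤ) ≤ v t.2.1 ∧
        w = (v - Pi.single t.2.1 (t.2.2.2 : ℤ) + Pi.single t.2.2.1 (t.2.2.2 : ℤ)) ∘ t.1
  have h0 : ∑ σ : Perm (Fin N), ∑ i, ∑ m, ∑ k ∈ Finset.Icc 1 L,
      (if (k : ℤ) ≤ v i ∧ w = (v - Pi.single i (k : ℤ) + Pi.single m (k : ℤ)) ∘ σ
        then (Perm.sign σ : ℤ) else 0) = ∑ t ∈ T, (Perm.sign t.1 : ℤ) := by
    simp only [T, Finset.sum_filter, Finset.sum_product]
  rw [h0]
  let Dg := T.filter fun t => t.2.1 = t.2.2.1
  let Ex := T.filter fun t => t.2.1 ≠ t.2.2.1 ∧ (t.2.2.2 : ℤ) = v t.2.1 - v t.2.2.1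
  let Rest := T.filter fun t => t.2.1 ≠ t.2.2.1 ∧ (t.2.2.2 : ℤ) ≠ v t.2.1 - v t.2.2.1
  have hsplit : ∑ t ∈ T, (Perm.sign t.1 : ℤ) = (∑ t ∈ Dg, (Perm.sign t.1 : ℤ)) +
      ((∑ t ∈ Ex, (Perm.sign t.1 : ℤ)) + ∑ t ∈ Rest, (Perm.sign t.1 : ℤ)) := by
    rw [← Finset.sum_filter_add_sum_filter_not T fun t => t.2.1 = t.2.2.1]
    congr 1
    rw [← Finset.sum_filter_add_sum_filter_not (T.filter fun t => ¬ t.2.1 = t.2.2.1)
      fun t => (t.2.2.2 : ℤ) = v t.2.1 - v t.2.2.1]
    simp only [Ex, Rest, ne_eq, Finset.filter_filter]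
  rw [hsplit]
  have hD : ∑ t ∈ Dg, (Perm.sign t.1 : ℤ) = (∑ i, v i) * Aint v w := by
    simp only [Dg, T, Finset.filter_filter]
    rw [Finset.sum_filter]
    simp only [Finset.sum_product]
    rw [Finset.sum_mul, Aint, Finset.sum_comm]
    refine Finset.sum_congr rfl fun i _ => ?_
    rw [Finset.mul_sum]
    refine Finset.sum_congr rfl fun σ _ => ?_
    rw [Finset.sum_eq_single i]
    · by_cases hw : w = v ∘ σ
      · rw [if_pos hw, ← Finset.sum_filter, Finset.sum_const, nsmul_eq_mul]
        congr 1
        have e : ((Finset.Icc 1 L).filter fun k : ℕ => ((k : ℤ) ≤ v i ∧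
            w = (v - Pi.single i (k : ℤ) + Pi.single i (k : ℤ)) ∘ σ) ∧ i = i) =
            Finset.Icc 1 (v i).toNat := by
          ext k
          simp only [Finset.mem_filter, Finset.mem_Icc, sub_add_cancel, hw, and_true]
          have := hL i
          have := hpos i
          omega
        rw [e, Nat.card_Icc]
        have := hpos i
        push_cast
        omega
      · rw [if_neg hw, mul_zero]
        refine Finset.sum_eq_zero fun k _ => if_neg ?_
        rintro ⟨⟨-, h⟩, -⟩
        exact hw (by rwa [sub_add_cancel] at h)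
    · intro m _ hm
      exact Finset.sum_eq_zero fun k _ => if_neg fun h => hm h.2.symm
    · simp
  have hE : ∑ t ∈ Ex, (Perm.sign t.1 : ℤ) = - (∑ i, del N i) * Aint v w := by
    set P2 := (Finset.univ : Finset (Fin N × Fin N)).filter fun q => v q.2 < v q.1
    have hc : (P2.card : ℤ) = ∑ i, del N i := by
      have := card_lt_pairs hv
      have := two_sum_del N
      linarith
    have hA : ∀ q ∈ P2, (∑ σ : Perm (Fin N),
        if w = (v ∘ Equiv.swap q.1 q.2) ∘ σ then (Perm.sign σ : ℤ) else 0) = - Aint v w := by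
      intro q hq
      have hne : q.1 ≠ q.2 := fun e => by simp [P2, e] at hq
      rw [Aint, ← Finset.sum_neg_distrib]
      refine Fintype.sum_equiv (Equiv.mulLeft (Equiv.swap q.1 q.2)) _ _ fun σ => ?_
      simp only [Equiv.coe_mulLeft, map_mul, Perm.sign_swap hne, Units.val_mul, Perm.coe_mul]
      rw [Function.comp_assoc]
      split_ifs <;> simp
    rw [neg_mul, ← hc, ← mul_neg, ← nsmul_eq_mul, ← Finset.sum_const, ← Finset.sum_congr rfl hA,
      Finset.sum_comm, ← Finset.sum_product', ← Finset.sum_filter]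
    have hsw : ∀ i m : Fin N, i ≠ m →
        v - Pi.single i (v i - v m) + Pi.single m (v i - v m) = v ∘ Equiv.swap i m := by
      intro i m hne
      have h := swap_single v hne (v i - v m)
      simp only [sub_self, Pi.single_zero, sub_zero, add_zero] at h
      funext a
      have h2 := congr_fun h (Equiv.swap i m a)
      simp only [Function.comp_apply, Equiv.swap_apply_self] at h2
      exact h2
    refine Finset.sum_nbij' (fun t => (t.1, t.2.1, t.2.2.1)) (fun t => (t.1, t.2.1, t.2.2, (v t.2.1 - v t.2.2).toNat))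
      ?_ ?_ ?_ ?_ ?_
    · rintro ⟨σ, i, m, k⟩ ht
      simp only [Ex, T, Finset.mem_filter, Finset.mem_product, Finset.mem_univ, true_and, Finset.mem_Icc] at ht
      obtain ⟨⟨⟨hk1, -⟩, -, hw⟩, hne, hk⟩ := ht
      simp only [Finset.mem_filter, Finset.mem_product, Finset.mem_univ, true_and, P2]
      refine ⟨by omega, ?_⟩
      rw [hw, hk, hsw i m hne]
    · rintro ⟨σ, i, m⟩ ht
      simp only [Finset.mem_filter, Finset.mem_product, Finset.mem_univ, true_and, P2] at ht
      obtain ⟨hlt, hw⟩ := ht
      have hne : i ≠ m := fun e => by subst e; omega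
      have := hL i
      have := hpos m
      have e : ((v i - v m).toNat : ℤ) = v i - v m := Int.toNat_of_nonneg (by omega)
      simp only [Ex, T, Finset.mem_filter, Finset.mem_product, Finset.mem_univ, true_and, Finset.mem_Icc]
      refine ⟨⟨⟨by omega, by omega⟩, by omega, ?_⟩, hne, e⟩
      rw [e, hsw i m hne]; exact hw
    · rintro ⟨σ, i, m, k⟩ ht
      simp only [Ex, T, Finset.mem_filter] at ht
      simp only [Prod.mk.injEq, true_and]
      omega
    · intros; rfl
    · intros; rfl
  have hR : ∑ t ∈ Rest, (Perm.sign t.1 : ℤ) = 0 := by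
    refine Finset.sum_involution (fun t _ =>
      if (t.2.2.2 : ℤ) < v t.2.1 - v t.2.2.1 then
        (Equiv.swap t.2.1 t.2.2.1 * t.1, t.2.1, t.2.2.1, (v t.2.1 - v t.2.2.1 - t.2.2.2).toNat)
      else (Equiv.swap t.2.1 t.2.2.1 * t.1, t.2.2.1, t.2.1, (t.2.2.2 - (v t.2.1 - v t.2.2.1)).toNat))
      ?_ ?_ ?_ ?_
    · rintro ⟨σ, i, m, k⟩ ht
      simp only [Rest, Finset.mem_filter] at ht
      have hne := ht.2.1
      simp only
      split_ifs <;> simp [map_mul, Perm.sign_swap hne]
    · rintro ⟨σ, i, m, k⟩ ht - h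
      simp only [Rest, Finset.mem_filter] at ht
      have hne := ht.2.1
      have hs : Equiv.swap i m * σ = σ := by split_ifs at h <;> exact congrArg Prod.fst h
      exact hne (Equiv.swap_eq_one_iff.mp (mul_eq_right.mp hs))
    · rintro ⟨σ, i, m, k⟩ ht
      simp only [Rest, T, Finset.mem_filter, Finset.mem_product, Finset.mem_univ, true_and,
        Finset.mem_Icc] at ht
      obtain ⟨⟨⟨hk1, -⟩, hki, hw⟩, hne, hk⟩ := ht
      simp only
      by_cases hlt : (k : ℤ) < v i - v m
      · rw [if_pos hlt]
        have e : ((v i - v m - k).toNat : ℤ) = v i - v m - k := Int.toNat_of_nonneg (by omega)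
        have := hL i
        have := hpos m
        simp only [Rest, T, Finset.mem_filter, Finset.mem_product, Finset.mem_univ, true_and, Finset.mem_Icc]
        refine ⟨⟨⟨by omega, by omega⟩, by omega, ?_⟩, hne, by omega⟩
        rw [hw, e, ← swap_single v hne, Perm.coe_mul, ← Function.comp_assoc]
        congr 1
        funext a
        simp
      · rw [if_neg hlt]
        have e : (((k : ℤ) - (v i - v m)).toNat : ℤ) = k - (v i - v m) := Int.toNat_of_nonneg (by omega)
        have := hL m
        simp only [Rest, T, Finset.mem_filter, Finset.mem_product, Finset.mem_univ, true_and, Finset.mem_Icc]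
        refine ⟨⟨⟨by omega, by omega⟩, by omega, ?_⟩, hne.symm, by omega⟩
        rw [hw, e, Perm.coe_mul, ← Function.comp_assoc, Equiv.swap_comm i m, swap_single v hne.symm]
        congr 1
        have h4 : v m - v i - (↑k - (v i - v m)) = -(k : ℤ) := by ring
        rw [h4, Pi.single_neg, Pi.single_neg]
        abel
    · rintro ⟨σ, i, m, k⟩ ht
      simp only [Rest, T, Finset.mem_filter, Finset.mem_product, Finset.mem_univ, true_and,
        Finset.mem_Icc] at ht
      obtain ⟨⟨⟨hk1, -⟩, hki, -⟩, hne, hk⟩ := ht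
      simp only
      by_cases hlt : (k : ℤ) < v i - v m
      · simp only [if_pos hlt]
        rw [if_pos (by omega)]
        simp only [Equiv.swap_mul_self_mul, Prod.mk.injEq, true_and]
        omega
      · simp only [if_neg hlt]
        rw [if_neg (by omega)]
        simp only [Equiv.swap_comm m i, Equiv.swap_mul_self_mul, Prod.mk.injEq, true_and]
        omega
  rw [hD, hE, hR]
  ring

end Cfsg.Agent.SymChar
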