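import Cfsg.Agent.Lib.Char.SymChar.Runners

/-!
# Labels with given residues, and the number of regular dimensions
-/

set_option autoImplicit false

namespace Cfsg.Agent.SymChar

open Finset

variable {N p : ℕ}

/-- The residues of the coordinates. -/
def res (p : ℕ) (v : Fin N → ℤ) : Multiset ℤ := Finset.univ.val.map fun i => v i % p

/-- The labels with the residues of `v₀`. -/
def SameRes (p : ℕ) (v₀ : Fin N → ℤ) : (Fin N → ℤ) → Prop := fun v => res p v = res p v₀

theorem res_comp (v : Fin N → ℤ) (σ : Equiv.Perm (Fin N)) : res p (v ∘ σ) = res p v := by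
  have h : (Finset.univ : Finset (Fin N)).val.map σ = Finset.univ.val :=
    congrArg Finset.val (Finset.map_univ_equiv σ)
  rw [res, res]
  conv_rhs => rw [← h, Multiset.map_map]
  rfl

theorem res_shift {k : ℕ} (hk : p ∣ k) (v : Fin N → ℤ) (i : Fin N) :
    res p (v - Pi.single i (k : ℤ)) = res p v := by
  obtain ⟨d, rfl⟩ := hk
  refine Multiset.map_congr rfl fun j _ => ?_
  by_cases h : j = i
  · subst h
    simp [Int.sub_emod]
  · simp [Pi.single_eq_of_ne h]

theorem stable_sameRes (p : ℕ) (v₀ : Fin N → ℤ) : Stable p (SameRes p v₀) :=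
  ⟨fun v σ => by rw [SameRes, SameRes, res_comp], fun k hk v i => by rw [SameRes, SameRes, res_shift hk]⟩

/-- The number of beads on a runner. -/
def beads (p : ℕ) (v : Fin N → ℤ) (r : Fin p) : ℕ :=
  (Finset.univ.filter fun i => v i % (p : ℤ) = (r : ℕ)).card

theorem beads_eq_count (v : Fin N → ℤ) (r : Fin p) : beads p v r = (res p v).count ((r : ℕ) : ℤ) := by
  rw [beads, res, Multiset.count_map]
  simp only [eq_comm]
  rfl

theorem beads_congr {v w : Fin N → ℤ} (h : res p v = res p w) : beads p v = beads p w :=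
  funext fun r => by rw [beads_eq_count, beads_eq_count, h]

theorem exists_residue (hp : 0 < p) (z : ℤ) : ∃ r : Fin p, z % (p : ℤ) = ((r : ℕ) : ℤ) := by
  have h1 := Int.emod_nonneg z (b := (p : ℤ)) (by omega)
  have h2 := Int.emod_lt_of_pos z (b := (p : ℤ)) (by omega)
  exact ⟨⟨(z % p).toNat, by omega⟩, by simp [Int.toNat_of_nonneg h1]⟩

theorem res_eq_of_beads (hp : 0 < p) {v w : Fin N → ℤ} (h : beads p v = beads p w) :
    res p v = res p w := by
  refine Multiset.ext.mpr fun z => ?_
  by_cases hz : 0 ≤ z ∧ z < p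
  · have := congr_fun h ⟨z.toNat, by omega⟩
    rw [beads_eq_count, beads_eq_count] at this
    simpa [Int.toNat_of_nonneg hz.1] using this
  · have e : ∀ u : Fin N → ℤ, z ∉ res p u := fun u hu => by
      obtain ⟨i, -, rfl⟩ := Multiset.mem_map.mp hu
      exact hz ⟨Int.emod_nonneg _ (by omega), Int.emod_lt_of_pos _ (by omega)⟩
    rw [Multiset.count_eq_zero.mpr (e v), Multiset.count_eq_zero.mpr (e w)]

/-- The positions of the beads on a runner. -/
def runner (p : ℕ) (v : Fin N → ℤ) (r : Fin p) : Finset ℕ :=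
  (Finset.univ.filter fun i => v i % (p : ℤ) = (r : ℕ)).image fun i => (v i / (p : ℤ)).toNat

theorem mem_runner {v : Fin N → ℤ} (hv : ∀ i, 0 ≤ v i) {r : Fin p} {q : ℕ} :
    q ∈ runner p v r ↔ ∃ i, v i = (p : ℤ) * q + (r : ℕ) := by
  have hp : (0 : ℤ) < p := by have := r.isLt; omega
  simp only [runner, Finset.mem_image, Finset.mem_filter, Finset.mem_univ, true_and]
  constructor
  · rintro ⟨i, hi, rfl⟩
    refine ⟨i, ?_⟩
    rw [Int.toNat_of_nonneg (Int.ediv_nonneg (hv i) hp.le), ← hi]
    exact (Int.mul_ediv_add_emod (v i) p).symm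
  · rintro ⟨i, hi⟩
    have hr : ((r : ℕ) : ℤ) < p := by exact_mod_cast r.isLt
    refine ⟨i, ?_, ?_⟩
    · rw [hi, Int.mul_add_emod_self_left, Int.emod_eq_of_lt (by positivity) hr]
    · rw [hi, Int.mul_add_ediv_left _ _ hp.ne', Int.ediv_eq_zero_of_lt (by positivity) hr, add_zero,
        Int.toNat_natCast]

theorem runner_injOn {v : Fin N → ℤ} (hv : ∀ i, 0 ≤ v i) (hinj : Function.Injective v) (r : Fin p) :
    Set.InjOn (fun i => (v i / (p : ℤ)).toNat)
      (Finset.univ.filter fun i => v i % (p : ℤ) = (r : ℕ) : Finset (Fin N)) := by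
  have hp : (0 : ℤ) < p := by have := r.isLt; omega
  intro a ha b hb e
  simp only [Finset.coe_filter, Finset.mem_univ, true_and, Set.mem_ofPred_eq] at ha hb
  refine hinj ?_
  have h1 := Int.ediv_nonneg (hv a) hp.le
  have h2 := Int.ediv_nonneg (hv b) hp.le
  have e' : v a / (p : ℤ) = v b / p := by simp only at e; omega
  rw [← Int.mul_ediv_add_emod (v a) p, ← Int.mul_ediv_add_emod (v b) p, e', ha, hb]

theorem card_runner {v : Fin N → ℤ} (hv : ∀ i, 0 ≤ v i) (hinj : Function.Injective v) (r : Fin p) :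
    (runner p v r).card = beads p v r :=
  Finset.card_image_of_injOn (runner_injOn hv hinj r)

/-- The total of the core with bead numbers `c`. -/
def base (p : ℕ) (c : Fin p → ℕ) : ℤ :=
  (p : ℤ) * ((∑ r, tot (Finset.range (c r)) : ℕ) : ℤ) + ∑ r : Fin p, ((r : ℕ) : ℤ) * c r

theorem sum_eq_runners (hp : 0 < p) {v : Fin N → ℤ} (hv : ∀ i, 0 ≤ v i) (hinj : Function.Injective v) :
    ∑ i, v i = (p : ℤ) * ((∑ r, tot (runner p v r) : ℕ) : ℤ) +
      ∑ r : Fin p, ((r : ℕ) : ℤ) * beads p v r := by
  classical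
  choose g hg using fun i => exists_residue hp (v i)
  rw [← Finset.sum_fiberwise Finset.univ g v]
  push_cast
  rw [Finset.mul_sum, ← Finset.sum_add_distrib]
  refine Finset.sum_congr rfl fun r _ => ?_
  have e : (Finset.univ.filter fun i => g i = r) = Finset.univ.filter fun i => v i % (p : ℤ) = (r : ℕ) := by
    ext i
    simp only [Finset.mem_filter, Finset.mem_univ, true_and, hg i]
    exact ⟨fun h => by rw [h], fun h => Fin.ext (by exact_mod_cast h)⟩
  rw [e, tot, runner, Finset.sum_image (runner_injOn hv hinj r), beads]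
  push_cast
  rw [Finset.mul_sum, mul_comm ((r : ℕ) : ℤ), ← nsmul_eq_mul, ← Finset.sum_const, ← Finset.sum_add_distrib]
  refine Finset.sum_congr rfl fun i hi => ?_
  rw [Int.toNat_of_nonneg (Int.ediv_nonneg (hv i) (by omega)), ← (Finset.mem_filter.mp hi).2]
  exact (Int.mul_ediv_add_emod (v i) p).symm

theorem exists_weight (hp : 0 < p) {n : ℕ} {v₀ v : Fin N → ℤ} (hv : v ∈ Beta N n)
    (hres : res p v = res p v₀) :
    ∃ w : ℕ, (n : ℤ) + ∑ i, del N i = base p (beads p v₀) + p * w ∧
      runner p v ∈ Conf (beads p v₀) w := by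
  obtain ⟨hA, hmono⟩ := mem_Beta.mp hv
  have hc : ∀ r, (runner p v r).card = beads p v₀ r := fun r => by
    rw [card_runner hA.1 hmono.injective, beads_congr hres]
  have hge : ∀ r, tot (Finset.range (beads p v₀ r)) ≤ tot (runner p v r) := fun r =>
    hc r ▸ sum_range_le _
  have h := sum_eq_runners hp hA.1 hmono.injective
  rw [hA.2, beads_congr hres] at h
  have hle : ∑ r, tot (Finset.range (beads p v₀ r)) ≤ ∑ r, tot (runner p v r) :=
    Finset.sum_le_sum fun r _ => hge r
  refine ⟨∑ r, tot (runner p v r) - ∑ r, tot (Finset.range (beads p v₀ r)), ?_,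
    mem_Conf.mpr ⟨hc, (Nat.add_sub_cancel' hle).symm⟩⟩
  rw [h, base, Nat.cast_sub hle]
  ring

open scoped Classical in
theorem card_sameRes (hp : 0 < p) {n w : ℕ} {v₀ : Fin N → ℤ}
    (hnw : (n : ℤ) + ∑ i, del N i = base p (beads p v₀) + p * w) :
    ((Beta N n).filter (SameRes p v₀)).card = (Conf (beads p v₀) w).card := by
  have hN : ∑ r, beads p v₀ r = N := by
    have := Finset.card_eq_sum_card_fiberwise (s := (Finset.univ : Finset (Fin N)))
      (t := (Finset.univ : Finset (Fin p))) (f := fun i => (exists_residue hp (v₀ i)).choose)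
      (fun i _ => Finset.mem_univ _)
    rw [Finset.card_fin] at this
    refine Eq.trans (Finset.sum_congr rfl fun r _ => ?_) this.symm
    rw [beads]
    congr 1
    ext i
    simp only [Finset.mem_filter, Finset.mem_univ, true_and]
    have h := (exists_residue hp (v₀ i)).choose_spec
    exact ⟨fun e => Fin.ext (by rw [h] at e; exact_mod_cast e), fun e => by rw [h, e]⟩
  refine Finset.card_bij (fun v _ => runner p v) ?_ ?_ ?_
  · intro v hv
    obtain ⟨hv1, hv2⟩ := Finset.mem_filter.mp hv
    obtain ⟨w', hw', hmem⟩ := exists_weight hp hv1 hv2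
    have : w' = w := by
      have h : (p : ℤ) * w' = p * w := by linarith
      exact_mod_cast mul_left_cancel₀ (by omega : (p : ℤ) ≠ 0) h
    rwa [this] at hmem
  · intro v hv v' hv' e
    obtain ⟨hA, hmono⟩ := mem_Beta.mp (Finset.mem_filter.mp hv).1
    obtain ⟨hB, hmono'⟩ := mem_Beta.mp (Finset.mem_filter.mp hv').1
    refine (hmono.range_inj hmono').mp (Set.ext fun z => ?_)
    have key : ∀ (x y : Fin N → ℤ), (∀ i, 0 ≤ x i) → (∀ i, 0 ≤ y i) → runner p x = runner p y →
        z ∈ Set.range x → z ∈ Set.range y := by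
      rintro x y hx hy e ⟨i, rfl⟩
      obtain ⟨r, hr⟩ := exists_residue hp (x i)
      have hx' : x i = (p : ℤ) * ((x i / p).toNat : ℤ) + (r : ℕ) := by
        rw [Int.toNat_of_nonneg (Int.ediv_nonneg (hx i) (by omega)), ← hr]
        exact (Int.mul_ediv_add_emod (x i) p).symm
      have hm : (x i / p).toNat ∈ runner p y r := e ▸ (mem_runner hx).mpr ⟨i, hx'⟩
      obtain ⟨j, hj⟩ := (mem_runner hy).mp hm
      exact ⟨j, hj.trans hx'.symm⟩
    exact ⟨key v v' hA.1 hB.1 e, key v' v hB.1 hA.1 e.symm⟩
  · intro f hf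
    obtain ⟨hcard, hsum⟩ := mem_Conf.mp hf
    set T : Finset (Σ _ : Fin p, ℕ) := Finset.univ.sigma f with hT
    set val : (Σ _ : Fin p, ℕ) → ℤ := fun q => (p : ℤ) * q.2 + (q.1 : ℕ) with hval
    have hvalinj : Function.Injective val := by
      rintro ⟨r, q⟩ ⟨r', q'⟩ e
      simp only [hval] at e
      have hr : ((r : ℕ) : ℤ) < p := by exact_mod_cast r.isLt
      have hr' : ((r' : ℕ) : ℤ) < p := by exact_mod_cast r'.isLt
      have h1 := congrArg (· % (p : ℤ)) e
      simp only [Int.mul_add_emod_self_left] at h1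
      rw [Int.emod_eq_of_lt (by positivity) hr, Int.emod_eq_of_lt (by positivity) hr'] at h1
      have h3 : r = r' := Fin.ext (by exact_mod_cast h1)
      subst h3
      have h4 : (q : ℤ) = q' := mul_left_cancel₀ (by omega : (p : ℤ) ≠ 0) (add_right_cancel e)
      rw [Int.natCast_inj.mp h4]
    set V := T.map ⟨val, hvalinj⟩ with hV
    have hVcard : V.card = N := by
      rw [hV, Finset.card_map, hT, Finset.card_sigma, Finset.sum_congr rfl fun r _ => hcard r, hN]
    set v : Fin N → ℤ := fun i => V.orderEmbOfFin hVcard i with hvdef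
    have hmono : StrictMono v := (V.orderEmbOfFin hVcard).strictMono
    have hrange : ∀ z, z ∈ V ↔ ∃ i, v i = z := by
      intro z
      have h := Finset.range_orderEmbOfFin V hVcard
      rw [← Finset.mem_coe, ← h]
      exact ⟨fun ⟨i, hi⟩ => ⟨i, hi⟩, fun ⟨i, hi⟩ => ⟨i, hi⟩⟩
    have hpos : ∀ i, 0 ≤ v i := fun i => by
      have hm : v i ∈ V := (hrange _).mpr ⟨i, rfl⟩
      obtain ⟨q, -, hq⟩ := Finset.mem_map.mp hm
      simp only [hval, Function.Embedding.coeFn_mk] at hq
      rw [← hq]; positivity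
    have hrun : runner p v = f := by
      funext r
      ext q
      rw [mem_runner hpos]
      constructor
      · rintro ⟨i, hi⟩
        obtain ⟨⟨r', q'⟩, hm, hq⟩ := Finset.mem_map.mp ((hrange _).mpr ⟨i, hi⟩)
        have e : (⟨r', q'⟩ : Σ _ : Fin p, ℕ) = ⟨r, q⟩ := hvalinj hq
        rw [e] at hm
        exact (Finset.mem_sigma.mp hm).2
      · intro hq
        exact (hrange _).mp (Finset.mem_map.mpr ⟨⟨r, q⟩, Finset.mem_sigma.mpr ⟨Finset.mem_univ _, hq⟩, rfl⟩)
    have hb : beads p v = beads p v₀ := funext fun r => by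
      rw [← card_runner hpos hmono.injective, hrun, hcard]
    refine ⟨v, Finset.mem_filter.mpr ⟨mem_Beta.mpr ⟨⟨hpos, ?_⟩, hmono⟩, res_eq_of_beads hp hb⟩, hrun⟩
    rw [sum_eq_runners hp hpos hmono.injective, hrun, hb, hsum, hnw, base]
    push_cast
    ring

/-- Small labels: the first positions are filled. -/
theorem apply_eq_of_lt {n : ℕ} {v : Fin N → ℤ} (hv : v ∈ Beta N n) {i : Fin N}
    (hi : (i : ℕ) + n < N) : v i = (i : ℕ) := by
  obtain ⟨hA, hmono⟩ := mem_Beta.mp hv
  have hmon : ∀ a b : Fin N, a ≤ b → v a - del N a ≤ v b - del N b := by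
    rintro a ⟨b, hb⟩ hab
    induction b with
    | zero =>
      have : a = ⟨0, hb⟩ := le_antisymm hab (Fin.mk_le_of_le_val (Nat.zero_le _))
      rw [this]
    | succ b ih =>
      rcases eq_or_lt_of_le hab with rfl | hlt
      · exact le_rfl
      · have h1 := ih (by omega) (Nat.lt_succ_iff.mp hlt)
        have h2 : v ⟨b, by omega⟩ < v ⟨b + 1, hb⟩ := hmono (by simp)
        simp only [del] at *
        push_cast at *
        omega
  have hge : ∀ a : Fin N, 0 ≤ v a - del N a := fun a => by
    have h0 : 0 < N := a.pos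
    have := hmon ⟨0, h0⟩ a (Fin.mk_le_of_le_val (Nat.zero_le _))
    have := hA.1 ⟨0, h0⟩
    simp [del] at *
    omega
  by_contra hne
  have hpos : 1 ≤ v i - del N i := by
    have := hge i
    simp [del] at *
    omega
  have h1 : ((Finset.univ.filter fun a : Fin N => i ≤ a).card : ℤ) ≤ ∑ a, (v a - del N a) := by
    rw [Finset.card_eq_sum_ones, Nat.cast_sum, Finset.sum_filter]
    refine Finset.sum_le_sum fun a _ => ?_
    split_ifs with h
    · simpa using hpos.trans (hmon i a h)
    · exact hge a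
  have h2 : (Finset.univ.filter fun a : Fin N => i ≤ a).card = N - (i : ℕ) := by
    rw [Finset.filter_le_eq_Ici, Fin.card_Ici]
  rw [Finset.sum_sub_distrib, hA.2, h2] at h1
  omega

theorem le_beads {n : ℕ} {v : Fin N → ℤ} (hv : v ∈ Beta N n) (hN : p * n + n ≤ N) (r : Fin p) :
    n ≤ beads p v r := by
  have hlt : ∀ q : Fin n, p * (q : ℕ) + (r : ℕ) + n < N := fun q => by
    have := q.isLt
    have := r.isLt
    have : p * ((q : ℕ) + 1) ≤ p * n := Nat.mul_le_mul_left p (by omega)
    rw [mul_add, mul_one] at this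
    omega
  have := Finset.card_le_card_of_injOn (s := (Finset.univ : Finset (Fin n)))
    (t := Finset.univ.filter fun i : Fin N => v i % (p : ℤ) = (r : ℕ))
    (fun q => (⟨p * (q : ℕ) + (r : ℕ), by have := hlt q; omega⟩ : Fin N)) ?_ ?_
  · simpa [beads] using this
  · intro q _
    simp only [Finset.coe_filter, Finset.mem_univ, true_and, Set.mem_ofPred_eq]
    rw [apply_eq_of_lt hv (hlt q)]
    push_cast
    rw [Int.mul_add_emod_self_left, Int.emod_eq_of_lt (by positivity) (by exact_mod_cast r.isLt)]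
  · intro a _ b _ e
    have e' := Fin.mk.injEq _ _ _ _ ▸ e
    refine Fin.ext ?_
    have := r.isLt
    exact Nat.eq_of_mul_eq_mul_left (by omega) (Nat.add_right_cancel e')

open scoped Classical in
/-- The regular dimension of a residue class of labels. -/
theorem regDim_eq {j n : ℕ} {v : Fin N → ℤ} (hp : 2 ≤ j + 1) (hv : v ∈ Beta N n)
    (hN : (j + 1) * n + n ≤ N) :
    ∃ w, w ≤ n ∧ (n : ℤ) + ∑ i, del N i = base (j + 1) (beads (j + 1) v) + (j + 1 : ℕ) * w ∧
      regDim (SameRes (j + 1) v) (j + 1) n = (Conf (Fin.tail (beads (j + 1) v)) w).card := by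
  classical
  obtain ⟨w, hw, hmemw⟩ := exists_weight (p := j + 1) (by omega) hv (v₀ := v) rfl
  set c := beads (j + 1) v with hc
  -- the core is a label, hence `(j + 1) * w ≤ n`
  have hpw : (j + 1) * w ≤ n := by
    by_contra hlt
    obtain ⟨f, hf⟩ := Finset.card_pos.mp ((card_Conf_zero c).symm ▸ Nat.one_pos)
    have hb : (0 : ℤ) ≤ base (j + 1) c - ∑ i, del N i := by
      have hcore := card_Conf_zero c
      obtain ⟨h1, h2⟩ := mem_Conf.mp hf
      set T : Finset (Σ _ : Fin (j + 1), ℕ) := Finset.univ.sigma f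
      set val : (Σ _ : Fin (j + 1), ℕ) → ℕ := fun q => (j + 1) * q.2 + (q.1 : ℕ)
      have hinj : Function.Injective val := by
        rintro ⟨r, q⟩ ⟨r', q'⟩ e
        simp only [val] at e
        have h1 := congrArg (· % (j + 1)) e
        simp only [Nat.mul_add_mod, Nat.mod_eq_of_lt r.isLt, Nat.mod_eq_of_lt r'.isLt] at h1
        have h3 : r = r' := Fin.ext h1
        subst h3
        rw [Nat.eq_of_mul_eq_mul_left (by omega) (Nat.add_right_cancel e)]
      have hle := sum_range_le (T.map ⟨val, hinj⟩)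
      have hsum : ∑ r, c r = N := by
        have := Finset.card_eq_sum_card_fiberwise (s := (Finset.univ : Finset (Fin N)))
          (t := (Finset.univ : Finset (Fin (j + 1))))
          (f := fun i => (exists_residue (by omega) (v i)).choose) (fun i _ => Finset.mem_univ _)
        rw [Finset.card_fin] at this
        refine Eq.trans (Finset.sum_congr rfl fun r _ => ?_) this.symm
        rw [hc, beads]
        congr 1
        ext i
        simp only [Finset.mem_filter, Finset.mem_univ, true_and]
        have h := (exists_residue (p := j + 1) (by omega) (v i)).choose_spec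
        exact ⟨fun e => Fin.ext (by rw [h] at e; exact_mod_cast e), fun e => by rw [h, e]⟩
      rw [Finset.card_map, Finset.card_sigma, Finset.sum_congr rfl fun r _ => h1 r, hsum, tot, tot,
        Finset.sum_map, Finset.sum_sigma] at hle
      simp only [Function.Embedding.coeFn_mk, val, Finset.sum_add_distrib, ← Finset.mul_sum,
        Finset.sum_const, smul_eq_mul, h1] at hle
      have hd : ∑ i, del N i = ((∑ x ∈ Finset.range N, x : ℕ) : ℤ) := by
        rw [Finset.sum_range]; push_cast; rfl
      have h2' : ∑ r, ∑ x ∈ f r, x = ∑ r, tot (Finset.range (c r)) := by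
        simpa [tot] using h2
      rw [hd, base, ← h2']
      have h9 : ((∑ x ∈ Finset.range N, x : ℕ) : ℤ) ≤
          (((j + 1) * ∑ r, ∑ x ∈ f r, x + ∑ r : Fin (j + 1), c r * (r : ℕ) : ℕ) : ℤ) := by
        refine Nat.cast_le.mpr (le_of_le_of_eq hle ?_)
        simp only [Finset.mul_sum]
      push_cast at h9 ⊢
      simp only [mul_comm ((_ : ℕ) : ℤ) ((c _ : ℕ) : ℤ)] at *
      linarith
    have : ((n : ℤ) < ((j + 1) * w : ℕ)) := by exact_mod_cast (Nat.lt_of_not_le hlt)
    push_cast at hw this
    linarith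
  refine ⟨w, ?_, hw, ?_⟩
  · calc w = 1 * w := (one_mul w).symm
      _ ≤ (j + 1) * w := Nat.mul_le_mul_right w (by omega)
      _ ≤ n := hpw
  have hP := stable_sameRes (j + 1) v
  have hnN : n ≤ N := by
    have : n ≤ (j + 1) * n + n := Nat.le_add_left _ _
    omega
  -- the counts at all lower levels
  have hcnt : ∀ t, (j + 1) * t ≤ n → ((Beta N (n - (j + 1) * t)).filter (SameRes (j + 1) v)).card =
      if t ≤ w then (Conf c (w - t)).card else 0 := by
    intro t ht
    split_ifs with htw
    · rw [hc]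
      refine card_sameRes (by omega) ?_
      rw [← hc, Nat.cast_sub ht, Nat.cast_sub htw]
      push_cast at hw ⊢
      linarith
    · rw [Finset.card_eq_zero, Finset.eq_empty_iff_forall_notMem]
      intro u hu
      obtain ⟨hu1, hu2⟩ := Finset.mem_filter.mp hu
      obtain ⟨w', hw', -⟩ := exists_weight (p := j + 1) (by omega) hu1 hu2
      rw [← hc, Nat.cast_sub ht] at hw'
      have h : ((j + 1 : ℕ) : ℤ) * ((w' : ℤ) + t) = (j + 1 : ℕ) * w := by
        push_cast at hw hw' ⊢
        linarith
      have := mul_left_cancel₀ (by omega : ((j + 1 : ℕ) : ℤ) ≠ 0) h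
      omega
  set g : ℕ → ℕ := fun t => regDim (SameRes (j + 1) v) (j + 1) (n - (j + 1) * t) with hg
  have hrec : ∀ t, (j + 1) * t ≤ n → ((Beta N (n - (j + 1) * t)).filter (SameRes (j + 1) v)).card =
      ∑ m ∈ Finset.range (n / (j + 1) - t + 1), (Ps m).card * g (t + m) := by
    intro t ht
    rw [card_filter_eq (by omega) hP (by omega), Nat.sub_mul_div]
    exact Finset.sum_congr rfl fun m _ => by simp only [hg, mul_add, Nat.sub_sub]
  have hPs0 : (Ps 0).card = 1 := by simp [Ps_zero]
  have hdiv : ∀ t, (j + 1) * t ≤ n → t ≤ n / (j + 1) := fun t ht =>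
    (Nat.le_div_iff_mul_le (by omega)).mpr (by rwa [mul_comm])
  have hzero : ∀ t, w < t → (j + 1) * t ≤ n → g t = 0 := by
    intro t htw ht
    have h := hrec t ht
    rw [hcnt t ht, if_neg (by omega), eq_comm, Finset.sum_eq_zero_iff] at h
    simpa [hPs0] using h 0 (by simp)
  have hgoal : ∀ a ≤ w, g (w - a) = (Conf (Fin.tail c) a).card := by
    intro a
    induction a using Nat.strong_induction_on with
    | _ a ih =>
      intro ha
      have ht : (j + 1) * (w - a) ≤ n := le_trans (Nat.mul_le_mul_left _ (Nat.sub_le w a)) hpw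
      have h := hrec _ ht
      rw [hcnt _ ht, if_pos (Nat.sub_le _ _), show w - (w - a) = a by omega, card_Conf_succ,
        ← Finset.sum_subset (s₁ := Finset.range (a + 1)) (s₂ := Finset.range (n / (j + 1) - (w - a) + 1))
          (Finset.range_subset_range.mpr (by have := hdiv w hpw; omega)) (fun m hm hm' => ?_),
        Finset.sum_range_succ', Finset.sum_range_succ'] at h
      swap
      · rw [Finset.mem_range] at hm hm'
        rw [hzero _ (by omega) ?_, mul_zero]
        calc (j + 1) * (w - a + m) ≤ (j + 1) * (n / (j + 1)) := Nat.mul_le_mul_left _ (by have := hdiv _ ht; omega)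
          _ ≤ n := Nat.mul_div_le n _
      have hb : ∀ m, m ≤ a → (Beta (c 0) m).card = (Ps m).card := fun m hm => by
        refine card_Beta ?_
        have h1 := le_beads hv (p := j + 1) hN 0
        rw [← hc] at h1
        have h2 : w ≤ (j + 1) * w := Nat.le_mul_of_pos_left w (by omega)
        omega
      rw [hb 0 (Nat.zero_le _), hPs0, one_mul, one_mul, Nat.sub_zero, add_zero] at h
      have e : ∑ m ∈ Finset.range a, (Beta (c 0) (m + 1)).card * (Conf (Fin.tail c) (a - (m + 1))).card =
          ∑ m ∈ Finset.range a, (Ps (m + 1)).card * g (w - a + (m + 1)) := by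
        refine Finset.sum_congr rfl fun m hm => ?_
        rw [Finset.mem_range] at hm
        rw [hb _ (by omega), ← ih (a - (m + 1)) (by omega) (by omega)]
        congr 2
        omega
      omega
  have := hgoal w le_rfl
  simpa [hg] using this

end Cfsg.Agent.SymChar
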