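import Cfsg.Agent.Lib.Char.SymChar.Chars
import Cfsg.Agent.Lib.Char.SymChar.Cores
import Cfsg.Agent.Lib.Char.Height
import Cfsg.Agent.Lib.Char.SectionPart
import Cfsg.Prelude.Def_BlockRank
import Cfsg.Prelude.Def_CaseTheorems

/-!
# Blocks of symmetric groups
-/

set_option autoImplicit false

namespace Cfsg.Agent.SymChar

open Finset Equiv Cfsg
open scoped Nat ComplexConjugate

variable {N n p : ℕ}

theorem exists_dvd_of_dvd_lcm (hp : p.Prime) : ∀ (m : Multiset ℕ), p ∣ m.lcm → ∃ a ∈ m, p ∣ a := by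
  intro m
  induction m using Multiset.induction_on with
  | empty => intro h; simp [Nat.dvd_one.mp (by simpa using h)] at hp; exact absurd hp Nat.not_prime_one
  | cons a m ih =>
    intro h
    rw [Multiset.lcm_cons] at h
    rcases (Nat.Prime.dvd_lcm hp).mp h with h' | h'
    · exact ⟨a, Multiset.mem_cons_self _ _, h'⟩
    · obtain ⟨b, hb, hb'⟩ := ih h'
      exact ⟨b, Multiset.mem_cons_of_mem hb, hb'⟩

theorem reg_parts_iff (hp : p.Prime) (g : Perm (Fin n)) : Reg p (parts g) ↔ ¬ p ∣ orderOf g := by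
  rw [← Perm.lcm_cycleType]
  constructor
  · intro h hd
    obtain ⟨a, ha, hpa⟩ := exists_dvd_of_dvd_lcm hp _ hd
    exact h a (by rw [parts_eq]; exact Multiset.mem_add.mpr (Or.inl ha)) hpa
  · intro h a ha hpa
    rw [parts_eq] at ha
    rcases Multiset.mem_add.mp ha with h' | h'
    · exact h (hpa.trans (Multiset.dvd_lcm h'))
    · rw [Multiset.eq_of_mem_replicate h'] at hpa
      exact hp.one_lt.ne' (Nat.dvd_one.mp hpa)

open scoped Classical in
theorem einner_psi (hp : p.Prime) (u v : Fin N → ℤ) :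
    Char.einner p (psi (n := n) u) (psi v) =
      ((∑ μ ∈ Regs p n, (F μ u : ℚ) * F μ v / zNat μ : ℚ) : ℂ) := by
  have h := sum_parts (n := n) fun μ => if Reg p μ then (F μ u : ℚ) * F μ v else 0
  have e : ∑ μ ∈ Ps n, (if Reg p μ then (F μ u : ℚ) * F μ v else 0) / (zNat μ : ℚ) =
      ∑ μ ∈ Regs p n, (F μ u : ℚ) * F μ v / zNat μ := by
    rw [Regs, Finset.sum_filter]
    exact Finset.sum_congr rfl fun μ _ => by split_ifs <;> simp
  rw [e] at h
  have hn : (n ! : ℚ) ≠ 0 := Nat.cast_ne_zero.mpr (Nat.factorial_pos n).ne'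
  rw [show ∑ μ ∈ Regs p n, (F μ u : ℚ) * F μ v / zNat μ =
    (n ! : ℚ)⁻¹ * ∑ g : Perm (Fin n), (if Reg p (parts g) then (F (parts g) u : ℚ) * F (parts g) v else 0) by
      rw [h, ← mul_assoc, inv_mul_cancel₀ hn, one_mul]]
  push_cast
  simp only [Char.einner, classInner, Pi.mul_apply, psi, map_intCast, Nat.card_eq_fintype_card,
    Fintype.card_perm, Fintype.card_fin]
  congr 1
  refine Finset.sum_congr rfl fun g _ => ?_
  simp only [Char.regInd]
  by_cases hg : Reg p (parts g)
  · rw [if_pos hg, if_neg ((reg_parts_iff hp g).mp hg)]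
    push_cast
    ring
  · rw [if_neg hg, if_pos (not_not.mp (mt (reg_parts_iff hp g).mpr hg))]
    push_cast
    ring

variable {M : Ideal AlgInt}

theorem exists_label (h : n ≤ N) (χ : IrrCharacter (Perm (Fin n))) :
    ∃ v ∈ Beta N n, (χ : Perm (Fin n) → ℂ) = psi v := by
  obtain ⟨v, rfl⟩ := (chi_bijective h).2 χ
  exact ⟨v, v.2, rfl⟩

theorem sameRes_of_sameBlock (hM : IsPModular p M) (h : n ≤ N) {v w : Fin N → ℤ}
    (hv : v ∈ Beta N n) (hw : w ∈ Beta N n)
    (hs : SameBlock M (psi (n := n) v) (psi w)) : res p w = res p v := by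
  classical
  have hp := hM.1
  obtain ⟨θ, h1, h2⟩ := (Char.sameBlock_iff_linked hM (chi ⟨v, hv⟩) (chi ⟨w, hw⟩)).mp hs
  obtain ⟨t, ht, hθ⟩ := exists_label h θ
  have step : ∀ a b : Fin N → ℤ, a ∈ Beta N n → b ∈ Beta N n →
      Char.einner p (psi (n := n) a) (psi b) ≠ 0 → res p a = res p b := by
    intro a b ha hb hne
    by_contra hr
    refine hne ?_
    rw [einner_psi hp, sum_reg_eq_zero (stable_sameRes p b) h ha hr hb rfl, Rat.cast_zero]
  have e1 := step v t hv ht (by rw [← hθ]; exact h1)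
  have e2 := step t w ht hw (by rw [← hθ]; exact h2)
  exact (e1.trans e2).symm

theorem blockRank_le_regDim (hM : IsPModular p M) (h : n ≤ N) {B : Set (IrrCharacter (Perm (Fin n)))}
    (hB : IsPBlock M B) {v : Fin N → ℤ} (hv : v ∈ Beta N n) (hvB : chi ⟨v, hv⟩ ∈ B) :
    blockRank p B ≤ regDim (SameRes p v) p n := by
  classical
  set W := LinearMap.range (comb (SameRes p v) p n n 0)
  let b := Module.finBasis ℚ W
  have hmem : ∀ y : Regs p n, vec (SameRes p v) n (y : Multiset ℕ) ∈ W := fun y => by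
    refine ⟨Pi.single y 1, ?_⟩
    rw [comb, Fintype.linearCombination_apply_single, one_smul, zero_add]
  let a : Fin (Module.finrank ℚ W) → Perm (Fin n) → ℂ := fun l g =>
    if hg : parts g ∈ Regs p n then ((b.repr ⟨_, hmem ⟨parts g, hg⟩⟩ l : ℚ) : ℂ) else 0
  have hle : Submodule.span ℂ
      ((fun χ : IrrCharacter (Perm (Fin n)) => pRegularPart p (χ : Perm (Fin n) → ℂ)) '' B) ≤
        Submodule.span ℂ (Set.range a) := by
    rw [Submodule.span_le]
    rintro _ ⟨χ, hχ, rfl⟩
    obtain ⟨w, hw, hχw⟩ := exists_label h χ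
    have hres : SameRes p v w := sameRes_of_sameBlock hM h hv hw (by
      rw [← hχw]; exact (Char.mem_block_iff (Char.pmod_prime hM) hB hvB χ).mp hχ)
    set wf : ↥((Beta N n).filter (SameRes p v)) := ⟨w, Finset.mem_filter.mpr ⟨hw, hres⟩⟩
    have e : pRegularPart p (χ : Perm (Fin n) → ℂ) =
        ∑ l, (((b l : ↥((Beta N n).filter (SameRes p v)) → ℚ) wf : ℚ) : ℂ) • a l := by
      funext g
      simp only [Finset.sum_apply, Pi.smul_apply, smul_eq_mul, a]
      by_cases hg : parts g ∈ Regs p n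
      · rw [show pRegularPart p (χ : Perm (Fin n) → ℂ) g = (χ : Perm (Fin n) → ℂ) g from
          if_pos ((reg_parts_iff hM.1 g).mp (mem_Regs.mp hg).2), hχw]
        have e1 := congrArg (fun f : W => (f : ↥((Beta N n).filter (SameRes p v)) → ℚ) wf)
          (b.sum_repr ⟨_, hmem ⟨parts g, hg⟩⟩)
        simp only [AddSubmonoidClass.coe_finset_sum, Submodule.coe_smul, Finset.sum_apply, Pi.smul_apply,
          smul_eq_mul] at e1
        have e2 := congrArg (fun q : ℚ => (q : ℂ)) e1
        simp only [Rat.cast_sum, Rat.cast_mul, vec, Rat.cast_intCast, wf] at e2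
        rw [psi]
        rw [← e2]
        refine Finset.sum_congr rfl fun l _ => ?_
        rw [dif_pos hg, mul_comm]
      · rw [show pRegularPart p (χ : Perm (Fin n) → ℂ) g = 0 from if_neg fun hr =>
          hg (mem_Regs.mpr ⟨parts_mem g, (reg_parts_iff hM.1 g).mpr hr⟩)]
        exact (Finset.sum_eq_zero fun l _ => by rw [dif_neg hg, mul_zero]).symm
    show pRegularPart p (χ : Perm (Fin n) → ℂ) ∈ _
    rw [e]
    exact Submodule.sum_mem _ fun l _ => Submodule.smul_mem _ _ (Submodule.subset_span ⟨l, rfl⟩)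
  have h1 := Submodule.finrank_mono hle
  have h2 := finrank_range_le_card (R := ℂ) a
  rw [Fintype.card_fin] at h2
  exact h1.trans h2

/-- The pushed label has the total of the core. -/
theorem sum_pushed (hp : 0 < p) {v : Fin N → ℤ} (hinj : Function.Injective v) :
    ∑ i, pushed p v i = base p (beads p v) := by
  classical
  choose g hg using fun i => exists_residue hp (v i)
  rw [← Finset.sum_fiberwise Finset.univ g, base]
  push_cast
  rw [Finset.mul_sum, ← Finset.sum_add_distrib]
  refine Finset.sum_congr rfl fun r _ => ?_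
  set T := Finset.univ.filter fun i => v i % (p : ℤ) = (r : ℕ) with hT
  have e : (Finset.univ.filter fun i => g i = r) = T := by
    ext i
    simp only [hT, Finset.mem_filter, Finset.mem_univ, true_and, hg i]
    exact ⟨fun h => by rw [h], fun h => Fin.ext (by exact_mod_cast h)⟩
  have hrnk : ∀ i ∈ T, rnk p v i = (T.filter fun l => v l < v i).card := fun i hi => by
    rw [rnk, hT, Finset.filter_filter, (Finset.mem_filter.mp hi).2]
  have hinjrnk : Set.InjOn (rnk p v) T := by
    intro i hi j hj he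
    rw [hrnk i hi, hrnk j hj] at he
    refine hinj ?_
    by_contra hne
    rcases lt_or_gt_of_ne hne with hlt | hlt
    · refine (Finset.card_lt_card ?_).ne he
      rw [Finset.ssubset_iff_of_subset (fun l hl => ?_)]
      · exact ⟨i, Finset.mem_filter.mpr ⟨hi, hlt⟩, by simp⟩
      · simp only [Finset.mem_filter] at hl ⊢
        exact ⟨hl.1, hl.2.trans hlt⟩
    · refine (Finset.card_lt_card ?_).ne he.symm
      rw [Finset.ssubset_iff_of_subset (fun l hl => ?_)]
      · exact ⟨j, Finset.mem_filter.mpr ⟨hj, hlt⟩, by simp⟩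
      · simp only [Finset.mem_filter] at hl ⊢
        exact ⟨hl.1, hl.2.trans hlt⟩
  have himg : T.image (rnk p v) = Finset.range T.card := by
    refine Finset.eq_of_subset_of_card_le (fun x hx => ?_) ?_
    · obtain ⟨i, hi, rfl⟩ := Finset.mem_image.mp hx
      rw [Finset.mem_range, hrnk i hi]
      exact Finset.card_lt_card (Finset.filter_ssubset.mpr ⟨i, hi, lt_irrefl _⟩)
    · rw [Finset.card_range, Finset.card_image_of_injOn hinjrnk]
  rw [e, beads, ← hT, tot, ← himg, Finset.sum_image hinjrnk]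
  have e3 : ((r : ℕ) : ℤ) * (T.card : ℤ) = ∑ i ∈ T, ((r : ℕ) : ℤ) := by
    rw [Finset.sum_const, nsmul_eq_mul, mul_comm]
  rw [e3]
  push_cast
  rw [Finset.mul_sum, ← Finset.sum_add_distrib]
  refine Finset.sum_congr rfl fun i hi => ?_
  simp only [pushed]
  rw [(Finset.mem_filter.mp hi).2]
  ring

theorem psi_ne_zero_of_parts {w : ℕ} (hp : 0 < p) {v : Fin N → ℤ} (hv : v ∈ Beta N n)
    (hw : (n : ℤ) + ∑ i, del N i = base p (beads p v) + p * w) (hpw : p * w ≤ n)
    {x : Perm (Fin n)} (hx : parts x = Multiset.replicate w p + Multiset.replicate (n - p * w) 1) :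
    psi v x ≠ 0 := by
  obtain ⟨hA, hmono⟩ := mem_Beta.mp hv
  obtain ⟨K, hK, -, hK0⟩ := F_replicate hp w hmono.injective hA.1 (by
    rw [Finset.sum_sub_distrib, hA.2, sum_pushed hp hmono.injective]; linarith)
    (Multiset.replicate (n - p * w) 1)
  rw [psi, hx, hK]
  have hinj : Function.Injective (pushed p v) := by
    intro a b e
    simp only [pushed] at e
    have hp' : (0 : ℤ) < p := by omega
    have e1 := congrArg (· % (p : ℤ)) e
    simp only [Int.add_mul_emod_self_left, Int.emod_emod_of_dvd _ (dvd_refl (p : ℤ))] at e1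
    rw [e1, add_right_inj] at e
    have e2 : (rnk p v a : ℤ) = rnk p v b := mul_left_cancel₀ hp'.ne' e
    have e3 : rnk p v a = rnk p v b := by exact_mod_cast e2
    refine hmono.injective ?_
    by_contra hne
    simp only [rnk, e1] at e3
    rcases lt_or_gt_of_ne hne with hlt | hlt
    · refine (Finset.card_lt_card ?_).ne e3
      rw [Finset.ssubset_iff_of_subset (fun l hl => ?_)]
      · exact ⟨a, Finset.mem_filter.mpr ⟨Finset.mem_univ _, e1, hlt⟩, by simp⟩
      · simp only [Finset.mem_filter] at hl ⊢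
        exact ⟨hl.1, hl.2.1, hl.2.2.trans hlt⟩
    · refine (Finset.card_lt_card ?_).ne e3.symm
      rw [Finset.ssubset_iff_of_subset (fun l hl => ?_)]
      · exact ⟨b, Finset.mem_filter.mpr ⟨Finset.mem_univ _, rfl, hlt⟩, by simp⟩
      · simp only [Finset.mem_filter] at hl ⊢
        exact ⟨hl.1, hl.2.1, hl.2.2.trans hlt⟩
  obtain ⟨σ, hσ⟩ := exists_sorted hinj
  have hm : pushed p v ∘ σ ∈ Beta N (n - p * w) := by
    refine mem_Beta.mpr ⟨⟨fun i => ?_, ?_⟩, hσ⟩
    · simp only [Function.comp_apply, pushed]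
      have := Int.emod_nonneg (v (σ i)) (b := (p : ℤ)) (by omega)
      positivity
    · simp only [Function.comp_apply]
      rw [Equiv.sum_comp σ (pushed p v), sum_pushed hp hmono.injective, Nat.cast_sub hpw]
      push_cast
      linarith
  have hd := F_degree_pos hm
  rw [F_comp] at hd
  refine Int.cast_ne_zero.mpr (mul_ne_zero hK0.ne' fun h0 => ?_)
  rw [h0, mul_zero] at hd
  exact lt_irrefl 0 hd

/-- The permutations commuting with `x` and preserving each of its orbits. -/
def cyclewise (x : Perm (Fin n)) : Subgroup (Perm (Fin n)) where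
  carrier := {e | Commute e x ∧ ∀ a, x.SameCycle a (e a)}
  one_mem' := ⟨Commute.one_left x, fun a => Perm.SameCycle.refl x a⟩
  mul_mem' := fun {e f} he hf => ⟨he.1.mul_left hf.1, fun a => (hf.2 a).trans (he.2 (f a))⟩
  inv_mem' := fun {e} he => ⟨he.1.inv_left, fun a => by
    have := (he.2 (e⁻¹ a)).symm
    simpa using this⟩

theorem cyclewise_apply {x e : Perm (Fin n)} (he : e ∈ cyclewise x) (a : Fin n) (k : ℕ) :
    e ((x ^ k) a) = (x ^ k) (e a) :=
  congr_fun (congrArg DFunLike.coe (he.1.pow_right k).eq) a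

theorem pow_eq_one_cyclewise {x : Perm (Fin n)} (hx : x ^ p = 1) {e : Perm (Fin n)} (he : e ∈ cyclewise x) :
    e ^ p = 1 := by
  refine Equiv.ext fun a => ?_
  obtain ⟨j, -, hj⟩ := (he.2 a).exists_pow_eq'
  have key : ∀ i : ℕ, (e ^ i) a = (x ^ (j * i)) a := by
    intro i
    induction i with
    | zero => simp
    | succ i ih =>
      rw [pow_succ', Perm.mul_apply, ih, cyclewise_apply he, ← hj, ← Perm.mul_apply, ← pow_add, mul_add,
        mul_one]
  rw [key, mul_comm, pow_mul, hx, one_pow]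

theorem comm_cyclewise {x e f : Perm (Fin n)} (he : e ∈ cyclewise x) (hf : f ∈ cyclewise x) :
    e * f = f * e := by
  refine Equiv.ext fun a => ?_
  obtain ⟨i, -, hi⟩ := (he.2 a).exists_pow_eq'
  obtain ⟨j, -, hj⟩ := (hf.2 a).exists_pow_eq'
  rw [Perm.mul_apply, Perm.mul_apply, ← hj, ← hi, cyclewise_apply he, cyclewise_apply hf, ← hi, ← hj,
    ← Perm.mul_apply, ← Perm.mul_apply, ← pow_add, ← pow_add, add_comm]

theorem conj_mem_cyclewise {x c e : Perm (Fin n)} (hc : Commute c x) (he : e ∈ cyclewise x) :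
    c * e * c⁻¹ ∈ cyclewise x := by
  refine ⟨(hc.mul_left he.1).mul_left hc.inv_left, fun a => ?_⟩
  obtain ⟨j, -, hj⟩ := (he.2 (c⁻¹ a)).exists_pow_eq'
  refine ⟨(j : ℤ), ?_⟩
  rw [Perm.mul_apply, Perm.mul_apply, ← hj, zpow_natCast,
    show c ((x ^ j) (c⁻¹ a)) = (c * x ^ j * c⁻¹) a from rfl, (hc.pow_right j).eq,
    mul_inv_cancel_right]

theorem pow_le_card_cyclewise (hp : p.Prime) {x : Perm (Fin n)} (hx : x ^ p = 1) :
    p ^ x.cycleFactorsFinset.card ≤ Nat.card (cyclewise x) := by
  classical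
  haveI := Fact.mk hp
  let c : Fin n → Option x.cycleFactorsFinset := fun a =>
    if h : x a = a then none
    else some ⟨x.cycleOf a, Perm.cycleOf_mem_cycleFactorsFinset_iff.mpr (Perm.mem_support.mpr h)⟩
  let ex : (x.cycleFactorsFinset → Fin p) → Fin n → ℕ := fun f a => ((c a).map fun o => (f o).val).getD 0
  have hc : ∀ (a : Fin n) (k : ℕ), c ((x ^ k) a) = c a := by
    intro a k
    have hiff : x ((x ^ k) a) = (x ^ k) a ↔ x a = a := by
      rw [← Perm.mul_apply, ← (Commute.self_pow x k).eq.symm, Perm.mul_apply, (x ^ k).injective.eq_iff]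
    have he : x.cycleOf ((x ^ k) a) = x.cycleOf a :=
      ((Perm.sameCycle_pow_right (n := k)).mpr (Perm.SameCycle.refl x a)).cycleOf_eq.symm
    simp only [c]
    by_cases h : x a = a
    · rw [dif_pos h, dif_pos (hiff.mpr h)]
    · rw [dif_neg h, dif_neg fun h' => h (hiff.mp h')]
      exact congrArg some (Subtype.ext he)
  let E : (x.cycleFactorsFinset → Fin p) → Fin n → Fin n := fun f a => (x ^ ex f a) a
  have hE : ∀ f, Function.Bijective (E f) := by
    intro f
    refine Finite.injective_iff_bijective.mp fun a b e => ?_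
    have hcc : ex f a = ex f b := by
      have h1 : c (E f a) = c a := hc a _
      have h2 : c (E f b) = c b := hc b _
      rw [e, h2] at h1
      simp only [ex, h1]
    simp only [E, hcc] at e
    exact (x ^ ex f b).injective e
  let P : (x.cycleFactorsFinset → Fin p) → cyclewise x := fun f => ⟨Equiv.ofBijective (E f) (hE f), by
    refine ⟨Equiv.ext fun a => ?_, fun a => ⟨(ex f a : ℤ), by rw [zpow_natCast]; rfl⟩⟩
    show (x ^ ex f (x a)) (x a) = x ((x ^ ex f a) a)
    have : ex f (x a) = ex f a := by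
      simp only [ex]
      have h1 := hc a 1
      rw [pow_one] at h1
      rw [h1]
    rw [this, ← Perm.mul_apply, ← Perm.mul_apply, (Commute.self_pow x _).eq]⟩
  have hP : Function.Injective P := by
    intro f g e
    funext o
    obtain ⟨a, ha⟩ := ((Perm.mem_cycleFactorsFinset_iff.mp o.2).1).nonempty_support
    have hmem : x a ≠ a := Perm.mem_support.mp (Perm.mem_cycleFactorsFinset_support_le o.2 ha)
    have hca : c a = some o := by
      simp only [c, dif_neg hmem]
      exact congrArg some (Subtype.ext (Perm.cycle_is_cycleOf ha o.2).symm)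
    have h := congr_fun (congrArg (fun q : cyclewise x => ((q : Perm (Fin n)) : Fin n → Fin n)) e) a
    change (x ^ ex f a) a = (x ^ ex g a) a at h
    simp only [ex, hca, Option.map_some, Option.getD_some] at h
    -- a nontrivial power of `x` moves `a`
    have key : ∀ i j : ℕ, i ≤ j → j < p → (x ^ i) a = (x ^ j) a → i = j := by
      intro i j hij hj h
      by_contra hne
      have hd : (x ^ (j - i)) a = a := by
        apply (x ^ i).injective
        rw [← Perm.mul_apply, ← pow_add, Nat.add_sub_cancel' hij, h]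
      have hcop : Nat.Coprime (j - i) (orderOf x) := by
        refine Nat.Coprime.coprime_dvd_right (orderOf_dvd_of_pow_eq_one hx) ?_
        exact Nat.Coprime.symm ((hp.coprime_iff_not_dvd).mpr fun hd' => by
          have := Nat.le_of_dvd (by omega) hd'; omega)
      obtain ⟨m, hm⟩ := exists_pow_eq_self_of_coprime hcop
      have : ((x ^ (j - i)) ^ m) a = a := by
        clear hm
        induction m with
        | zero => simp
        | succ m ih => rw [pow_succ, Perm.mul_apply, hd, ih]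
      rw [hm] at this
      exact hmem this
    refine Fin.ext ?_
    rcases le_total (f o).val (g o).val with hle | hle
    · exact key _ _ hle (g o).isLt h
    · exact (key _ _ hle (f o).isLt h.symm).symm
  have := Nat.card_le_card_of_injective P hP
  simpa using this

/-- A normal `p`-subgroup of the centralizer of a `p`-element at which a character of `B` does not
vanish lies in a defect group of `B`. -/
theorem le_defect_of_value_ne_zero {G : Type} [Group G] [Fintype G] (hM : IsPModular p M)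
    {B : Set (IrrCharacter G)} (hB : IsPBlock M B) {χ : IrrCharacter G} (hχ : χ ∈ B) {x : G}
    (hx : ∃ k : ℕ, orderOf x = p ^ k) (hne : (χ : G → ℂ) x ≠ 0) {E : Subgroup G} (hE : IsPGroup p E)
    (hEle : E ≤ Subgroup.centralizer ({x} : Set G))
    (hnorm : ∀ c ∈ Subgroup.centralizer ({x} : Set G), ∀ e ∈ E, c * e * c⁻¹ ∈ E) :
    ∃ D, IsDefectGroup p M B D ∧ E ≤ D := by
  classical
  haveI := Fact.mk hM.1
  haveI : Fintype (Subgroup.centralizer ({x} : Set G)) := Fintype.ofFinite _
  set C := Subgroup.centralizer ({x} : Set G)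
  obtain ⟨b, hb⟩ : ∃ b, IsInducedBlock M C b B := by
    by_contra hno
    push Not at hno
    apply hne
    have h := Char.eq_zero_of_no_induced hM hx hB χ hχ hno 1 (by
      rw [orderOf_one]; exact hM.1.not_dvd_one)
    simpa using h
  obtain ⟨D, hD⟩ := Char.exists_isDefectGroup hM hb.1
  obtain ⟨D', hD', hle⟩ := Char.induced_defect_le hM hb hD
  refine ⟨D', hD', fun e he => hle ?_⟩
  haveI : (E.subgroupOf C).Normal := ⟨fun z hz g => by
    rw [Subgroup.mem_subgroupOf] at hz ⊢
    exact hnorm g g.2 z hz⟩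
  have hp' : IsPGroup p (E.subgroupOf C) := hE.comap_of_injective C.subtype Subtype.val_injective
  exact ⟨⟨e, hEle he⟩, Char.pCore_le_defectGroup hM hb.1 hD _ hp' (Subgroup.mem_subgroupOf.mpr he), rfl⟩

theorem card_le_of_sectional {G : Type} [Group G] {D : Subgroup G} {s : ℕ}
    (hs : SectionalPRankLE p s D) {E : Subgroup G} (hle : E ≤ D)
    (hcomm : ∀ a ∈ E, ∀ b ∈ E, a * b = b * a) (hexp : ∀ a ∈ E, a ^ p = 1) :
    Nat.card E ≤ p ^ s := by
  set H := E.subgroupOf D
  have h := hs H (⊥ : Subgroup H) ⊤ ?_ ?_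
  · rwa [Subgroup.card_top, Nat.card_congr QuotientGroup.quotientBot.toEquiv,
      Nat.card_congr (Subgroup.subgroupOfEquivOfLe hle).toEquiv] at h
  · refine ⟨⟨?_⟩⟩
    rintro ⟨a, -⟩ ⟨b, -⟩
    obtain ⟨a, rfl⟩ := QuotientGroup.mk_surjective a
    obtain ⟨b, rfl⟩ := QuotientGroup.mk_surjective b
    refine Subtype.ext ?_
    show ((a : H ⧸ (⊥ : Subgroup H))) * b = b * a
    rw [← QuotientGroup.mk_mul, ← QuotientGroup.mk_mul]
    exact congrArg _ (Subtype.ext (Subtype.ext (hcomm _ a.2 _ b.2)))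
  · intro a _
    obtain ⟨a, rfl⟩ := QuotientGroup.mk_surjective a
    rw [← QuotientGroup.mk_pow]
    exact (QuotientGroup.eq_one_iff _).mpr (Subgroup.mem_bot.mpr (Subtype.ext (Subtype.ext (hexp _ a.2))))

theorem one_le_of_sectional {G : Type} [Group G] [Finite G] {D : Subgroup G} {s : ℕ} (hp : p.Prime)
    (hD : IsPGroup p D) (hD1 : D ≠ ⊥) (hs : SectionalPRankLE p s D) : 1 ≤ s := by
  haveI := Fact.mk hp
  obtain ⟨k, hk⟩ := IsPGroup.iff_card.mp hD
  have hk0 : k ≠ 0 := fun h => hD1 (Subgroup.card_eq_one.mp (by rw [hk, h, pow_zero]))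
  obtain ⟨z, hz⟩ := exists_prime_orderOf_dvd_card' (G := D) p (hk ▸ dvd_pow_self p hk0)
  have hz' : orderOf (z : G) = p := by rw [Subgroup.orderOf_coe, hz]
  have h := card_le_of_sectional hs (E := Subgroup.zpowers (z : G)) (Subgroup.zpowers_le.mpr z.2)
    (fun a ha b hb => by
      obtain ⟨i, rfl⟩ := ha
      obtain ⟨j, rfl⟩ := hb
      exact zpow_mul_comm _ _ _)
    (fun a ha => by
      obtain ⟨i, rfl⟩ := ha
      show ((z : G) ^ i) ^ p = 1
      rw [← zpow_natCast ((z : G) ^ i), zpow_comm, zpow_natCast, ← hz', pow_orderOf_eq_one, one_zpow])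
  rw [Nat.card_zpowers, hz'] at h
  by_contra h0
  rw [Nat.lt_one_iff.mp (not_le.mp h0), pow_zero] at h
  exact absurd hp.one_lt (by omega)

/-- The weight is at most `n / p`. -/
theorem mul_weight_le {j : ℕ} {v : Fin N → ℤ} (hv : v ∈ Beta N n) {w : ℕ}
    (hw : (n : ℤ) + ∑ i, del N i = base (j + 1) (beads (j + 1) v) + (j + 1 : ℕ) * w) :
    (j + 1) * w ≤ n := by
  by_contra hlt
  obtain ⟨hA, hmono⟩ := mem_Beta.mp hv
  have h1 : (0 : ℤ) ≤ base (j + 1) (beads (j + 1) v) - ∑ i, del N i := by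
    have hinj : Function.Injective (pushed (j + 1) v) := by
      intro a b e
      simp only [pushed] at e
      have e1 := congrArg (· % ((j + 1 : ℕ) : ℤ)) e
      simp only [Int.add_mul_emod_self_left, Int.emod_emod_of_dvd _ (dvd_refl ((j + 1 : ℕ) : ℤ))] at e1
      rw [e1, add_right_inj] at e
      have e2 := mul_left_cancel₀ (by omega : ((j + 1 : ℕ) : ℤ) ≠ 0) e
      have e3 : rnk (j + 1) v a = rnk (j + 1) v b := by exact_mod_cast e2
      refine hmono.injective ?_
      by_contra hne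
      simp only [rnk, e1] at e3
      rcases lt_or_gt_of_ne hne with hlt | hlt
      · refine (Finset.card_lt_card ?_).ne e3
        rw [Finset.ssubset_iff_of_subset (fun l hl => ?_)]
        · exact ⟨a, Finset.mem_filter.mpr ⟨Finset.mem_univ _, e1, hlt⟩, by simp⟩
        · simp only [Finset.mem_filter] at hl ⊢
          exact ⟨hl.1, hl.2.1, hl.2.2.trans hlt⟩
      · refine (Finset.card_lt_card ?_).ne e3.symm
        rw [Finset.ssubset_iff_of_subset (fun l hl => ?_)]
        · exact ⟨b, Finset.mem_filter.mpr ⟨Finset.mem_univ _, rfl, hlt⟩, by simp⟩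
        · simp only [Finset.mem_filter] at hl ⊢
          exact ⟨hl.1, hl.2.1, hl.2.2.trans hlt⟩
    have hpos : ∀ i, 0 ≤ pushed (j + 1) v i := fun i => by
      simp only [pushed]
      have := Int.emod_nonneg (v i) (b := ((j + 1 : ℕ) : ℤ)) (by omega)
      positivity
    by_contra h2
    rw [← sum_pushed (by omega) hmono.injective] at h2
    exact not_injective_of_sum_lt hpos (by omega) hinj
  have h3 : (n : ℤ) < (((j + 1) * w : ℕ) : ℤ) := by exact_mod_cast Nat.lt_of_not_le hlt
  push_cast at h3 hw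
  linarith

/-- An elementary abelian subgroup of a defect group, of rank the weight. -/
theorem exists_elementary {j : ℕ} (hM : IsPModular (j + 1) M)
    {B : Set (IrrCharacter (Perm (Fin n)))} (hB : IsPBlock M B) {v : Fin N → ℤ} (hv : v ∈ Beta N n)
    (hvB : chi ⟨v, hv⟩ ∈ B) {w : ℕ}
    (hw : (n : ℤ) + ∑ i, del N i = base (j + 1) (beads (j + 1) v) + (j + 1 : ℕ) * w) :
    ∃ D E, IsDefectGroup (j + 1) M B D ∧ E ≤ D ∧ (∀ a ∈ E, ∀ b ∈ E, a * b = b * a) ∧
      (∀ a ∈ E, a ^ (j + 1) = 1) ∧ (j + 1) ^ w ≤ Nat.card E := by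
  classical
  have hp := hM.1
  set χ := chi ⟨v, hv⟩ with hχdef
  have hχv : (χ : Perm (Fin n) → ℂ) = psi v := rfl
  have hχ : χ ∈ B := hvB
  rcases Nat.eq_zero_or_pos w with rfl | hw0
  · obtain ⟨D, hD⟩ := Char.exists_isDefectGroup hM hB
    exact ⟨D, ⊥, hD, bot_le, fun a ha b hb => by rw [Subgroup.mem_bot.mp ha, Subgroup.mem_bot.mp hb],
      fun a ha => by rw [Subgroup.mem_bot.mp ha, one_pow], by simp⟩
  have hpw : (j + 1) * w ≤ n := mul_weight_le hv hw
  obtain ⟨x, hx⟩ := exists_parts (n := n) (μ := Multiset.replicate w (j + 1) + Multiset.replicate (n - (j + 1) * w) 1)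
    (mem_Ps.mpr ⟨by simp [mul_comm]; rw [mul_comm] at hpw; omega, fun a ha => by
      rcases Multiset.mem_add.mp ha with h | h <;> rw [Multiset.eq_of_mem_replicate h] <;> omega⟩)
  have hct : x.cycleType = Multiset.replicate w (j + 1) := by
    rw [← filter_parts, hx, Multiset.filter_add, Multiset.filter_eq_self.mpr, Multiset.filter_eq_nil.mpr, add_zero]
    · intro a ha; rw [Multiset.eq_of_mem_replicate ha]; omega
    · intro a ha; rw [Multiset.eq_of_mem_replicate ha]; exact hp.two_le
  have hxp : x ^ (j + 1) = 1 := by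
    rw [← orderOf_dvd_iff_pow_eq_one, ← Perm.lcm_cycleType, hct, Multiset.lcm_dvd]
    intro a ha; rw [Multiset.eq_of_mem_replicate ha]
  have hcard : x.cycleFactorsFinset.card = w := by
    have := congrArg Multiset.card hct
    rw [Perm.cycleType_def, Multiset.card_map, Multiset.card_replicate] at this
    exact this
  have hxord : ∃ k : ℕ, orderOf x = (j + 1) ^ k := by
    obtain ⟨k, -, hk⟩ := (Nat.dvd_prime_pow hp).mp (show orderOf x ∣ (j + 1) ^ 1 by
      rw [pow_one]; exact orderOf_dvd_of_pow_eq_one hxp)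
    exact ⟨k, hk⟩
  obtain ⟨D, hD, hle⟩ := le_defect_of_value_ne_zero hM hB hχ hxord (E := cyclewise x)
    (by rw [hχv]; exact psi_ne_zero_of_parts (by omega) hv hw hpw hx)
    (fun e => ⟨1, Subtype.ext (by rw [pow_one]; exact pow_eq_one_cyclewise hxp e.2)⟩)
    (fun e he => Subgroup.mem_centralizer_singleton_iff.mpr he.1.eq)
    (fun c hc e he => conj_mem_cyclewise (Subgroup.mem_centralizer_singleton_iff.mp hc) he)
  exact ⟨D, cyclewise x, hD, hle, fun a ha b hb => comm_cyclewise ha hb,
    fun a ha => pow_eq_one_cyclewise hxp ha, hcard ▸ pow_le_card_cyclewise hp hxp⟩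

/-- The block with given residues: its weight bounds the rank and lives in the defect groups. -/
theorem weight_data {n : ℕ} {p : ℕ} {M : Ideal AlgInt} (hM : IsPModular p M)
    {B : Set (IrrCharacter (Perm (Fin n)))} (hB : IsPBlock M B) :
    ∃ w, blockRank p B ≤ (if w = 0 then 1 else (p - 1) * p ^ (w - 1)) ∧
      ∃ D E, IsDefectGroup p M B D ∧ E ≤ D ∧ (∀ a ∈ E, ∀ b ∈ E, a * b = b * a) ∧
        (∀ a ∈ E, a ^ p = 1) ∧ p ^ w ≤ Nat.card E := by
  classical
  have hp := hM.1
  obtain ⟨j, rfl⟩ : ∃ j, p = j + 1 := ⟨p - 1, by have := hp.pos; omega⟩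
  set N := (j + 1) * n + n with hN
  obtain ⟨χ, hχ⟩ := Char.block_nonempty (Char.pmod_prime hM) hB
  obtain ⟨v, hv, hχv⟩ := exists_label (N := N) (by omega) χ
  have hchi : chi ⟨v, hv⟩ = χ := Subtype.ext hχv.symm
  obtain ⟨w, -, hw, hreg⟩ := regDim_eq hp.two_le hv le_rfl
  have hrank := blockRank_le_regDim hM (by omega) hB hv (hchi ▸ hχ)
  rw [hreg] at hrank
  refine ⟨w, ?_, ?_⟩
  · refine hrank.trans ?_
    rcases w with _ | w
    · rw [card_Conf_zero]; simp
    · refine (card_Conf_le _ w).trans ?_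
      simp
  obtain ⟨D, E, h1, h2, h3, h4, h5⟩ := exists_elementary hM hB hv (hchi ▸ hχ) hw
  exact ⟨D, E, h1, h2, h3, h4, h5⟩

theorem blockRank_lt {n : ℕ} {p : ℕ} {M : Ideal AlgInt} (hM : IsPModular p M)
    {B : Set (IrrCharacter (Perm (Fin n)))} (hB : IsPBlock M B) {D : Subgroup (Perm (Fin n))}
    (hD : IsDefectGroup p M B D) (hD1 : D ≠ ⊥) {s : ℕ} (hs : SectionalPRankLE p s D) :
    blockRank p B < p ^ s := by
  classical
  have hp := hM.1
  obtain ⟨w, hrank, D', E, hD', hED, hcomm, hexp, hcard⟩ := weight_data hM hB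
  have hs1 : 1 ≤ s := by
    obtain ⟨g, -, hDg⟩ := (Char.isDefectGroup_iff B D).mp hD
    exact one_le_of_sectional hp hDg.isPGroup hD1 hs
  rcases Nat.eq_zero_or_pos w with rfl | hw
  · rw [if_pos rfl] at hrank
    have h2 : p ≤ p ^ s := Nat.le_self_pow (by omega) p
    have := hp.two_le
    omega
  rw [if_neg hw.ne'] at hrank
  obtain ⟨t, ht⟩ := Char.defect_groups_conj hM hB hD' hD
  set f := (MulAut.conj t).toMonoidHom
  have hle : E.map f ≤ D := ht ▸ Subgroup.map_mono hED
  have h3 := card_le_of_sectional hs hle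
    (by rintro _ ⟨a, ha, rfl⟩ _ ⟨b, hb, rfl⟩; rw [← map_mul, ← map_mul, hcomm a ha b hb])
    (by rintro _ ⟨a, ha, rfl⟩; rw [← map_pow, hexp a ha, map_one])
  rw [Subgroup.card_map_of_injective (MulEquiv.injective _)] at h3
  calc blockRank p B ≤ (p - 1) * p ^ (w - 1) := hrank
    _ < p * p ^ (w - 1) := Nat.mul_lt_mul_of_pos_right (by have := hp.pos; omega) (pow_pos hp.pos _)
    _ = p ^ w := by rw [← pow_succ', Nat.sub_add_cancel hw]
    _ ≤ p ^ s := hcard.trans h3

end Cfsg.Agent.SymChar
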