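import Cfsg.Agent.Lib.Char.SymChar.Column

/-!
# Constancy of signs when removing parts of one size
-/

set_option autoImplicit false

namespace Cfsg.Agent.SymChar

open Finset

variable {N : ℕ}

/-- The rank of a coordinate among those of the same residue. -/
def rnk (q : ℕ) (v : Fin N → ℤ) (i : Fin N) : ℕ :=
  (Finset.univ.filter fun l => v l % (q : ℤ) = v i % (q : ℤ) ∧ v l < v i).card

/-- All beads pushed down on their runners. -/
def pushed (q : ℕ) (v : Fin N → ℤ) : Fin N → ℤ := fun i => v i % (q : ℤ) + (q : ℤ) * rnk q v i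

theorem sub_single_emod (q : ℕ) (v : Fin N → ℤ) (i l : Fin N) :
    (v - Pi.single i (q : ℤ) : Fin N → ℤ) l % (q : ℤ) = v l % (q : ℤ) := by
  by_cases h : l = i
  · subst h; simp
  · simp [Pi.single_eq_of_ne h]

theorem order_sub_single {q : ℕ} {v : Fin N → ℤ} (hv : Function.Injective v) {i : Fin N}
    (hu : Function.Injective (v - Pi.single i (q : ℤ))) {l m : Fin N}
    (h : v l % (q : ℤ) = v m % (q : ℤ)) :
    (v - Pi.single i (q : ℤ) : Fin N → ℤ) l < (v - Pi.single i (q : ℤ) : Fin N → ℤ) m ↔ v l < v m := by
  have hd : (q : ℤ) ∣ v l - v m := Int.dvd_of_emod_eq_zero (Int.emod_eq_emod_iff_emod_sub_eq_zero.mp h)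
  obtain ⟨d, hd⟩ := hd
  by_cases hlm : l = m
  · subst hlm; simp
  have hne : v l ≠ v m := fun e => hlm (hv e)
  have hne' : (v - Pi.single i (q : ℤ) : Fin N → ℤ) l ≠ (v - Pi.single i (q : ℤ) : Fin N → ℤ) m := fun e => hlm (hu e)
  rcases Nat.eq_zero_or_pos q with rfl | hq
  · simp
  by_cases h1 : l = i
  · subst h1
    simp only [Pi.sub_apply, Pi.single_eq_same, Pi.single_eq_of_ne (Ne.symm hlm), sub_zero] at hne' ⊢
    constructor
    · intro hlt
      have h2 : (q : ℤ) * d < (q : ℤ) * 1 := by linarith
      have h3 : d < 1 := lt_of_mul_lt_mul_left h2 (by positivity)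
      rcases Int.lt_add_one_iff.mp (show d < 0 + 1 by omega) |>.lt_or_eq with h4 | h4
      · have := Int.mul_neg_of_pos_of_neg (by omega : (0 : ℤ) < q) h4
        omega
      · subst h4; simp at hd; omega
    · intro hlt; omega
  · by_cases h2 : m = i
    · subst h2
      simp only [Pi.sub_apply, Pi.single_eq_same, Pi.single_eq_of_ne h1, sub_zero] at hne' ⊢
      constructor
      · intro hlt; omega
      · intro hlt
        have h4 : d < 0 := by
          by_contra h5
          have := mul_nonneg (by positivity : (0 : ℤ) ≤ q) (not_lt.mp h5)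
          omega
        rcases (show d + 1 ≤ 0 by omega).lt_or_eq with h5 | h5
        · have h6 : (q : ℤ) * (d + 1) < 0 := Int.mul_neg_of_pos_of_neg (by omega) h5
          rw [mul_add, mul_one] at h6
          omega
        · obtain rfl : d = -1 := by omega
          simp at hd
          omega
    · simp [Pi.single_eq_of_ne h1, Pi.single_eq_of_ne h2]

theorem pushed_sub_single {q : ℕ} {v : Fin N → ℤ} (hv : Function.Injective v) {i : Fin N}
    (hu : Function.Injective (v - Pi.single i (q : ℤ))) :
    pushed q (v - Pi.single i (q : ℤ)) = pushed q v := by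
  funext l
  have e : rnk q (v - Pi.single i (q : ℤ) : Fin N → ℤ) l = rnk q v l := by
    refine congrArg Finset.card (Finset.filter_congr fun m _ => ?_)
    rw [sub_single_emod, sub_single_emod]
    exact and_congr_right fun h => order_sub_single hv hu h
  rw [pushed, pushed, e, sub_single_emod]

theorem pushed_le {q : ℕ} (hq : 0 < q) {v : Fin N → ℤ} (hv : Function.Injective v)
    (hpos : ∀ i, 0 ≤ v i) (i : Fin N) : pushed q v i ≤ v i := by
  have hq' : (0 : ℤ) < q := by omega
  have key : (rnk q v i : ℤ) ≤ v i / q := by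
    have := Finset.card_le_card_of_injOn (s := Finset.univ.filter fun l =>
        v l % (q : ℤ) = v i % (q : ℤ) ∧ v l < v i) (t := Finset.Ico (0 : ℤ) (v i / q))
      (fun l => v l / q) ?_ ?_
    · rw [Int.card_Ico] at this
      have := Int.ediv_nonneg (hpos i) hq'.le
      simp only [rnk]
      omega
    · intro l hl
      simp only [Finset.coe_filter, Finset.mem_univ, true_and, Set.mem_ofPred_eq] at hl
      simp only [Finset.coe_Ico, Set.mem_Ico]
      refine ⟨Int.ediv_nonneg (hpos l) hq'.le, ?_⟩
      have e1 := Int.mul_ediv_add_emod (v l) q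
      have e2 := Int.mul_ediv_add_emod (v i) q
      have : (q : ℤ) * (v l / q) < q * (v i / q) := by omega
      exact lt_of_mul_lt_mul_left this hq'.le
    · intro a ha b hb e
      simp only [Finset.coe_filter, Finset.mem_univ, true_and, Set.mem_ofPred_eq] at ha hb
      refine hv ?_
      have e1 := Int.mul_ediv_add_emod (v a) q
      have e2 := Int.mul_ediv_add_emod (v b) q
      simp only at e
      rw [e] at e1
      omega
  have e2 := Int.mul_ediv_add_emod (v i) q
  have := mul_le_mul_of_nonneg_left key hq'.le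
  simp only [pushed]
  omega

theorem exists_movable {q : ℕ} (hq : 0 < q) {v : Fin N → ℤ} (hv : Function.Injective v)
    (hpos : ∀ i, 0 ≤ v i) (h : pushed q v ≠ v) :
    ∃ i, (q : ℤ) ≤ v i ∧ Function.Injective (v - Pi.single i (q : ℤ)) := by
  obtain ⟨i0, hi0⟩ := Function.ne_iff.mp h
  obtain ⟨i, hi, hmin⟩ := Finset.exists_min_image (Finset.univ.filter fun i => pushed q v i ≠ v i) v
    ⟨i0, Finset.mem_filter.mpr ⟨Finset.mem_univ _, hi0⟩⟩
  have hne := (Finset.mem_filter.mp hi).2
  have hlt : pushed q v i < v i := lt_of_le_of_ne (pushed_le hq hv hpos i) hne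
  have e2 := Int.mul_ediv_add_emod (v i) q
  have hk : (rnk q v i : ℤ) + 1 ≤ v i / q := by
    have : (q : ℤ) * rnk q v i < q * (v i / q) := by simp only [pushed] at hlt; omega
    have := lt_of_mul_lt_mul_left this (by positivity)
    omega
  have hqi : (q : ℤ) ≤ v i := by
    have := Int.emod_nonneg (v i) (b := (q : ℤ)) (by omega)
    have := mul_le_mul_of_nonneg_left hk (by positivity : (0 : ℤ) ≤ q)
    rw [mul_add, mul_one] at this
    have : (0 : ℤ) ≤ (q : ℤ) * rnk q v i := by positivity
    omega
  refine ⟨i, hqi, fun a b e => ?_⟩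
  -- a collision would contradict minimality
  have key : ∀ l, l ≠ i → v l = v i - q → False := by
    intro l hl hvl
    have hfix : pushed q v l = v l := by
      by_contra h'
      have := hmin l (Finset.mem_filter.mpr ⟨Finset.mem_univ _, h'⟩)
      omega
    have hmod : v l % (q : ℤ) = v i % (q : ℤ) := by rw [hvl, Int.sub_emod_right]
    have hins : rnk q v i = rnk q v l + 1 := by
      rw [rnk, rnk, ← Finset.card_insert_of_notMem (a := l)
        (show l ∉ Finset.univ.filter fun m => v m % (q : ℤ) = v l % (q : ℤ) ∧ v m < v l by simp)]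
      congr 1
      ext m
      simp only [Finset.mem_insert, Finset.mem_filter, Finset.mem_univ, true_and]
      constructor
      · rintro ⟨h1, h2⟩
        by_cases hml : m = l
        · exact Or.inl hml
        refine Or.inr ⟨h1.trans hmod.symm, ?_⟩
        have hne2 : v m ≠ v l := fun e => hml (hv e)
        obtain ⟨d, hd⟩ : (q : ℤ) ∣ v i - v m :=
          Int.dvd_of_emod_eq_zero (Int.emod_eq_emod_iff_emod_sub_eq_zero.mp h1.symm)
        have hd0 : 0 < d := by
          by_contra h5
          have := mul_nonpos_of_nonneg_of_nonpos (by positivity : (0 : ℤ) ≤ q) (not_lt.mp h5)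
          omega
        have := mul_le_mul_of_nonneg_left (show 1 ≤ d by omega) (by positivity : (0 : ℤ) ≤ q)
        omega
      · rintro (rfl | ⟨h1, h2⟩)
        · exact ⟨hmod, by omega⟩
        · exact ⟨h1.trans hmod, by omega⟩
    have hl2 := Int.mul_ediv_add_emod (v l) q
    simp only [pushed] at hfix hlt
    rw [hins] at hlt
    push_cast at hlt
    rw [mul_add, mul_one, ← hmod] at hlt
    omega
  simp only [Pi.sub_apply] at e
  by_cases ha : a = i
  · by_cases hb : b = i
    · rw [ha, hb]
    · exfalso
      rw [ha, Pi.single_eq_same, Pi.single_eq_of_ne hb, sub_zero] at e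
      exact key b hb e.symm
  · by_cases hb : b = i
    · exfalso
      rw [hb, Pi.single_eq_same, Pi.single_eq_of_ne ha, sub_zero] at e
      exact key a ha e
    · rw [Pi.single_eq_of_ne ha, Pi.single_eq_of_ne hb, sub_zero, sub_zero] at e
      exact hv e

/-- Removing `w` parts of size `q` reaches the pushed label with a single sign. -/
theorem F_replicate {q : ℕ} (hq : 0 < q) : ∀ (w : ℕ) {v : Fin N → ℤ}, Function.Injective v →
    (∀ i, 0 ≤ v i) → ∑ i, (v i - pushed q v i) = (q : ℤ) * w → ∀ μ : Multiset ℕ,
    ∃ K : ℤ, F (Multiset.replicate w q + μ) v = K * F μ (pushed q v) ∧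
      (∀ μ' : Multiset ℕ, F (Multiset.replicate w q + μ') v = K * F μ' (pushed q v)) ∧ 0 < K := by
  intro w
  induction w with
  | zero =>
    intro v hv hpos hs μ
    have e : pushed q v = v := by
      funext i
      have h0 : ∀ j ∈ (Finset.univ : Finset (Fin N)), 0 ≤ v j - pushed q v j := fun j _ => by
        have := pushed_le hq hv hpos j; omega
      have := (Finset.sum_eq_zero_iff_of_nonneg h0).mp (by simpa using hs) i (Finset.mem_univ i)
      omega
    exact ⟨1, by simp [e], fun μ' => by simp [e], one_pos⟩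
  | succ w ih =>
    intro v hv hpos hs μ
    classical
    set T := Finset.univ.filter fun i => (q : ℤ) ≤ v i ∧ Function.Injective (v - Pi.single i (q : ℤ))
    have hstep : ∀ i ∈ T, ∃ K : ℤ, (∀ μ' : Multiset ℕ,
        F (Multiset.replicate w q + μ') (v - Pi.single i (q : ℤ)) = K * F μ' (pushed q v)) ∧ 0 < K := by
      intro i hi
      obtain ⟨-, h1, h2⟩ := Finset.mem_filter.mp hi
      obtain ⟨K, -, hK, hK0⟩ := ih h2 (fun l => by
        by_cases hl : l = i
        · subst hl; simp; omega
        · simp [Pi.single_eq_of_ne hl, hpos l]) (by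
        rw [pushed_sub_single hv h2]
        simp only [Pi.sub_apply, Finset.sum_sub_distrib, Finset.sum_pi_single', Finset.mem_univ, if_true] at hs ⊢
        push_cast at hs
        linarith) μ
      exact ⟨K, fun μ' => by rw [hK μ', pushed_sub_single hv h2], hK0⟩
    choose! K hK hK0 using hstep
    have hsum : ∀ μ' : Multiset ℕ, F (Multiset.replicate (w + 1) q + μ') v = (∑ i ∈ T, K i) * F μ' (pushed q v) := by
      intro μ'
      rw [Multiset.replicate_succ, Multiset.cons_add, F_cons_apply, Finset.sum_mul,
        ← Finset.sum_filter_add_sum_filter_not Finset.univ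
          (fun i => (q : ℤ) ≤ v i ∧ Function.Injective (v - Pi.single i (q : ℤ)))]
      rw [Finset.sum_eq_zero (s := Finset.univ.filter fun i => ¬ _), add_zero]
      · exact Finset.sum_congr rfl fun i hi => hK i hi μ'
      · intro i hi
        rcases not_and_or.mp (Finset.mem_filter.mp hi).2 with h | h
        · exact F_eq_zero_of_neg _ (i := i) (by simp; omega)
        · exact F_eq_zero_of_not_injective _ h
    refine ⟨∑ i ∈ T, K i, hsum μ, hsum, Finset.sum_pos (fun i hi => hK0 i hi) ?_⟩
    have hne : pushed q v ≠ v := fun e => by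
      rw [e] at hs
      simp at hs
      omega
    obtain ⟨i, hi⟩ := exists_movable hq hv hpos hne
    exact ⟨i, Finset.mem_filter.mpr ⟨Finset.mem_univ _, hi⟩⟩

theorem pushed_one {v : Fin N → ℤ} (hv : StrictMono v) : pushed 1 v = del N := by
  funext i
  simp only [pushed, rnk, Nat.cast_one, Int.emod_one, true_and, hv.lt_iff_lt, zero_add, one_mul, del]
  rw [Finset.filter_gt_eq_Iio, Fin.card_Iio]

theorem F_degree_pos {n : ℕ} {v : Fin N → ℤ} (hv : v ∈ Beta N n) :
    0 < F (Multiset.replicate n 1) v := by
  obtain ⟨hA, hmono⟩ := mem_Beta.mp hv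
  obtain ⟨K, hK, -, hK0⟩ := F_replicate one_pos n hmono.injective hA.1 (by
    rw [pushed_one hmono, Finset.sum_sub_distrib, hA.2]; simp) 0
  rw [add_zero, pushed_one hmono, F_zero] at hK
  rw [hK]
  refine mul_pos hK0 ?_
  have h : Aint (del N) (del N) = 1 := by
    have h0 : StrictMono (del N) := fun a b h => by simpa [del] using h
    simp [Aint_sorted h0 h0]
  omega

end Cfsg.Agent.SymChar
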