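import Cfsg.Agent.Lib.Char.SymChar.Counts
import Cfsg.Agent.Lib.Char.SymChar.Signs
import Cfsg.Agent.Lib.Perm.PermChar

/-!
# The irreducible characters of the symmetric group
-/

set_option autoImplicit false

namespace Cfsg.Agent.SymChar

open Finset Equiv Cfsg
open scoped Nat ComplexConjugate

variable {N n : ℕ}

instance colourAction (a : Fin N → ℤ) : MulAction (Perm (Fin n)) (Colour n a) where
  smul g f := ⟨fun x => f.1 (g⁻¹ x), fun i => by
    rw [← f.2 i]
    congr 1
    exact Finset.card_equiv g⁻¹ fun x => by simp⟩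
  one_smul f := Subtype.ext (funext fun x => rfl)
  mul_smul g h f := Subtype.ext (funext fun x => by
    show f.1 ((g * h)⁻¹ x) = f.1 (h⁻¹ (g⁻¹ x))
    simp)

theorem smul_colour_eq_iff {a : Fin N → ℤ} (g : Perm (Fin n)) (f : Colour n a) :
    g • f = f ↔ ∀ x, f.1 (g x) = f.1 x := by
  constructor
  · intro h x
    have := congr_fun (congrArg Subtype.val h) (g x)
    change f.1 (g⁻¹ (g x)) = f.1 (g x) at this
    simpa using this.symm
  · intro h
    refine Subtype.ext (funext fun x => ?_)
    show f.1 (g⁻¹ x) = f.1 x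
    simpa using (h (g⁻¹ x)).symm

theorem isCharacter_pcount (a : Fin N → ℤ) :
    IsCharacter (Perm (Fin n)) fun g => (pcount (parts g) a : ℂ) := by
  classical
  have h : (fun g : Perm (Fin n) => (pcount (parts g) a : ℂ)) =
      Perm.PermChar.permChar (Perm (Fin n)) (Colour n a) := by
    funext g
    rw [← card_fixed_colour g a, Int.cast_natCast]
    show _ = (Nat.card (MulAction.fixedBy (Colour n a) g) : ℂ)
    congr 1
    exact Nat.card_congr (Equiv.subtypeEquivRight fun f => (smul_colour_eq_iff g f).symm)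
  rw [h]
  exact Perm.PermChar.isCharacter_permChar

/-- The class function attached to a label. -/
noncomputable def psi (v : Fin N → ℤ) : Equiv.Perm (Fin n) → ℂ := fun g => (F (parts g) v : ℂ)

theorem psi_eq_sum (v : Fin N → ℤ) :
    psi (n := n) v = ∑ σ : Perm (Fin N), ((Perm.sign σ : ℤ) : ℂ) •
      fun g : Perm (Fin n) => (pcount (parts g) (v - del N ∘ σ) : ℂ) := by
  funext g
  simp only [psi, F_eq_pcount (parts g) v, Finset.sum_apply, Pi.smul_apply, smul_eq_mul]
  push_cast
  rfl

theorem classInner_psi {v w : Fin N → ℤ} (hv : v ∈ Beta N n) (hw : w ∈ Beta N n) :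
    classInner (psi (n := n) v) (psi w) = if w = v then 1 else 0 := by
  have h := sum_parts (n := n) fun μ => (F μ v : ℚ) * F μ w
  rw [row_orth hv hw] at h
  have h2 := congrArg (fun q : ℚ => (q : ℂ)) h
  simp only [Rat.cast_sum, Rat.cast_mul, Rat.cast_intCast, Rat.cast_natCast] at h2
  simp only [classInner, psi, map_intCast, h2, Nat.card_eq_fintype_card, Fintype.card_perm,
    Fintype.card_fin]
  have : (n ! : ℂ) ≠ 0 := Nat.cast_ne_zero.mpr (Nat.factorial_pos n).ne'
  split_ifs <;> simp [this]

theorem psi_one (v : Fin N → ℤ) : psi (n := n) v 1 = (F (Multiset.replicate n 1) v : ℂ) := by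
  rw [psi, parts_one]

theorem isIrrCharacter_psi {v : Fin N → ℤ} (hv : v ∈ Beta N n) :
    IsIrrCharacter (Perm (Fin n)) (psi v) := by
  classical
  have hint : ∀ χ : IrrCharacter (Perm (Fin n)), ∃ z : ℤ, classInner (psi v) (χ : Perm (Fin n) → ℂ) = z := by
    intro χ
    choose m hm using fun σ : Perm (Fin N) =>
      Char.exists_decomposition (isCharacter_pcount (n := n) (v - del N ∘ σ))
    refine ⟨∑ σ : Perm (Fin N), (Perm.sign σ : ℤ) * m σ χ, ?_⟩
    rw [psi_eq_sum, Char.classInner_sum_left, Int.cast_sum]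
    refine Finset.sum_congr rfl fun σ _ => ?_
    rw [Char.classInner_smul_left, Char.decomposition_coeff _ (hm σ) χ]
    push_cast
    rfl
  choose z hz using hint
  have hexp : psi v = ∑ χ : IrrCharacter (Perm (Fin n)), (z χ : ℂ) • (χ : Perm (Fin n) → ℂ) := by
    have hcl : IsClassFunction (Perm (Fin n)) (psi v) := fun g h => by
      simp only [psi]
      congr 2
      exact congrArg Nat.Partition.parts (Perm.partition_eq_of_isConj.mp (isConj_iff.mpr ⟨h, rfl⟩)).symm
    conv_lhs => rw [Char.classFun_expansion hcl]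
    exact Finset.sum_congr rfl fun χ _ => by rw [hz]
  have hsq : ∑ χ : IrrCharacter (Perm (Fin n)), z χ * z χ = 1 := by
    have h := classInner_psi hv hv
    rw [if_pos rfl] at h
    conv_lhs at h => arg 2; rw [hexp]
    simp only [Char.classInner_sum_right, Char.classInner_smul_right, hz, map_intCast] at h
    exact_mod_cast h
  obtain ⟨χ0, -, h0⟩ := Finset.exists_ne_zero_of_sum_ne_zero (hsq ▸ one_ne_zero :
    ∑ χ : IrrCharacter (Perm (Fin n)), z χ * z χ ≠ 0)
  rw [← Finset.add_sum_erase _ _ (Finset.mem_univ χ0)] at hsq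
  have hpos : 1 ≤ z χ0 * z χ0 := lt_of_le_of_ne (mul_self_nonneg _) h0.symm
  have hnn : 0 ≤ ∑ χ ∈ Finset.univ.erase χ0, z χ * z χ := Finset.sum_nonneg fun _ _ => mul_self_nonneg _
  have hrest : ∀ χ ∈ Finset.univ.erase χ0, z χ = 0 := fun χ hχ => mul_self_eq_zero.mp
    ((Finset.sum_eq_zero_iff_of_nonneg fun _ _ => mul_self_nonneg _).mp (by omega) χ hχ)
  have hpm : z χ0 = 1 ∨ z χ0 = -1 := Int.eq_one_or_neg_one_of_mul_eq_one (show z χ0 * z χ0 = 1 by omega)
  have heq : psi v = (z χ0 : ℂ) • (χ0 : Perm (Fin n) → ℂ) := by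
    rw [hexp, Finset.sum_eq_single χ0]
    · intro χ _ hne
      rw [hrest χ (Finset.mem_erase.mpr ⟨hne, Finset.mem_univ _⟩), Int.cast_zero, zero_smul]
    · simp
  rcases hpm with h | h
  · rw [heq, h, Int.cast_one, one_smul]
    exact χ0.2
  · exfalso
    obtain ⟨d, hd⟩ := Char.charOne_eq_natCast (Char.irr_isCharacter χ0.2)
    have e : psi v (1 : Perm (Fin n)) = - (d : ℂ) := by
      rw [heq, h]; simp [hd]
    rw [psi_one] at e
    have e2 : F (Multiset.replicate n 1) v = -(d : ℤ) := by exact_mod_cast e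
    have := F_degree_pos hv
    omega

/-- The irreducible character of a label. -/
noncomputable def chi (v : Beta N n) : IrrCharacter (Perm (Fin n)) :=
  ⟨psi (v : Fin N → ℤ), isIrrCharacter_psi v.2⟩

theorem chi_bijective (h : n ≤ N) : Function.Bijective (chi (N := N) (n := n)) := by
  classical
  have hinj : Function.Injective (chi (N := N) (n := n)) := fun v w e => by
    have e' : psi (n := n) (v : Fin N → ℤ) = psi (w : Fin N → ℤ) := congrArg Subtype.val e
    have h1 := classInner_psi v.2 w.2
    rw [← e', classInner_psi v.2 v.2, if_pos rfl] at h1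
    refine Subtype.ext ?_
    by_contra hne
    rw [if_neg (Ne.symm hne)] at h1
    exact one_ne_zero h1
  refine ⟨hinj, ?_⟩
  have hcc : Nat.card (ConjClasses (Perm (Fin n))) ≤ (Ps n).card := by
    have : Fintype (ConjClasses (Perm (Fin n))) := Fintype.ofFinite _
    rw [Nat.card_eq_fintype_card, ← Finset.card_univ]
    refine Finset.card_le_card_of_injOn (fun c => parts (Quotient.out c)) (fun c _ => parts_mem _) ?_
    intro c _ d _ e
    rw [← Quotient.out_eq c, ← Quotient.out_eq d]
    exact Quotient.sound (Perm.partition_eq_of_isConj.mpr (Nat.Partition.ext e))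
  have hcard : Nat.card (IrrCharacter (Perm (Fin n))) ≤ Nat.card (Beta N n) := by
    rw [Char.card_irr, Nat.card_eq_fintype_card (α := Beta N n), Fintype.card_coe, card_Beta h]
    exact hcc
  exact ((Nat.bijective_iff_injective_and_card _).mpr
    ⟨hinj, le_antisymm (Nat.card_le_card_of_injective _ hinj) hcard⟩).2

end Cfsg.Agent.SymChar
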