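import Cfsg.Agent.Lib.Char.SymChar.Orth

/-!
# Column orthogonality and its refinements by a stable set of labels
-/

set_option autoImplicit false

namespace Cfsg.Agent.SymChar

open Finset Equiv
open scoped Nat

variable {N : ℕ}

open scoped Classical in
/-- All level `n` vectors with distinct coordinates. -/
noncomputable def BoxI (N n : ℕ) : Finset (Fin N → ℤ) :=
  (Fintype.piFinset fun _ => Finset.Icc (0 : ℤ) ((n : ℤ) + ∑ i, del N i)).filter
    fun v => Adm n v ∧ Function.Injective v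

open scoped Classical in
/-- The labels of level `n`. -/
noncomputable def Beta (N n : ℕ) : Finset (Fin N → ℤ) := (BoxI N n).filter StrictMono

theorem mem_BoxI {n : ℕ} {v : Fin N → ℤ} : v ∈ BoxI N n ↔ Adm n v ∧ Function.Injective v := by
  classical
  simp only [BoxI, Finset.mem_filter, Fintype.mem_piFinset, Finset.mem_Icc, and_iff_right_iff_imp]
  exact fun h i => ⟨h.1.1 i, h.1.le i⟩

theorem mem_Beta {n : ℕ} {v : Fin N → ℤ} : v ∈ Beta N n ↔ Adm n v ∧ StrictMono v := by
  classical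
  simp only [Beta, Finset.mem_filter, mem_BoxI]
  exact ⟨fun h => ⟨h.1.1, h.2⟩, fun h => ⟨⟨h.1, h.2.injective⟩, h.2⟩⟩

theorem exists_sorted {v : Fin N → ℤ} (hv : Function.Injective v) :
    ∃ σ : Perm (Fin N), StrictMono (v ∘ σ) :=
  ⟨Tuple.sort v, (Tuple.monotone_sort v).strictMono_of_injective (hv.comp (Equiv.injective _))⟩

theorem sorted_unique {v w : Fin N → ℤ} (hv : StrictMono v) (hw : StrictMono w) {σ : Perm (Fin N)}
    (h : w = v ∘ σ) : σ = 1 := by
  have hm : StrictMono σ := fun a b hab => by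
    have := hw hab
    rw [h] at this
    exact hv.lt_iff_lt.mp this
  have := (hm.range_inj strictMono_id).mp (by rw [Set.range_id, Equiv.range_eq_univ])
  exact Equiv.ext fun i => congr_fun this i

theorem Aint_sorted {v w : Fin N → ℤ} (hv : StrictMono v) (hw : StrictMono w) :
    Aint v w = if w = v then 1 else 0 := by
  split_ifs with h
  · subst h
    simpa using Aint_self_comp hv.injective 1
  · rw [Aint]
    refine Finset.sum_eq_zero fun σ _ => if_neg fun e => ?_
    rw [sorted_unique hv hw e] at e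
    exact h e

theorem sum_BoxI {M : Type*} [AddCommMonoid M] (n : ℕ) (X : (Fin N → ℤ) → M)
    (hX : ∀ v (σ : Perm (Fin N)), X (v ∘ σ) = X v) :
    ∑ v ∈ BoxI N n, X v = N ! • ∑ v ∈ Beta N n, X v := by
  classical
  have h : ∑ q ∈ (Finset.univ : Finset (Perm (Fin N))) ×ˢ Beta N n, X q.2 = ∑ v ∈ BoxI N n, X v := by
    refine Finset.sum_bij (fun q _ => q.2 ∘ q.1) ?_ ?_ ?_ ?_
    · intro q hq
      obtain ⟨h1, h2⟩ := mem_Beta.mp (Finset.mem_product.mp hq).2
      exact mem_BoxI.mpr ⟨h1.comp _, h2.injective.comp (Equiv.injective _)⟩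
    · intro q hq r hr e
      have h1 := (mem_Beta.mp (Finset.mem_product.mp hq).2).2
      have h2 := (mem_Beta.mp (Finset.mem_product.mp hr).2).2
      have e2 : r.2 = q.2 ∘ ⇑(q.1 * r.1⁻¹) := by
        funext a
        have := congr_fun e (r.1⁻¹ a)
        simpa using this.symm
      have e3 := sorted_unique h1 h2 e2
      rw [e3] at e2
      exact Prod.ext (mul_inv_eq_one.mp e3) e2.symm
    · intro v hv
      obtain ⟨h1, h2⟩ := mem_BoxI.mp hv
      obtain ⟨σ, hσ⟩ := exists_sorted h2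
      refine ⟨(σ⁻¹, v ∘ σ), Finset.mem_product.mpr ⟨Finset.mem_univ _, mem_Beta.mpr ⟨h1.comp _, hσ⟩⟩, ?_⟩
      funext a
      simp
    · intro q _
      exact (hX _ _).symm
  rw [← h, Finset.sum_product]
  simp only
  rw [Finset.sum_const, Finset.card_univ, Fintype.card_perm, Fintype.card_fin]

theorem row_orth {n : ℕ} {v w : Fin N → ℤ} (hv : v ∈ Beta N n) (hw : w ∈ Beta N n) :
    ∑ μ ∈ Ps n, (F μ v : ℚ) * F μ w / zNat μ = if w = v then 1 else 0 := by
  have h := inner_eq n (mem_Beta.mp hv).1 (mem_Beta.mp hw).1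
  rw [inner, Aint_sorted (mem_Beta.mp hv).2 (mem_Beta.mp hw).2] at h
  rw [h]
  split_ifs <;> simp

theorem coeff_eq {n : ℕ} (c : (Fin N → ℤ) → ℚ) {w : Fin N → ℤ} (hw : w ∈ Beta N n) :
    ∑ μ ∈ Ps n, (∑ v ∈ Beta N n, c v * F μ v) * F μ w / zNat μ = c w := by
  classical
  calc _ = ∑ v ∈ Beta N n, c v * ∑ μ ∈ Ps n, (F μ v : ℚ) * F μ w / zNat μ := by
        simp only [Finset.sum_mul, Finset.sum_div, Finset.mul_sum]
        rw [Finset.sum_comm]
        exact Finset.sum_congr rfl fun v _ => Finset.sum_congr rfl fun μ _ => by ring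
    _ = c w := by
        rw [Finset.sum_congr rfl fun v hv => by rw [row_orth hv hw], Finset.sum_eq_single w]
        · simp
        · intro v _ hvw; rw [if_neg hvw.symm, mul_zero]
        · exact fun h => absurd hw h

theorem eq_zero_of_pairing {n : ℕ} (c : (Fin N → ℤ) → ℚ)
    (h : ∀ μ ∈ Ps n, ∑ v ∈ Beta N n, c v * F μ v = 0) {w : Fin N → ℤ} (hw : w ∈ Beta N n) :
    c w = 0 := by
  rw [← coeff_eq c hw]
  exact Finset.sum_eq_zero fun μ hμ => by rw [h μ hμ]; simp

theorem card_Beta_le (N n : ℕ) : (Beta N n).card ≤ (Ps n).card := by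
  classical
  let T : (Beta N n → ℚ) →ₗ[ℚ] (Ps n → ℚ) :=
    Matrix.mulVecLin (Matrix.of fun (μ : Ps n) (v : Beta N n) => (F (μ : Multiset ℕ) (v : Fin N → ℤ) : ℚ))
  have hT : Function.Injective T := by
    rw [injective_iff_map_eq_zero]
    intro c hc
    funext ⟨w, hw⟩
    have := eq_zero_of_pairing (n := n) (fun v => if h : v ∈ Beta N n then c ⟨v, h⟩ else 0)
      (fun μ hμ => ?_) hw
    · simpa [hw] using this
    · rw [← Finset.sum_coe_sort]
      simpa [T, Matrix.mulVec, dotProduct, mul_comm] using congr_fun hc ⟨μ, hμ⟩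
  simpa using LinearMap.finrank_le_finrank_of_injective hT

theorem monotone_eq_of_map {f g : Fin N → ℕ} (hf : Monotone f) (hg : Monotone g)
    (h : (Finset.univ : Finset (Fin N)).val.map f = Finset.univ.val.map g) : f = g := by
  have h' : List.ofFn f = List.ofFn g := by
    refine List.Perm.eq_of_pairwise' ?_ ?_ ?_ (r := (· ≤ ·))
    · exact List.pairwise_ofFn.mpr fun i j hij => hf hij.le
    · exact List.pairwise_ofFn.mpr fun i j hij => hg hij.le
    · rw [← Multiset.coe_eq_coe]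
      simpa [Fin.univ_val_map] using h
  exact List.ofFn_injective h'

theorem card_Ps_le {n : ℕ} (h : n ≤ N) : (Ps n).card ≤ (Beta N n).card := by
  classical
  let l : Multiset ℕ → List ℕ := fun μ => (μ + Multiset.replicate (N - μ.card) 0).sort (· ≤ ·)
  let f : Multiset ℕ → Fin N → ℤ := fun μ i => ((l μ).getD i 0 : ℤ) + (i : ℕ)
  have hlen : ∀ μ ∈ Ps n, (l μ).length = N := by
    intro μ hμ
    obtain ⟨h1, h2⟩ := mem_Ps.mp hμ
    have : μ.card ≤ n := h1 ▸ by
      simpa using Multiset.card_nsmul_le_sum (fun a ha => h2 a ha : ∀ a ∈ μ, 1 ≤ a)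
    simp only [l, Multiset.length_sort, Multiset.card_add, Multiset.card_replicate]
    omega
  have hget : ∀ μ ∈ Ps n, List.ofFn (fun i : Fin N => (l μ).getD i 0) = l μ := by
    intro μ hμ
    refine List.ext_getElem (by simp [hlen μ hμ]) fun i h1 h2 => ?_
    simp [List.getElem?_eq_getElem h2]
  refine Finset.card_le_card_of_injOn f ?_ ?_
  · intro μ hμ
    have hμ' : μ ∈ Ps n := hμ
    refine Finset.mem_coe.mpr (mem_Beta.mpr ⟨⟨fun i => by simp only [f]; positivity, ?_⟩, ?_⟩)
    · simp only [f, Finset.sum_add_distrib]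
      congr 1
      rw [← Nat.cast_sum, ← List.sum_ofFn, hget μ hμ']
      congr 1
      rw [← Multiset.sum_coe, Multiset.sort_eq, Multiset.sum_add, (mem_Ps.mp hμ').1]
      simp
    · intro a b hab
      have hp := Multiset.pairwise_sort (μ + Multiset.replicate (N - μ.card) 0) (· ≤ ·)
      have hp' : (List.ofFn fun i : Fin N => (l μ).getD i 0).Pairwise (· ≤ ·) := by
        rw [hget μ hμ']; exact hp
      have := List.pairwise_ofFn.mp hp' hab
      have hab' : (a : ℕ) < b := hab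
      simp only [f]
      omega
  · intro μ hμ μ' hμ' e
    have e' : (fun i : Fin N => (l μ).getD i 0) = fun i : Fin N => (l μ').getD i 0 := by
      funext i
      have := congr_fun e i
      simpa [f] using this
    have hl : l μ = l μ' := by rw [← hget μ hμ, ← hget μ' hμ', e']
    have h2 := congrArg (fun L : List ℕ => ((L : Multiset ℕ).filter (0 < ·))) hl
    simp only [l, Multiset.sort_eq, Multiset.filter_add] at h2
    have aux : ∀ m : Multiset ℕ, (Multiset.replicate (N - m.card) 0).filter (0 < ·) = 0 := fun m =>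
      Multiset.filter_eq_nil.mpr fun a ha => by rw [Multiset.eq_of_mem_replicate ha]; simp
    rwa [aux, aux, add_zero, add_zero, Multiset.filter_eq_self.mpr (mem_Ps.mp hμ).2,
      Multiset.filter_eq_self.mpr (mem_Ps.mp hμ').2] at h2

theorem card_Beta {n : ℕ} (h : n ≤ N) : (Beta N n).card = (Ps n).card :=
  le_antisymm (card_Beta_le N n) (card_Ps_le h)

theorem expansion {n : ℕ} (h : n ≤ N) (f : Multiset ℕ → ℚ) {μ : Multiset ℕ} (hμ : μ ∈ Ps n) :
    f μ = ∑ v ∈ Beta N n, (∑ η ∈ Ps n, f η * F η v / zNat η) * F μ v := by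
  classical
  let T : (Beta N n → ℚ) →ₗ[ℚ] (Ps n → ℚ) :=
    Matrix.mulVecLin (Matrix.of fun (μ : Ps n) (v : Beta N n) => (F (μ : Multiset ℕ) (v : Fin N → ℤ) : ℚ))
  have hT : Function.Injective T := by
    rw [injective_iff_map_eq_zero]
    intro c hc
    funext ⟨w, hw⟩
    have := eq_zero_of_pairing (n := n) (fun v => if h : v ∈ Beta N n then c ⟨v, h⟩ else 0)
      (fun μ hμ => ?_) hw
    · simpa [hw] using this
    · rw [← Finset.sum_coe_sort]
      simpa [T, Matrix.mulVec, dotProduct, mul_comm] using congr_fun hc ⟨μ, hμ⟩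
  have hsur : Function.Surjective T :=
    (LinearMap.injective_iff_surjective_of_finrank_eq_finrank (by simp [card_Beta h])).mp hT
  obtain ⟨c, hc⟩ := hsur fun η => f η
  set c' : (Fin N → ℤ) → ℚ := fun v => if h : v ∈ Beta N n then c ⟨v, h⟩ else 0
  have hf : ∀ η ∈ Ps n, ∑ v ∈ Beta N n, c' v * F η v = f η := by
    intro η hη
    rw [← Finset.sum_coe_sort]
    have := congr_fun hc ⟨η, hη⟩
    simpa [T, c', Matrix.mulVec, dotProduct, mul_comm] using this
  rw [← hf μ hμ]
  refine Finset.sum_congr rfl fun v hv => ?_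
  rw [← coeff_eq c' hv]
  congr 1
  exact Finset.sum_congr rfl fun η hη => by rw [hf η hη]

/-- Column orthogonality. -/
theorem col_orth {n : ℕ} (h : n ≤ N) {μ μ' : Multiset ℕ} (hμ : μ ∈ Ps n) (hμ' : μ' ∈ Ps n) :
    ∑ v ∈ Beta N n, (F μ v : ℚ) * F μ' v = if μ = μ' then (zNat μ : ℚ) else 0 := by
  classical
  rw [expansion h (fun η => if η = μ' then (zNat η : ℚ) else 0) hμ]
  refine Finset.sum_congr rfl fun v _ => ?_
  rw [Finset.sum_eq_single μ']
  · have : (zNat μ' : ℚ) ≠ 0 := by exact_mod_cast (zNat_pos (mem_Ps.mp hμ').2).ne'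
    rw [if_pos rfl, mul_div_cancel_left₀ _ this]
    ring
  · intro η _ hη; simp [hη]
  · exact fun h => absurd hμ' h

/-- A set of labels unchanged by reordering. -/
def SymmPred (P : (Fin N → ℤ) → Prop) : Prop := ∀ v (σ : Perm (Fin N)), P (v ∘ σ) ↔ P v

/-- A set of labels unchanged by shifting one coordinate by `k`. -/
def ShiftPred (k : ℕ) (P : (Fin N → ℤ) → Prop) : Prop :=
  ∀ v i, P (v - Pi.single i (k : ℤ)) ↔ P v

open scoped Classical in
/-- The pairing of two classes over a set of labels. -/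
noncomputable def S (P : (Fin N → ℤ) → Prop) (n : ℕ) (μ μ' : Multiset ℕ) : ℚ :=
  ∑ v ∈ (Beta N n).filter P, (F μ v : ℚ) * F μ' v

theorem S_symm (P : (Fin N → ℤ) → Prop) (n : ℕ) (μ μ' : Multiset ℕ) : S P n μ μ' = S P n μ' μ :=
  Finset.sum_congr rfl fun _ _ => mul_comm _ _

theorem S_true {n : ℕ} (h : n ≤ N) {μ μ' : Multiset ℕ} (hμ : μ ∈ Ps n) (hμ' : μ' ∈ Ps n) :
    S (fun _ : Fin N → ℤ => True) n μ μ' = if μ = μ' then (zNat μ : ℚ) else 0 := by
  classical
  rw [← col_orth h hμ hμ', S]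
  exact Finset.sum_congr (Finset.ext fun _ => by simp) fun _ _ => rfl

theorem cast_sign_sq (σ : Perm (Fin N)) : ((Perm.sign σ : ℤ) : ℚ) * ((Perm.sign σ : ℤ) : ℚ) = 1 := by
  rw [← Int.cast_mul, sign_mul_self', Int.cast_one]

theorem raise_comp (y : Multiset ℕ) (k : ℤ) (u : Fin N → ℤ) (σ : Perm (Fin N)) :
    ∑ i, F y (u ∘ σ + Pi.single i k) = (Perm.sign σ : ℤ) * ∑ i, F y (u + Pi.single i k) := by
  rw [Finset.mul_sum]
  refine Fintype.sum_equiv σ _ _ fun j => ?_
  rw [← F_comp, ← single_comp σ j k]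
  rfl

theorem pairing_raise {P : (Fin N → ℤ) → Prop} (hP : SymmPred P) {k : ℕ} (hk : ShiftPred k P)
    {n : ℕ} (hkn : k ≤ n) (μ' y : Multiset ℕ) :
    (∑ u ∈ (Beta N (n - k)), by classical exact if P u then
      (F μ' u : ℚ) * ((∑ i, F y (u + Pi.single i (k : ℤ)) : ℤ) : ℚ) else 0) =
      S P n (k ::ₘ μ') y := by
  classical
  refine mul_left_cancel₀ (Nat.cast_ne_zero.mpr (Nat.factorial_pos N).ne' : (N ! : ℚ) ≠ 0) ?_
  rw [← nsmul_eq_mul, ← sum_BoxI, S, Finset.sum_filter, ← nsmul_eq_mul, ← sum_BoxI]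
  rotate_left
  · intro v σ
    refine if_congr (hP v σ) ?_ rfl
    rw [F_comp, F_comp, Int.cast_mul, Int.cast_mul, mul_mul_mul_comm, cast_sign_sq, one_mul]
  · intro v σ
    refine if_congr (hP v σ) ?_ rfl
    rw [F_comp, raise_comp, Int.cast_mul, Int.cast_mul, mul_mul_mul_comm, cast_sign_sq, one_mul]
  rw [← Finset.sum_filter, ← Finset.sum_filter]
  simp only [F_cons_apply, Int.cast_sum, Finset.mul_sum, Finset.sum_mul]
  rw [Finset.sum_comm, Finset.sum_comm (s := (BoxI N n).filter P)]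
  refine Finset.sum_congr rfl fun i _ => ?_
  refine Finset.sum_bij_ne_zero (fun u _ _ => u + Pi.single i (k : ℤ)) ?_ ?_ ?_ ?_
  · intro u hu hne
    obtain ⟨hu1, hu2⟩ := Finset.mem_filter.mp hu
    refine Finset.mem_filter.mpr ⟨mem_BoxI.mpr ⟨?_, ?_⟩, ?_⟩
    · have := (mem_BoxI.mp hu1).1.add_single (k := k) i
      rwa [Nat.sub_add_cancel hkn] at this
    · by_contra h
      exact hne (by rw [F_eq_zero_of_not_injective y h]; simp)
    · exact (hk (u + Pi.single i (k : ℤ)) i).mp (by rwa [add_sub_cancel_right])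
  · intro a _ _ b _ _ e
    exact add_right_cancel e
  · intro v hv hne
    obtain ⟨hv1, hv2⟩ := Finset.mem_filter.mp hv
    have hne' : F μ' (v - Pi.single i (k : ℤ)) ≠ 0 := fun h => hne (by rw [h]; simp)
    have hki : (k : ℤ) ≤ v i := by
      by_contra h
      exact hne' (F_eq_zero_of_neg μ' (i := i) (by simp; omega))
    refine ⟨v - Pi.single i (k : ℤ), Finset.mem_filter.mpr ⟨mem_BoxI.mpr
      ⟨(mem_BoxI.mp hv1).1.sub_single hkn hki, ?_⟩, (hk v i).mpr hv2⟩, ?_, sub_add_cancel _ _⟩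
    · by_contra h
      exact hne' (F_eq_zero_of_not_injective μ' h)
    · rwa [sub_add_cancel]
  · intro u _ _
    rw [add_sub_cancel_right]

theorem raise_eq {n k : ℕ} (hn : n ≤ N) (hk1 : 1 ≤ k) (hkn : k ≤ n) {y : Multiset ℕ} (hy : y ∈ Ps n)
    {u : Fin N → ℤ} (hu : u ∈ Beta N (n - k)) :
    ((∑ i, F y (u + Pi.single i (k : ℤ)) : ℤ) : ℚ) =
      (k : ℚ) * y.count k * F (y.erase k) u := by
  classical
  have key := eq_zero_of_pairing (n := n - k)
    (fun u => ((∑ i, F y (u + Pi.single i (k : ℤ)) : ℤ) : ℚ) - (k : ℚ) * y.count k * F (y.erase k) u)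
    (fun ν hν => ?_) hu
  · linarith
  simp only [sub_mul, Finset.sum_sub_distrib]
  have h1 := pairing_raise (P := fun _ : Fin N → ℤ => True) (fun _ _ => Iff.rfl) (k := k) (fun _ _ => Iff.rfl) hkn ν y
  simp only [if_true] at h1
  rw [S_true hn (cons_mem_Ps hk1 hkn hν) hy] at h1
  have e1 : ∑ u ∈ Beta N (n - k), ((∑ i, F y (u + Pi.single i (k : ℤ)) : ℤ) : ℚ) * F ν u =
      if k ::ₘ ν = y then (zNat (k ::ₘ ν) : ℚ) else 0 := by
    rw [← h1]
    exact Finset.sum_congr rfl fun u _ => mul_comm _ _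
  rw [e1]
  by_cases hmem : k ∈ y
  · have e2 : ∑ u ∈ Beta N (n - k), (k : ℚ) * y.count k * F (y.erase k) u * F ν u =
        (k : ℚ) * y.count k * (if y.erase k = ν then (zNat ν : ℚ) else 0) := by
      simp only [mul_assoc]
      rw [← Finset.mul_sum, ← Finset.mul_sum, col_orth (by omega) (erase_mem_Ps hy hmem) hν]
      congr 2
      split_ifs with h
      · rw [h]
      · rfl
    rw [e2]
    by_cases h : y.erase k = ν
    · subst h
      rw [Multiset.cons_erase hmem, if_pos rfl, if_pos rfl, zNat_erase hmem]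
      push_cast
      ring
    · rw [if_neg h, if_neg, mul_zero, sub_zero]
      intro e
      exact h (by rw [← e, Multiset.erase_cons_head])
  · rw [if_neg (show ¬ (k ::ₘ ν = y) from fun e => hmem (by rw [← e]; exact Multiset.mem_cons_self _ _))]
    simp [Multiset.count_eq_zero.mpr hmem]

/-- The recursion of the pairings over a stable set of labels. -/
theorem S_cons {P : (Fin N → ℤ) → Prop} (hP : SymmPred P) {k : ℕ} (hk : ShiftPred k P) {n : ℕ}
    (hn : n ≤ N) (hk1 : 1 ≤ k) (hkn : k ≤ n) (μ' : Multiset ℕ) {y : Multiset ℕ} (hy : y ∈ Ps n) :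
    S P n (k ::ₘ μ') y = (k : ℚ) * y.count k * S P (n - k) μ' (y.erase k) := by
  classical
  rw [← pairing_raise hP hk hkn, S, Finset.mul_sum, Finset.sum_filter]
  refine Finset.sum_congr rfl fun u hu => ?_
  split_ifs
  · rw [raise_eq hn hk1 hkn hy hu]; ring
  · rfl

end Cfsg.Agent.SymChar
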