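import Cfsg.Agent.Lib.Char.SymChar.Column

/-!
# Permutations by cycle type, and invariant colourings
-/

set_option autoImplicit false

namespace Cfsg.Agent.SymChar

open Finset Equiv
open scoped Nat

variable {N n : ℕ}

/-- The parts of the cycle partition. -/
def parts (g : Perm (Fin n)) : Multiset ℕ := g.partition.parts

theorem parts_eq (g : Perm (Fin n)) :
    parts g = g.cycleType + Multiset.replicate (n - g.support.card) 1 := by
  rw [parts, Perm.parts_partition, Fintype.card_fin]

theorem parts_mem (g : Perm (Fin n)) : parts g ∈ Ps n :=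
  mem_Ps.mpr ⟨by simpa [parts] using g.partition.parts_sum, fun _ ha => g.partition.parts_pos ha⟩

theorem filter_parts (g : Perm (Fin n)) : (parts g).filter (2 ≤ ·) = g.cycleType :=
  Perm.filter_parts_partition_eq_cycleType

theorem filter_not_parts {μ : Multiset ℕ} (h : μ ∈ Ps n) :
    μ.filter (fun a => ¬ 2 ≤ a) = Multiset.replicate (μ.count 1) 1 := by
  rw [← Multiset.filter_eq']
  refine Multiset.filter_congr fun a ha => ?_
  have := (mem_Ps.mp h).2 a ha
  omega

theorem sum_filter_parts {μ : Multiset ℕ} (h : μ ∈ Ps n) :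
    (μ.filter (2 ≤ ·)).sum + μ.count 1 = n := by
  have e := congrArg Multiset.sum (Multiset.filter_add_not (fun a => 2 ≤ a) μ)
  rw [Multiset.sum_add, filter_not_parts h, Multiset.sum_replicate, smul_eq_mul, mul_one,
    (mem_Ps.mp h).1] at e
  exact e

theorem parts_eq_iff {μ : Multiset ℕ} (h : μ ∈ Ps n) (g : Perm (Fin n)) :
    parts g = μ ↔ g.cycleType = μ.filter (2 ≤ ·) := by
  constructor
  · rintro rfl; exact (filter_parts g).symm
  · intro e
    rw [← Multiset.filter_add_not (fun a => 2 ≤ a) μ, filter_not_parts h, ← e, parts_eq]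
    have := sum_filter_parts h
    rw [← e, Perm.sum_cycleType] at this
    congr 2
    omega

theorem parts_one : parts (1 : Perm (Fin n)) = Multiset.replicate n 1 := by
  rw [parts_eq, Perm.cycleType_one, Perm.support_one]
  simp

theorem exists_parts {μ : Multiset ℕ} (h : μ ∈ Ps n) : ∃ g : Perm (Fin n), parts g = μ := by
  classical
  have hc := Equiv.Perm.card_of_cycleType (α := Fin n) (μ.filter (2 ≤ ·))
  have hle := sum_filter_parts h
  have hcond : (μ.filter (2 ≤ ·)).sum ≤ Fintype.card (Fin n) ∧ ∀ a ∈ μ.filter (2 ≤ ·), 2 ≤ a :=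
    ⟨by rw [Fintype.card_fin]; omega, fun a ha => (Multiset.mem_filter.mp ha).2⟩
  have hne := mt (Equiv.Perm.card_of_cycleType_eq_zero_iff (α := Fin n)).mp (not_not.mpr hcond)
  obtain ⟨g, hg⟩ := Finset.card_ne_zero.mp hne
  exact ⟨g, (parts_eq_iff h g).mpr (Finset.mem_filter.mp hg).2⟩

theorem prod_filter_parts {μ : Multiset ℕ} (h : μ ∈ Ps n) :
    (μ.filter (2 ≤ ·)).prod * (∏ a ∈ (μ.filter (2 ≤ ·)).toFinset, ((μ.filter (2 ≤ ·)).count a)!) *
      (μ.count 1)! = zNat μ := by
  classical
  have e1 : (μ.filter (2 ≤ ·)).prod = μ.prod := by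
    conv_rhs => rw [← Multiset.filter_add_not (fun a => 2 ≤ a) μ, Multiset.prod_add, filter_not_parts h]
    simp
  have hs : (μ.filter (2 ≤ ·)).toFinset = μ.toFinset.erase 1 := by
    ext a
    simp only [Multiset.mem_toFinset, Multiset.mem_filter, Finset.mem_erase]
    constructor
    · exact fun ⟨h1, h2⟩ => ⟨by omega, h1⟩
    · exact fun ⟨h1, h2⟩ => ⟨h2, by have := (mem_Ps.mp h).2 a h2; omega⟩
  rw [zNat, e1, hs, mul_assoc]
  congr 1
  rw [Finset.prod_congr rfl (g := fun a => (μ.count a)!) fun a ha => ?_]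
  · by_cases h1 : 1 ∈ μ.toFinset
    · exact Finset.prod_erase_mul _ (fun a => (μ.count a)!) h1
    · rw [Finset.erase_eq_of_notMem h1,
        Multiset.count_eq_zero.mpr fun e => h1 (Multiset.mem_toFinset.mpr e), Nat.factorial_zero, mul_one]
  · have h1 := Finset.mem_erase.mp ha
    have h2 := (mem_Ps.mp h).2 a (Multiset.mem_toFinset.mp h1.2)
    rw [Multiset.count_filter_of_pos (show 2 ≤ a by omega)]

theorem card_parts_mul {μ : Multiset ℕ} (h : μ ∈ Ps n) :
    (Finset.univ.filter fun g : Perm (Fin n) => parts g = μ).card * zNat μ = n ! := by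
  classical
  have hle := sum_filter_parts h
  have hcond : (μ.filter (2 ≤ ·)).sum ≤ Fintype.card (Fin n) ∧ ∀ a ∈ μ.filter (2 ≤ ·), 2 ≤ a :=
    ⟨by rw [Fintype.card_fin]; omega, fun a ha => (Multiset.mem_filter.mp ha).2⟩
  have hm := Equiv.Perm.card_of_cycleType_mul_eq (α := Fin n) (μ.filter (2 ≤ ·))
  rw [if_pos hcond, Fintype.card_fin, show n - (μ.filter (2 ≤ ·)).sum = μ.count 1 by omega] at hm
  rw [← hm, ← prod_filter_parts h]
  rw [Finset.filter_congr fun g _ => parts_eq_iff h g]
  ring

/-- Sums of functions of the cycle type. -/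
theorem sum_parts (Φ : Multiset ℕ → ℚ) :
    ∑ g : Perm (Fin n), Φ (parts g) = (n ! : ℚ) * ∑ μ ∈ Ps n, Φ μ / zNat μ := by
  classical
  rw [← Finset.sum_fiberwise_of_maps_to (g := parts) (t := Ps n) (fun g _ => parts_mem g), Finset.mul_sum]
  refine Finset.sum_congr rfl fun μ hμ => ?_
  rw [Finset.sum_congr rfl (g := fun _ => Φ μ) fun g hg => by rw [(Finset.mem_filter.mp hg).2],
    Finset.sum_const, nsmul_eq_mul, ← card_parts_mul hμ, Nat.cast_mul]
  have : (zNat μ : ℚ) ≠ 0 := by exact_mod_cast (zNat_pos (mem_Ps.mp hμ).2).ne'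
  field_simp

/-- The number of colourings of weighted points with prescribed totals. -/
def pcount (μ : Multiset ℕ) : (Fin N → ℤ) → ℤ :=
  μ.foldr shift fun a => if a = 0 then 1 else 0

theorem pcount_cons (k : ℕ) (μ : Multiset ℕ) (a : Fin N → ℤ) :
    pcount (k ::ₘ μ) a = ∑ i, pcount μ (a - Pi.single i (k : ℤ)) := by
  rw [pcount, Multiset.foldr_cons]; rfl

theorem F_eq_pcount (μ : Multiset ℕ) : ∀ v : Fin N → ℤ,
    F μ v = ∑ σ : Perm (Fin N), (Perm.sign σ : ℤ) * pcount μ (v - del N ∘ σ) := by
  induction μ using Multiset.induction_on with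
  | empty =>
    intro v
    rw [F_zero, Aint]
    refine Finset.sum_congr rfl fun σ _ => ?_
    simp only [pcount, Multiset.foldr_zero, sub_eq_zero]
    split_ifs <;> simp
  | cons k μ ih =>
    intro v
    simp only [F_cons_apply, pcount_cons, ih, Finset.mul_sum]
    rw [Finset.sum_comm]
    simp only [sub_right_comm]

theorem card_colour_fin : ∀ (m : ℕ) (wt : Fin m → ℕ) (a : Fin N → ℤ),
    ((Finset.univ.filter fun h : Fin m → Fin N =>
      ∀ i, (∑ o, if h o = i then (wt o : ℤ) else 0) = a i).card : ℤ) =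
      pcount (Finset.univ.val.map wt) a := by
  intro m
  induction m with
  | zero =>
    intro wt a
    simp only [Finset.univ_eq_empty, Finset.sum_empty, Finset.empty_val, Multiset.map_zero, pcount,
      Multiset.foldr_zero]
    split_ifs with h
    · subst h; simp
    · obtain ⟨i, hi⟩ := Function.ne_iff.mp h
      rw [Finset.card_eq_zero.mpr (Finset.filter_eq_empty_iff.mpr fun g _ hg => hi (hg i).symm)]
      simp
  | succ m ih =>
    intro wt a
    rw [Fin.univ_val_map, List.ofFn_succ, ← Multiset.cons_coe, pcount_cons]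
    simp only [← Fin.univ_val_map, ← ih]
    rw [← Nat.cast_sum]
    congr 1
    rw [← Finset.card_sigma]
    refine Finset.card_bij (fun h _ => ⟨h 0, Fin.tail h⟩) ?_ ?_ ?_
    · intro h hh
      simp only [Finset.mem_filter, Finset.mem_univ, true_and, Finset.mem_sigma] at hh ⊢
      intro i
      have := hh i
      rw [Fin.sum_univ_succ] at this
      show (∑ o : Fin m, if h o.succ = i then (wt o.succ : ℤ) else 0) = _
      simp only [Pi.sub_apply, Pi.single_apply]
      by_cases h0 : h 0 = i
      · rw [if_pos h0] at this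
        rw [if_pos h0.symm]
        linarith
      · rw [if_neg h0] at this
        rw [if_neg (Ne.symm h0)]
        linarith
    · intro h _ h' _ e
      obtain ⟨e1, e2⟩ := Sigma.mk.inj_iff.mp e
      rw [← Fin.cons_self_tail h, ← Fin.cons_self_tail h', e1, eq_of_heq e2]
    · rintro ⟨c, h⟩ hh
      simp only [Finset.mem_filter, Finset.mem_univ, true_and, Finset.mem_sigma] at hh
      refine ⟨Fin.cons c h, Finset.mem_filter.mpr ⟨Finset.mem_univ _, fun i => ?_⟩, ?_⟩
      · rw [Fin.sum_univ_succ]
        simp only [Fin.cons_zero, Fin.cons_succ]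
        rw [hh i]
        simp only [Pi.sub_apply, Pi.single_apply, eq_comm (a := i)]
        ring
      · simp [Fin.tail_cons]

theorem card_colour {O : Type} [Fintype O] [DecidableEq O] (wt : O → ℕ) (a : Fin N → ℤ) :
    ((Finset.univ.filter fun h : O → Fin N =>
      ∀ i, (∑ o, if h o = i then (wt o : ℤ) else 0) = a i).card : ℤ) =
      pcount (Finset.univ.val.map wt) a := by
  classical
  have e := Fintype.equivFin O
  have h1 : (Finset.univ.val.map wt) = Finset.univ.val.map (wt ∘ e.symm) := by
    rw [← Multiset.map_map, show (Finset.univ : Finset (Fin _)).val.map e.symm = Finset.univ.val from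
      congrArg Finset.val (Finset.map_univ_equiv e.symm)]
  rw [h1, ← card_colour_fin]
  congr 1
  refine Finset.card_equiv (Equiv.arrowCongr e (Equiv.refl _)) fun h => ?_
  simp only [Finset.mem_filter, Finset.mem_univ, true_and, Equiv.arrowCongr_apply, Equiv.coe_refl,
    Function.comp_apply, id_eq]
  refine forall_congr' fun i => ?_
  rw [← Equiv.sum_comp e.symm (fun o => if h o = i then (wt o : ℤ) else 0)]

/-- The orbit of a point: its cycle, or the point itself. -/
def orb (g : Perm (Fin n)) (x : Fin n) : g.cycleFactorsFinset ⊕ {y : Fin n // g y = y} :=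
  if h : g x = x then Sum.inr ⟨x, h⟩
  else Sum.inl ⟨g.cycleOf x, Perm.cycleOf_mem_cycleFactorsFinset_iff.mpr (Perm.mem_support.mpr h)⟩

theorem orb_fixed {g : Perm (Fin n)} {x : Fin n} (h : g x = x) : orb g x = Sum.inr ⟨x, h⟩ := dif_pos h

theorem orb_moved {g : Perm (Fin n)} {x : Fin n} (h : g x ≠ x) :
    orb g x = Sum.inl ⟨g.cycleOf x, Perm.cycleOf_mem_cycleFactorsFinset_iff.mpr (Perm.mem_support.mpr h)⟩ :=
  dif_neg h

/-- The sizes of the orbits. -/
def orbSize (g : Perm (Fin n)) : g.cycleFactorsFinset ⊕ {y : Fin n // g y = y} → ℕ :=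
  Sum.elim (fun c => (c : Perm (Fin n)).support.card) fun _ => 1

theorem orb_eq_inl_iff {g : Perm (Fin n)} {c : g.cycleFactorsFinset} {x : Fin n} :
    orb g x = Sum.inl c ↔ x ∈ (c : Perm (Fin n)).support := by
  constructor
  · intro h
    by_cases hx : g x = x
    · rw [orb_fixed hx] at h; cases h
    · rw [orb_moved hx] at h
      have e := congrArg Subtype.val (Sum.inl.inj h)
      simp only at e
      rw [← e, Perm.mem_support_cycleOf_iff]
      exact ⟨Perm.SameCycle.refl g x, Perm.mem_support.mpr hx⟩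
  · intro h
    have hc : (c : Perm (Fin n)) = g.cycleOf x := Perm.cycle_is_cycleOf h c.2
    have hx : g x ≠ x := Perm.mem_support.mp (Perm.mem_cycleFactorsFinset_support_le c.2 h)
    rw [orb_moved hx]
    exact congrArg Sum.inl (Subtype.ext hc.symm)

theorem orb_eq_inr_iff {g : Perm (Fin n)} {y : {y : Fin n // g y = y}} {x : Fin n} :
    orb g x = Sum.inr y ↔ x = y := by
  constructor
  · intro h
    by_cases hx : g x = x
    · rw [orb_fixed hx] at h
      exact congrArg Subtype.val (Sum.inr.inj h)
    · rw [orb_moved hx] at h; cases h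
  · rintro rfl
    rw [orb_fixed y.2]

theorem card_orb_fibre (g : Perm (Fin n)) (o : g.cycleFactorsFinset ⊕ {y : Fin n // g y = y}) :
    (Finset.univ.filter fun x => orb g x = o).card = orbSize g o := by
  rcases o with c | y
  · rw [orbSize, Sum.elim_inl]
    congr 1
    ext x
    simp [orb_eq_inl_iff]
  · rw [orbSize, Sum.elim_inr, Finset.card_eq_one]
    exact ⟨y, by ext x; simp [orb_eq_inr_iff]⟩

theorem orb_surjective (g : Perm (Fin n)) : Function.Surjective (orb g) := by
  intro o
  have h := card_orb_fibre g o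
  have hpos : 0 < orbSize g o := by
    rcases o with c | y
    · rw [orbSize, Sum.elim_inl, Finset.card_pos, Finset.nonempty_iff_ne_empty, ne_eq,
        Perm.support_eq_empty_iff]
      exact ((Perm.mem_cycleFactorsFinset_iff.mp c.2).1).ne_one
    · exact one_pos
  obtain ⟨x, hx⟩ := Finset.card_pos.mp (h ▸ hpos)
  exact ⟨x, (Finset.mem_filter.mp hx).2⟩

theorem orb_apply (g : Perm (Fin n)) (x : Fin n) : orb g (g x) = orb g x := by
  by_cases hx : g x = x
  · rw [hx]
  · rw [orb_moved hx, orb_eq_inl_iff, Perm.mem_support_cycleOf_iff]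
    exact ⟨Perm.sameCycle_apply_right.mpr (Perm.SameCycle.refl g x), Perm.mem_support.mpr hx⟩

theorem invariant_const {α : Type*} {g : Perm (Fin n)} {f : Fin n → α} (hf : ∀ x, f (g x) = f x)
    {x y : Fin n} (h : g.SameCycle x y) : f x = f y := by
  obtain ⟨i, -, rfl⟩ := h.exists_pow_eq'
  induction i with
  | zero => simp
  | succ i ih => rw [pow_succ', Perm.mul_apply, hf]; exact ih ⟨i, by simp⟩

theorem invariant_factor {α : Type*} {g : Perm (Fin n)} {f : Fin n → α} (hf : ∀ x, f (g x) = f x)
    {x y : Fin n} (h : orb g x = orb g y) : f x = f y := by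
  by_cases hy : g y = y
  · rw [orb_fixed hy, orb_eq_inr_iff] at h
    rw [h]
  · rw [orb_moved hy, orb_eq_inl_iff, Perm.mem_support_cycleOf_iff] at h
    exact (invariant_const hf h.1).symm

theorem map_orbSize (g : Perm (Fin n)) :
    (Finset.univ : Finset (g.cycleFactorsFinset ⊕ {y : Fin n // g y = y})).val.map (orbSize g) = parts g := by
  rw [← Finset.univ_disjSum_univ, Finset.val_disjSum, Multiset.disjSum, Multiset.map_add, Multiset.map_map,
    Multiset.map_map, parts_eq]
  congr 1
  · rw [Perm.cycleType_def]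
    simp only [Finset.univ_eq_attach, Finset.attach_val]
    conv_rhs => rw [← Multiset.attach_map_val g.cycleFactorsFinset.val, Multiset.map_map]
    rfl
  · have : orbSize g ∘ Sum.inr = fun _ => 1 := rfl
    rw [this, Multiset.map_const', ← Finset.card_def, Finset.card_univ, Fintype.card_subtype]
    congr 1
    have h := Finset.card_compl g.support
    rw [Fintype.card_fin] at h
    rw [← h]
    congr 1
    ext x
    simp

/-- Colourings with given totals. -/
abbrev Colour (n : ℕ) (a : Fin N → ℤ) : Type :=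
  {f : Fin n → Fin N // ∀ i, ((Finset.univ.filter fun x => f x = i).card : ℤ) = a i}

theorem card_fixed_colour (g : Perm (Fin n)) (a : Fin N → ℤ) :
    (Nat.card {f : Colour n a // ∀ x, f.1 (g x) = f.1 x} : ℤ) = pcount (parts g) a := by
  classical
  rw [← map_orbSize, ← card_colour, Nat.card_eq_fintype_card, ← Finset.card_univ]
  congr 1
  symm
  have key : ∀ (h : g.cycleFactorsFinset ⊕ {y : Fin n // g y = y} → Fin N) (i : Fin N),
      ((Finset.univ.filter fun x => h (orb g x) = i).card : ℤ) =
        ∑ o, if h o = i then (orbSize g o : ℤ) else 0 := by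
    intro h i
    rw [Finset.card_eq_sum_card_fiberwise (f := orb g) (t := Finset.univ) fun x _ => Finset.mem_univ _,
      Nat.cast_sum]
    refine Finset.sum_congr rfl fun o _ => ?_
    split_ifs with ho
    · rw [← card_orb_fibre g o]
      congr 2
      ext x
      simp only [Finset.mem_filter, Finset.mem_univ, true_and]
      exact ⟨And.right, fun e => ⟨by rw [e, ho], e⟩⟩
    · rw [Nat.cast_eq_zero, Finset.card_eq_zero, Finset.filter_eq_empty_iff]
      intro x hx e
      exact ho (e ▸ (Finset.mem_filter.mp hx).2)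
  refine Finset.card_bij (fun h hh => (⟨⟨h ∘ orb g, fun i => by
    rw [← (Finset.mem_filter.mp hh).2 i, ← key]; rfl⟩, fun x => congrArg h (orb_apply g x)⟩ :
      {f : Colour n a // ∀ x, f.1 (g x) = f.1 x})) (fun h hh => Finset.mem_univ _) ?_ ?_
  · intro h _ h' _ e
    refine funext fun o => ?_
    obtain ⟨x, rfl⟩ := orb_surjective g o
    exact congr_fun (congrArg Subtype.val (congrArg Subtype.val e)) x
  · rintro ⟨⟨f, hf⟩, hfix⟩ -
    have e : (f ∘ Function.surjInv (orb_surjective g)) ∘ orb g = f := by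
      funext x
      exact invariant_factor hfix (Function.surjInv_eq (orb_surjective g) _)
    refine ⟨f ∘ Function.surjInv (orb_surjective g), Finset.mem_filter.mpr ⟨Finset.mem_univ _, fun i => ?_⟩,
      Subtype.ext (Subtype.ext e)⟩
    rw [← key]
    exact (congrArg (fun u : Fin n → Fin N => ((Finset.univ.filter fun x => u x = i).card : ℤ)) e).trans (hf i)

end Cfsg.Agent.SymChar
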