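import Cfsg.Agent.Lib.Char.SymChar.Chars
import Cfsg.Agent.Lib.Char.SymChar.Cores
import Cfsg.Agent.Lib.Char.DegreeDvd

/-!
# Degrees of labels and their valuations
-/

set_option autoImplicit false

namespace Cfsg.Agent.SymChar

open Finset Equiv Cfsg Polynomial
open scoped Nat

variable {N n p : ℕ}

/-- The falling power on integers. -/
noncomputable def ff (j : ℕ) (x : ℤ) : ℤ := (descPochhammer ℤ j).eval x

theorem ff_succ_right (j : ℕ) (x : ℤ) : ff (j + 1) x = ff j x * (x - j) := descPochhammer_succ_eval j x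

theorem ff_succ_left (j : ℕ) (x : ℤ) : ff (j + 1) x = x * ff j (x - 1) := by
  simp [ff, descPochhammer_succ_left]

theorem ff_nat (j m : ℕ) : ff j (m : ℤ) = m.descFactorial j := descPochhammer_eval_eq_descFactorial ℤ m j

/-- The determinant of the falling powers. -/
noncomputable def Dff (v : Fin N → ℤ) : ℤ :=
  ∑ σ : Perm (Fin N), (Perm.sign σ : ℤ) * ∏ j : Fin N, ff j (v (σ j))

theorem Dff_eq (v : Fin N → ℤ) : Dff v = ∏ i : Fin N, ∏ j ∈ Finset.Ioi i, (v j - v i) := by
  rw [← Matrix.det_vandermonde, Matrix.det_eval_matrixOfPolynomials_eq_det_vandermonde v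
    (fun i : Fin N => descPochhammer ℤ i) (fun i => descPochhammer_natDegree ℤ i)
    (fun i => monic_descPochhammer ℤ i), Matrix.det_apply]
  simp [Dff, ff, Units.smul_def]

theorem sum_mul_Dff (v : Fin N → ℤ) :
    ∑ i, v i * Dff (v - Pi.single i 1) = (∑ i, v i - ∑ i, del N i) * Dff v := by
  classical
  have e : ∀ i, v i * Dff (v - Pi.single i 1) =
      ∑ σ : Perm (Fin N), (Perm.sign σ : ℤ) * ((v i - del N (σ.symm i)) * ∏ j : Fin N, ff j (v (σ j))) := by
    intro i
    rw [Dff, Finset.mul_sum]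
    refine Finset.sum_congr rfl fun σ _ => ?_
    rw [mul_left_comm]
    congr 1
    rw [← Finset.mul_prod_erase Finset.univ _ (Finset.mem_univ (σ.symm i)),
      ← Finset.mul_prod_erase Finset.univ (fun j : Fin N => ff j (v (σ j))) (Finset.mem_univ (σ.symm i))]
    rw [Finset.prod_congr rfl (g := fun j : Fin N => ff j (v (σ j))) fun j hj => by
      have hne : σ j ≠ i := fun h => (Finset.mem_erase.mp hj).1 (by rw [← h, Equiv.symm_apply_apply])
      simp [Pi.single_eq_of_ne hne]]
    rw [← mul_assoc, ← mul_assoc]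
    congr 1
    simp only [Pi.sub_apply, Equiv.apply_symm_apply, Pi.single_eq_same, del]
    rw [← ff_succ_left, ff_succ_right, mul_comm]
  simp only [e]
  rw [Finset.sum_comm, Dff, Finset.mul_sum]
  refine Finset.sum_congr rfl fun σ _ => ?_
  rw [← Finset.mul_sum, ← Finset.sum_mul, Finset.sum_sub_distrib, Equiv.sum_comp σ.symm (del N)]
  ring

theorem Dff_del : Dff (del N) = ∏ i : Fin N, (((i : ℕ)! : ℕ) : ℤ) := by
  classical
  rw [Dff, Finset.sum_eq_single (1 : Perm (Fin N))]
  · simp [del, ff_nat, Nat.descFactorial_self]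
  · intro σ _ hσ
    have hex : ∃ j : Fin N, (σ j : ℕ) < (j : ℕ) := by
      by_contra hno
      push Not at hno
      apply hσ
      have hs : ∑ j : Fin N, ((σ j : ℕ)) = ∑ j : Fin N, ((j : ℕ)) := Equiv.sum_comp σ (fun j : Fin N => (j : ℕ))
      have h := (Finset.sum_eq_sum_iff_of_le fun j _ => hno j).mp hs.symm
      exact Equiv.ext fun j => Fin.ext (h j (Finset.mem_univ j)).symm
    obtain ⟨j, hj⟩ := hex
    rw [Finset.prod_eq_zero (Finset.mem_univ j), mul_zero]
    simp only [del, ff_nat]
    rw [Nat.descFactorial_of_lt hj, Nat.cast_zero]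
  · simp

theorem Dff_comp (v : Fin N → ℤ) (τ : Perm (Fin N)) : Dff (v ∘ τ) = (Perm.sign τ : ℤ) * Dff v := by
  rw [Dff, Dff, Finset.mul_sum]
  refine Fintype.sum_equiv (Equiv.mulLeft τ) _ _ fun σ => ?_
  simp only [Equiv.coe_mulLeft, Perm.mul_apply, Function.comp_apply, map_mul, Units.val_mul]
  rw [← mul_assoc, ← mul_assoc, sign_mul_self', one_mul]

theorem F_one_mul_factorials : ∀ (n : ℕ) {v : Fin N → ℤ}, Adm n v →
    F (Multiset.replicate n 1) v * ∏ i, (((v i).toNat ! : ℕ) : ℤ) = (n ! : ℤ) * Dff v := by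
  classical
  intro n
  induction n with
  | zero =>
    intro v hv
    by_cases hinj : Function.Injective v
    · obtain ⟨σ, hσ⟩ := exists_sorted hinj
      have hm : v ∘ σ ∈ Beta N 0 := mem_Beta.mpr ⟨hv.comp σ, hσ⟩
      have hd : v ∘ σ = del N := by
        have h1 := pushed_one hσ
        have h2 := pushed_le one_pos hσ.injective (fun i => (mem_Beta.mp hm).1.1 i)
        rw [h1] at h2
        have hs := (mem_Beta.mp hm).1.2
        rw [Nat.cast_zero, zero_add] at hs
        exact funext fun i => ((Finset.sum_eq_sum_iff_of_le fun j _ => h2 j).mp hs.symm i (Finset.mem_univ i)).symm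
      have hv' : v = del N ∘ σ.symm := by rw [← hd]; funext i; simp
      rw [hv', F_comp, Dff_comp, Dff_del, Multiset.replicate_zero, F_zero,
        Aint_sorted (fun a b h => by simpa [del] using h) (fun a b h => by simpa [del] using h), if_pos rfl]
      simp only [Function.comp_apply, Nat.factorial_zero, Nat.cast_one, mul_one, one_mul]
      rw [Equiv.prod_comp σ.symm (fun i => (((del N i).toNat ! : ℕ) : ℤ))]
      simp [del]
    · rw [F_eq_zero_of_not_injective _ hinj, Dff_eq]
      obtain ⟨i, j, hij, hne⟩ := Function.not_injective_iff.mp hinj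
      have h0 : ∏ i : Fin N, ∏ j ∈ Finset.Ioi i, (v j - v i) = 0 := by
        rcases lt_or_gt_of_ne hne with h | h
        · exact Finset.prod_eq_zero (Finset.mem_univ i) (Finset.prod_eq_zero (Finset.mem_Ioi.mpr h) (by rw [hij, sub_self]))
        · exact Finset.prod_eq_zero (Finset.mem_univ j) (Finset.prod_eq_zero (Finset.mem_Ioi.mpr h) (by rw [hij, sub_self]))
      rw [h0, zero_mul, mul_zero]
  | succ n ih =>
    intro v hv
    rw [Multiset.replicate_succ, F_cons_apply, Finset.sum_mul]
    have e : ∀ i, F (Multiset.replicate n 1) (v - Pi.single i ((1 : ℕ) : ℤ)) * ∏ l, (((v l).toNat ! : ℕ) : ℤ) =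
        (n ! : ℤ) * (v i * Dff (v - Pi.single i 1)) := by
      intro i
      rw [Nat.cast_one]
      rcases eq_or_lt_of_le (hv.1 i) with h0 | h0
      · rw [F_eq_zero_of_neg _ (i := i) (by simp [← h0]), ← h0]
        ring
      · set u : Fin N → ℤ := v - Pi.single i 1 with hu
        have hadm : Adm n u := by
          refine ⟨fun l => ?_, ?_⟩
          · by_cases hl : l = i
            · subst hl; simp [hu]; omega
            · simp [hu, Pi.single_eq_of_ne hl, hv.1 l]
          · simp only [hu, Pi.sub_apply, Finset.sum_sub_distrib, Finset.sum_pi_single', Finset.mem_univ, if_true]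
            have := hv.2
            push_cast at this
            linarith
        have hfac : ∏ l, (((v l).toNat ! : ℕ) : ℤ) = v i * ∏ l, (((u l).toNat ! : ℕ) : ℤ) := by
          rw [← Finset.mul_prod_erase Finset.univ _ (Finset.mem_univ i),
            ← Finset.mul_prod_erase Finset.univ (fun l => (((u l).toNat ! : ℕ) : ℤ)) (Finset.mem_univ i),
            Finset.prod_congr rfl (g := fun l => (((u l).toNat ! : ℕ) : ℤ)) fun l hl => by
              simp [hu, Pi.single_eq_of_ne (Finset.mem_erase.mp hl).1], ← mul_assoc]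
          congr 1
          obtain ⟨m, hm⟩ : ∃ m : ℕ, v i = ((m + 1 : ℕ) : ℤ) := ⟨(v i).toNat - 1, by omega⟩
          rw [show u i = (m : ℤ) by simp [hu, hm], hm, Int.toNat_natCast, Int.toNat_natCast, Nat.factorial_succ]
          push_cast
          ring
        rw [hfac, mul_left_comm, ih hadm, mul_left_comm]
    simp only [e]
    rw [← Finset.mul_sum, sum_mul_Dff, hv.2, Nat.factorial_succ]
    push_cast
    ring

/-- The product of the differences. -/
def delT (T : Finset ℕ) : ℕ := ∏ a ∈ T, ∏ b ∈ T.filter (· < a), (a - b)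

/-- The product of the factorials. -/
def facT (T : Finset ℕ) : ℕ := ∏ a ∈ T, a !

/-- The exponent of `p` in the differences. -/
def vd (p : ℕ) (T : Finset ℕ) : ℕ := ∑ a ∈ T, ∑ b ∈ T.filter (· < a), (a - b).factorization p

/-- The exponent of `p` in the factorials. -/
def vf (p : ℕ) (T : Finset ℕ) : ℕ := ∑ a ∈ T, (a !).factorization p

theorem delT_factor (T : Finset ℕ) : (delT T).factorization p = vd p T ∧ delT T ≠ 0 := by
  have h0 : ∀ a, ∀ b ∈ T.filter (· < a), a - b ≠ 0 := fun a b hb => by
    have := (Finset.mem_filter.mp hb).2; omega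
  have h1 : ∀ a ∈ T, ∏ b ∈ T.filter (· < a), (a - b) ≠ 0 := fun a _ =>
    Finset.prod_ne_zero_iff.mpr (h0 a)
  refine ⟨?_, Finset.prod_ne_zero_iff.mpr h1⟩
  rw [delT, Nat.factorization_prod h1, Finset.sum_apply', vd]
  refine Finset.sum_congr rfl fun a _ => ?_
  rw [Nat.factorization_prod (h0 a), Finset.sum_apply']

theorem facT_factor (T : Finset ℕ) : (facT T).factorization p = vf p T ∧ facT T ≠ 0 := by
  refine ⟨?_, Finset.prod_ne_zero_iff.mpr fun a _ => Nat.factorial_ne_zero a⟩
  rw [facT, Nat.factorization_prod (fun a _ => Nat.factorial_ne_zero a), Finset.sum_apply', vf]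

theorem charDegree_psi {v : Fin N → ℤ} (hv : v ∈ Beta N n) :
    (charDegree (psi (n := n) v) : ℤ) = F (Multiset.replicate n 1) v := by
  have h := F_degree_pos hv
  rw [charDegree, psi_one, Complex.intCast_re]
  obtain ⟨d, hd⟩ : ∃ d : ℕ, F (Multiset.replicate n 1) v = d := ⟨_, (Int.toNat_of_nonneg h.le).symm⟩
  rw [hd, Int.cast_natCast, Nat.floor_natCast]

/-- The set of the entries of a label. -/
def entries (v : Fin N → ℤ) : Finset ℕ := Finset.univ.image fun i => (v i).toNat

theorem toNat_strictMono {v : Fin N → ℤ} (hv : v ∈ Beta N n) : StrictMono fun i => (v i).toNat := by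
  intro a b hab
  have := (mem_Beta.mp hv).2 hab
  have := (mem_Beta.mp hv).1.1 a
  simp only
  omega

theorem degree_mul_facT {v : Fin N → ℤ} (hv : v ∈ Beta N n) :
    charDegree (psi (n := n) v) * facT (entries v) = n ! * delT (entries v) := by
  have h := F_one_mul_factorials n (mem_Beta.mp hv).1
  rw [← charDegree_psi hv, Dff_eq] at h
  have hm := toNat_strictMono hv
  have e1 : (facT (entries v) : ℤ) = ∏ i, (((v i).toNat ! : ℕ) : ℤ) := by
    rw [facT, entries, Finset.prod_image hm.injective.injOn]; push_cast; rfl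
  have e2 : (delT (entries v) : ℤ) = ∏ i : Fin N, ∏ j ∈ Finset.Ioi i, (v j - v i) := by
    rw [delT, entries, Finset.prod_image hm.injective.injOn]
    push_cast
    rw [Finset.prod_comm' (t' := Finset.univ) (s' := fun j => Finset.Iio j) (by simp)]
    refine Finset.prod_congr rfl fun j _ => ?_
    have e : (Finset.univ.image fun i => (v i).toNat).filter (· < (v j).toNat) =
        (Finset.Iio j).image fun i => (v i).toNat := by
      ext x
      simp only [Finset.mem_filter, Finset.mem_image, Finset.mem_univ, true_and, Finset.mem_Iio]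
      constructor
      · rintro ⟨⟨i, rfl⟩, hlt⟩; exact ⟨i, hm.lt_iff_lt.mp hlt, rfl⟩
      · rintro ⟨i, hi, rfl⟩; exact ⟨⟨i, rfl⟩, hm hi⟩
    rw [e, Finset.prod_image hm.injective.injOn]
    refine Finset.prod_congr rfl fun i hi => ?_
    have h1 := hm (Finset.mem_Iio.mp hi)
    have h2 := (mem_Beta.mp hv).1.1 i
    simp only at h1
    rw [Nat.cast_sub h1.le]
    have := (mem_Beta.mp hv).1.1 j
    omega
  rw [← e1, ← e2] at h
  exact_mod_cast h

theorem vf_entries (hp : p.Prime) {v : Fin N → ℤ} (hv : v ∈ Beta N n) :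
    (charDegree (psi (n := n) v)).factorization p + vf p (entries v) =
      (n !).factorization p + vd p (entries v) := by
  have h := degree_mul_facT hv
  obtain ⟨h1, h2⟩ := delT_factor (p := p) (entries v)
  obtain ⟨h3, h4⟩ := facT_factor (p := p) (entries v)
  have hne : charDegree (psi (n := n) v) ≠ 0 := by
    intro e
    have := charDegree_psi hv
    rw [e, Nat.cast_zero] at this
    exact (F_degree_pos hv).ne this
  have h5 := congrArg (fun q => q.factorization p) h
  simp only [Nat.factorization_mul hne h4, Nat.factorization_mul (Nat.factorial_ne_zero n) h2,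
    Finsupp.add_apply, h1, h3] at h5
  exact h5

theorem charDegree_dvd {v : Fin N → ℤ} (hv : v ∈ Beta N n) : charDegree (psi (n := n) v) ∣ n ! := by
  classical
  have h := Char.deg_dvd_index_abelian_normal (isIrrCharacter_psi hv) (⊥ : Subgroup (Perm (Fin n)))
    (fun a b => Subsingleton.elim _ _)
  rwa [Subgroup.index_bot, Nat.card_perm, Nat.card_fin] at h

/-- A set of naturals is the set of entries of a label. -/
theorem exists_entries {c m : ℕ} {T : Finset ℕ} (hT : T ∈ Sets c m) :
    ∃ u ∈ Beta c m, entries u = T := by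
  obtain ⟨h1, h2⟩ := mem_Sets.mp hT
  refine ⟨fun i => (T.orderEmbOfFin h1 i : ℕ), mem_Beta.mpr ⟨⟨fun i => Int.natCast_nonneg _, ?_⟩, ?_⟩, ?_⟩
  · have e : ∑ i, T.orderEmbOfFin h1 i = tot T := by
      conv_rhs => rw [tot, ← Finset.map_orderEmbOfFin_univ T h1, Finset.sum_map]
      rfl
    have hd : ∑ i, del c i = ((tot (Finset.range c) : ℕ) : ℤ) := by
      rw [tot, Finset.sum_range]; push_cast; rfl
    rw [hd, ← Nat.cast_sum, e, h2]
    push_cast
    ring
  · exact fun a b hab => Int.ofNat_lt.mpr ((T.orderEmbOfFin h1).strictMono hab)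
  · ext x
    conv_rhs => rw [← Finset.map_orderEmbOfFin_univ T h1]
    simp [entries, Finset.mem_map]

theorem vd_le_vf (hp : p.Prime) {c m : ℕ} {T : Finset ℕ} (hT : T ∈ Sets c m) :
    vd p T ≤ vf p T ∧ vf p T ≤ vd p T + (m !).factorization p := by
  obtain ⟨u, hu, rfl⟩ := exists_entries hT
  have h := vf_entries hp hu
  have hd := (Nat.factorization_le_iff_dvd (ne_zero_of_dvd_ne_zero (Nat.factorial_ne_zero m) (charDegree_dvd hu))
    (Nat.factorial_ne_zero m)).mpr (charDegree_dvd hu) p
  omega

theorem card_pairs : ∀ T : Finset ℕ, ∑ a ∈ T, (T.filter (· < a)).card = tot (Finset.range T.card) := by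
  intro T
  induction T using Finset.induction_on_max with
  | empty => simp [tot]
  | insert a T hlt ih =>
    have hna : a ∉ T := fun h => lt_irrefl _ (hlt a h)
    rw [Finset.sum_insert hna, Finset.card_insert_of_notMem hna, tot, Finset.sum_range_succ]
    have e1 : (insert a T).filter (· < a) = T := by
      ext x; simp only [Finset.mem_filter, Finset.mem_insert]
      exact ⟨fun h => h.1.resolve_left (fun e => by omega), fun h => ⟨Or.inr h, hlt x h⟩⟩
    have e2 : ∀ b ∈ T, (insert a T).filter (· < b) = T.filter (· < b) := fun b hb => by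
      rw [Finset.filter_insert, if_neg (by have := hlt b hb; omega)]
    rw [e1, Finset.sum_congr rfl fun b hb => by rw [e2 b hb], ih, tot]
    ring

/-- The runner decomposition of the valuations. -/
theorem vd_vf_runners (hp : p.Prime) {T : Finset ℕ} (f : Fin p → Finset ℕ)
    (hT : ∀ x, x ∈ T ↔ ∃ r : Fin p, ∃ q ∈ f r, x = p * q + (r : ℕ)) :
    vf p T = ∑ r, (tot (f r) + vf p (f r)) ∧
      vd p T = ∑ r, (tot (Finset.range (f r).card) + vd p (f r)) := by
  classical
  haveI := Fact.mk hp
  set val : (Σ _ : Fin p, ℕ) → ℕ := fun x => p * x.2 + (x.1 : ℕ) with hval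
  have hinj : Function.Injective val := by
    rintro ⟨r, q⟩ ⟨r', q'⟩ e
    simp only [hval] at e
    have h1 := congrArg (· % p) e
    simp only [Nat.mul_add_mod, Nat.mod_eq_of_lt r.isLt, Nat.mod_eq_of_lt r'.isLt] at h1
    obtain rfl : r = r' := Fin.ext h1
    rw [Nat.eq_of_mul_eq_mul_left hp.pos (Nat.add_right_cancel e)]
  have hTe : T = (Finset.univ.sigma f).map ⟨val, hinj⟩ := by
    ext x
    rw [hT, Finset.mem_map]
    simp only [Finset.mem_sigma, Finset.mem_univ, true_and, Function.Embedding.coeFn_mk, hval, Sigma.exists]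
    exact ⟨fun ⟨r, q, hq, e⟩ => ⟨r, q, hq, e.symm⟩, fun ⟨r, q, hq, e⟩ => ⟨r, q, hq, e.symm⟩⟩
  constructor
  · rw [vf, hTe, Finset.sum_map, Finset.sum_sigma]
    refine Finset.sum_congr rfl fun r _ => ?_
    rw [tot, vf, ← Finset.sum_add_distrib]
    refine Finset.sum_congr rfl fun q _ => ?_
    simp only [Function.Embedding.coeFn_mk, hval]
    rw [Nat.factorization_def _ hp, Nat.factorization_def _ hp, padicValNat_factorial_mul_add q r.isLt,
      padicValNat_factorial_mul, add_comm]
  · rw [vd, hTe, Finset.sum_map, Finset.sum_sigma]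
    refine Finset.sum_congr rfl fun r _ => ?_
    rw [← card_pairs, vd, ← Finset.sum_add_distrib]
    refine Finset.sum_congr rfl fun q _ => ?_
    simp only [Finset.filter_map, Finset.sum_map, Function.Embedding.coeFn_mk]
    rw [Finset.card_eq_sum_ones, ← Finset.sum_add_distrib]
    rw [← Finset.sum_filter_add_sum_filter_not _ (fun x : (Σ _ : Fin p, ℕ) => x.1 = r)]
    have hz : ∀ x ∈ ((Finset.univ.sigma f).filter (fun x => val x < val ⟨r, q⟩)).filter (fun x => ¬ x.1 = r),
        (val ⟨r, q⟩ - val x).factorization p = 0 := by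
      intro x hx
      obtain ⟨hx1, hne⟩ := Finset.mem_filter.mp hx
      obtain ⟨-, hlt⟩ := Finset.mem_filter.mp hx1
      refine Nat.factorization_eq_zero_of_not_dvd fun hd => hne ?_
      have h := (Nat.modEq_iff_dvd' hlt.le).mpr hd
      simp only [hval, Nat.ModEq, Nat.mul_add_mod, Nat.mod_eq_of_lt x.1.isLt, Nat.mod_eq_of_lt r.isLt] at h
      exact Fin.ext h
    simp only [Function.comp_apply]
    rw [Finset.sum_eq_zero hz, add_zero]
    refine Finset.sum_nbij' (fun x => x.2) (fun b => ⟨r, b⟩) ?_ ?_ ?_ ?_ ?_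
    · intro x hx
      simp only [Finset.mem_filter, Finset.mem_sigma, Finset.mem_univ, true_and, hval, Function.comp_apply] at hx ⊢
      obtain ⟨⟨h1, h2⟩, h3⟩ := hx
      rw [h3] at h1 h2
      exact ⟨h1, Nat.lt_of_mul_lt_mul_left (Nat.lt_of_add_lt_add_right h2)⟩
    · intro b hb
      simp only [Finset.mem_filter, Finset.mem_sigma, Finset.mem_univ, true_and, hval, Function.comp_apply] at hb ⊢
      exact ⟨⟨hb.1, Nat.add_lt_add_right (Nat.mul_lt_mul_of_pos_left hb.2 hp.pos) _⟩, trivial⟩
    · rintro ⟨r', b⟩ hx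
      obtain rfl : r' = r := (Finset.mem_filter.mp hx).2
      rfl
    · exact fun b _ => rfl
    · rintro ⟨r', b⟩ hx
      obtain ⟨hx1, h3⟩ := Finset.mem_filter.mp hx
      obtain rfl : r' = r := h3
      have h2 := (Finset.mem_filter.mp hx1).2
      simp only [hval, Function.comp_apply] at h2 ⊢
      have hlt : b < q := Nat.lt_of_mul_lt_mul_left (Nat.lt_of_add_lt_add_right h2)
      rw [Nat.add_sub_add_right, ← Nat.mul_sub, Nat.factorization_mul hp.ne_zero (by omega),
        Finsupp.add_apply, hp.factorization_self]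

theorem entries_runner {v : Fin N → ℤ} (hp : 0 < p) (hv : ∀ i, 0 ≤ v i) (x : ℕ) :
    x ∈ entries v ↔ ∃ r : Fin p, ∃ q ∈ runner p v r, x = p * q + (r : ℕ) := by
  simp only [entries, Finset.mem_image, Finset.mem_univ, true_and]
  constructor
  · rintro ⟨i, rfl⟩
    refine ⟨⟨(v i).toNat % p, Nat.mod_lt _ hp⟩, (v i).toNat / p, (mem_runner hv).mpr ⟨i, ?_⟩, (Nat.div_add_mod _ p).symm⟩
    show v i = (p : ℤ) * (((v i).toNat / p : ℕ) : ℤ) + (((v i).toNat % p : ℕ) : ℤ)
    rw [← Nat.cast_mul, ← Nat.cast_add, Nat.div_add_mod, Int.toNat_of_nonneg (hv i)]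
  · rintro ⟨r, q, hq, rfl⟩
    obtain ⟨i, hi⟩ := (mem_runner hv).mp hq
    refine ⟨i, ?_⟩
    rw [hi, ← Nat.cast_mul, ← Nat.cast_add, Int.toNat_natCast]

/-- The exponent of `p` in the codegree of a label through its runners. -/
theorem vf_label (hp : p.Prime) {v : Fin N → ℤ} (hv : v ∈ Beta N n) {w : ℕ} {c : Fin p → ℕ}
    (hf : runner p v ∈ Conf c w) :
    vf p (entries v) + ∑ r, vd p (runner p v r) =
      vd p (entries v) + w + ∑ r, vf p (runner p v r) := by
  obtain ⟨h1, h2⟩ := mem_Conf.mp hf
  obtain ⟨e1, e2⟩ := vd_vf_runners hp (T := entries v) (runner p v) (entries_runner hp.pos (mem_Beta.mp hv).1.1)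
  rw [e1, e2]
  simp only [Finset.sum_add_distrib, h1, h2]
  ring

end Cfsg.Agent.SymChar
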