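import Cfsg.Agent.Lib.Char.SymChar.Alternant

/-!
# Orthogonality relations of the alternant functions
-/

set_option autoImplicit false

namespace Cfsg.Agent.SymChar

open Finset Equiv
open scoped Nat

variable {N : ℕ}

/-- The partitions of `n`, as multisets of positive parts. -/
def Ps (n : ℕ) : Finset (Multiset ℕ) :=
  (Finset.univ : Finset (Nat.Partition n)).image fun π => π.parts

theorem mem_Ps {n : ℕ} {μ : Multiset ℕ} :
    μ ∈ Ps n ↔ μ.sum = n ∧ ∀ a ∈ μ, 0 < a := by
  simp only [Ps, Finset.mem_image, Finset.mem_univ, true_and]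
  constructor
  · rintro ⟨π, rfl⟩
    exact ⟨π.parts_sum, fun a ha => π.parts_pos ha⟩
  · rintro ⟨h1, h2⟩
    exact ⟨⟨μ, fun {a} ha => h2 a ha, h1⟩, rfl⟩

theorem le_of_mem_Ps {n k : ℕ} {μ : Multiset ℕ} (h : μ ∈ Ps n) (hk : k ∈ μ) : k ≤ n :=
  (mem_Ps.mp h).1 ▸ Multiset.le_sum_of_mem hk

theorem cons_mem_Ps {n k : ℕ} {ν : Multiset ℕ} (hk : 1 ≤ k) (hkn : k ≤ n) (h : ν ∈ Ps (n - k)) :
    k ::ₘ ν ∈ Ps n := by
  obtain ⟨h1, h2⟩ := mem_Ps.mp h
  refine mem_Ps.mpr ⟨?_, ?_⟩
  · rw [Multiset.sum_cons, h1]; omega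
  · intro a ha
    rcases Multiset.mem_cons.mp ha with rfl | ha
    · omega
    · exact h2 a ha

theorem erase_mem_Ps {n k : ℕ} {μ : Multiset ℕ} (h : μ ∈ Ps n) (hk : k ∈ μ) :
    μ.erase k ∈ Ps (n - k) := by
  obtain ⟨h1, h2⟩ := mem_Ps.mp h
  refine mem_Ps.mpr ⟨?_, fun a ha => h2 a (Multiset.mem_of_mem_erase ha)⟩
  have := Multiset.sum_cons k (μ.erase k)
  rw [Multiset.cons_erase hk, h1] at this
  omega

theorem Ps_zero : Ps 0 = {0} := by
  ext μ
  rw [mem_Ps, Finset.mem_singleton]
  constructor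
  · rintro ⟨h1, h2⟩
    refine Multiset.eq_zero_of_forall_notMem fun a ha => ?_
    have := Multiset.le_sum_of_mem ha
    have := h2 a ha
    omega
  · rintro rfl; simp

/-- The order of the centralizer of a permutation of cycle type `μ`. -/
def zNat (μ : Multiset ℕ) : ℕ := μ.prod * ∏ k ∈ μ.toFinset, (μ.count k)!

theorem zNat_zero : zNat 0 = 1 := by simp [zNat]

theorem zNat_pos {μ : Multiset ℕ} (h : ∀ a ∈ μ, 0 < a) : 0 < zNat μ :=
  Nat.mul_pos (Multiset.prod_pos h) (Finset.prod_pos fun k _ => Nat.factorial_pos _)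

theorem zNat_cons (k : ℕ) (ν : Multiset ℕ) :
    zNat (k ::ₘ ν) = k * (ν.count k + 1) * zNat ν := by
  have key : ∏ a ∈ (k ::ₘ ν).toFinset, ((k ::ₘ ν).count a)! =
      (ν.count k + 1) * ∏ a ∈ ν.toFinset, (ν.count a)! := by
    have hs : ν.toFinset ⊆ (k ::ₘ ν).toFinset := fun a ha =>
      Multiset.mem_toFinset.mpr (Multiset.mem_cons_of_mem (Multiset.mem_toFinset.mp ha))
    have e : ∏ a ∈ ν.toFinset, (ν.count a)! = ∏ a ∈ (k ::ₘ ν).toFinset, (ν.count a)! :=
      Finset.prod_subset hs fun a _ ha => by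
        rw [Multiset.count_eq_zero.mpr fun h => ha (Multiset.mem_toFinset.mpr h), Nat.factorial_zero]
    have hk : k ∈ (k ::ₘ ν).toFinset := by simp
    rw [e, ← Finset.mul_prod_erase _ _ hk, ← Finset.mul_prod_erase _ (fun a => (ν.count a)!) hk,
      Multiset.count_cons_self, Nat.factorial_succ, mul_assoc]
    congr 2
    refine Finset.prod_congr rfl fun a ha => ?_
    rw [Multiset.count_cons_of_ne (Finset.ne_of_mem_erase ha)]
  rw [zNat, zNat, Multiset.prod_cons, key]
  ring

theorem zNat_erase {k : ℕ} {μ : Multiset ℕ} (hk : k ∈ μ) :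
    zNat μ = k * μ.count k * zNat (μ.erase k) := by
  conv_lhs => rw [← Multiset.cons_erase hk, zNat_cons]
  rw [Multiset.count_erase_self]
  have := Multiset.count_pos.mpr hk
  rw [Nat.sub_add_cancel this]

theorem weighted_rec (n : ℕ) (Φ : Multiset ℕ → ℚ) :
    (n : ℚ) * ∑ μ ∈ Ps n, Φ μ / zNat μ =
      ∑ k ∈ Finset.Icc 1 n, ∑ ν ∈ Ps (n - k), Φ (k ::ₘ ν) / zNat ν := by
  have h1 : (n : ℚ) * ∑ μ ∈ Ps n, Φ μ / zNat μ =
      ∑ μ ∈ Ps n, ∑ k ∈ μ.toFinset, Φ μ / zNat (μ.erase k) := by
    rw [Finset.mul_sum]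
    refine Finset.sum_congr rfl fun μ hμ => ?_
    have hn : (n : ℚ) = ∑ k ∈ μ.toFinset, (μ.count k : ℚ) * k := by
      rw [← (mem_Ps.mp hμ).1, Finset.sum_multiset_count]
      push_cast [smul_eq_mul]
      rfl
    rw [hn, Finset.sum_mul]
    refine Finset.sum_congr rfl fun k hk => ?_
    have hk' := Multiset.mem_toFinset.mp hk
    have hz : (zNat (μ.erase k) : ℚ) ≠ 0 := by
      exact_mod_cast (zNat_pos fun a ha => (mem_Ps.mp hμ).2 a (Multiset.mem_of_mem_erase ha)).ne'
    have hk0 : (k : ℚ) ≠ 0 := by exact_mod_cast ((mem_Ps.mp hμ).2 k hk').ne'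
    have hc : (μ.count k : ℚ) ≠ 0 := by exact_mod_cast (Multiset.count_pos.mpr hk').ne'
    rw [zNat_erase hk']
    push_cast
    field_simp
  rw [h1, Finset.sum_sigma', Finset.sum_sigma']
  refine Finset.sum_nbij' (fun q => ⟨q.2, q.1.erase q.2⟩) (fun q => ⟨q.1 ::ₘ q.2, q.1⟩) ?_ ?_ ?_ ?_ ?_
  · rintro ⟨μ, k⟩ h
    obtain ⟨hμ, hk⟩ := Finset.mem_sigma.mp h
    have hk' := Multiset.mem_toFinset.mp hk
    exact Finset.mem_sigma.mpr ⟨Finset.mem_Icc.mpr ⟨(mem_Ps.mp hμ).2 k hk', le_of_mem_Ps hμ hk'⟩,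
      erase_mem_Ps hμ hk'⟩
  · rintro ⟨k, ν⟩ h
    obtain ⟨hk, hν⟩ := Finset.mem_sigma.mp h
    have hk' := Finset.mem_Icc.mp hk
    exact Finset.mem_sigma.mpr ⟨cons_mem_Ps hk'.1 hk'.2 hν,
      Multiset.mem_toFinset.mpr (Multiset.mem_cons_self _ _)⟩
  · rintro ⟨μ, k⟩ h
    have hk' := Multiset.mem_toFinset.mp (Finset.mem_sigma.mp h).2
    simp [Multiset.cons_erase hk']
  · rintro ⟨k, ν⟩ _
    simp
  · rintro ⟨μ, k⟩ h
    have hk' := Multiset.mem_toFinset.mp (Finset.mem_sigma.mp h).2
    simp only [Multiset.cons_erase hk']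

/-- The pairing of two level `n` vectors. -/
def inner (n : ℕ) (v w : Fin N → ℤ) : ℚ :=
  ∑ μ ∈ Ps n, (F μ v : ℚ) * F μ w / zNat μ

theorem Adm.le {n : ℕ} {v : Fin N → ℤ} (h : Adm n v) (i : Fin N) : v i ≤ (n : ℤ) + ∑ j, del N j :=
  h.2 ▸ Finset.single_le_sum (fun j _ => h.1 j) (Finset.mem_univ i)

theorem Adm.sub_single {n k : ℕ} {v : Fin N → ℤ} (h : Adm n v) (hkn : k ≤ n) {i : Fin N}
    (hk : (k : ℤ) ≤ v i) : Adm (n - k) (v - Pi.single i (k : ℤ)) := by
  constructor
  · intro j
    by_cases hji : j = i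
    · subst hji; simp; omega
    · simp [Pi.single_eq_of_ne hji, h.1 j]
  · simp only [Pi.sub_apply, Finset.sum_sub_distrib, Finset.sum_pi_single', Finset.mem_univ, if_true]
    rw [h.2, Nat.cast_sub hkn]
    ring

theorem Adm.add_single {n k : ℕ} {v : Fin N → ℤ} (h : Adm n v) (i : Fin N) :
    Adm (n + k) (v + Pi.single i (k : ℤ)) := by
  constructor
  · intro j
    by_cases hji : j = i
    · subst hji; have := h.1 j; simp; omega
    · simp [Pi.single_eq_of_ne hji, h.1 j]
  · simp only [Pi.add_apply, Finset.sum_add_distrib, Finset.sum_pi_single', Finset.mem_univ, if_true]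
    rw [h.2]
    push_cast
    ring

theorem Adm.comp {n : ℕ} {v : Fin N → ℤ} (h : Adm n v) (σ : Perm (Fin N)) : Adm n (v ∘ σ) :=
  ⟨fun i => h.1 _, (Equiv.sum_comp σ v).trans h.2⟩

theorem Aint_symm (v w : Fin N → ℤ) : Aint v w = Aint w v := by
  rw [Aint, Aint]
  refine Fintype.sum_equiv (Equiv.inv _) _ _ fun σ => ?_
  simp only [Equiv.inv_apply, Perm.sign_inv]
  have e : (w = v ∘ σ) ↔ (v = w ∘ ⇑σ⁻¹) := by
    constructor <;> intro h <;> rw [h] <;> funext i <;> simp
  split_ifs with h1 h2 h2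
  · rfl
  · exact absurd (e.mp h1) h2
  · exact absurd (e.mpr h2) h1
  · rfl

theorem Aint_zero_of_not_injective_right {v w : Fin N → ℤ} (h : ¬ Function.Injective w) :
    Aint v w = 0 := by
  rw [Aint_symm]; exact Aint_zero_of_not_injective_left h

theorem not_injective_of_sum_lt {v : Fin N → ℤ} (hpos : ∀ i, 0 ≤ v i)
    (h : ∑ i, v i < ∑ i, del N i) : ¬ Function.Injective v := by
  intro hv
  rcases isEmpty_or_nonempty (Fin N) with hN | hN
  · simp at h
  -- raise a largest coordinate up to the staircase total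
  obtain ⟨i, -, hi⟩ := Finset.exists_max_image Finset.univ v ⟨Classical.arbitrary _, Finset.mem_univ _⟩
  set t : ℤ := ∑ j, del N j - ∑ j, v j with ht
  set u := v + Pi.single i t
  have hu : Function.Injective u := by
    intro a b e
    simp only [u, Pi.add_apply, Pi.single_apply] at e
    have ha := hi a (Finset.mem_univ a)
    have hb := hi b (Finset.mem_univ b)
    split_ifs at e with h1 h2 h3
    · rw [h1, h2]
    · subst h1; omega
    · subst h3; omega
    · exact hv (by simpa using e)
  have hA : Adm 0 u := by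
    constructor
    · intro j
      have := hpos j
      simp only [u, Pi.add_apply, Pi.single_apply]
      split_ifs <;> omega
    · simp [u, Finset.sum_add_distrib, t]
  obtain ⟨σ, hσ⟩ := exists_comp_del hA hu
  have hmax : ∀ a, u a ≤ (N : ℤ) - 1 := fun a => by
    have := congr_fun hσ a
    have := (σ a).isLt
    simp [del] at *
    omega
  -- `v` takes `N` distinct values in `[0, N - 1)`
  have hlt : ∀ a, v a < (N : ℤ) - 1 := fun a => by
    have ha := hi a (Finset.mem_univ a)
    have := hmax i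
    simp [u] at this
    omega
  have hsub : Finset.univ.image v ⊆ Finset.Ico (0 : ℤ) (N - 1) := fun x hx => by
    obtain ⟨a, -, rfl⟩ := Finset.mem_image.mp hx
    exact Finset.mem_Ico.mpr ⟨hpos a, hlt a⟩
  have := Finset.card_le_card hsub
  rw [Finset.card_image_of_injective _ hv, Finset.card_fin, Int.card_Ico] at this
  have := i.isLt
  omega

set_option maxHeartbeats 800000 in
/-- Row orthogonality. -/
theorem inner_eq : ∀ (n : ℕ) {v w : Fin N → ℤ}, Adm n v → Adm n w → inner n v w = (Aint v w : ℚ) := by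
  intro n
  induction n using Nat.strong_induction_on with
  | _ n ih =>
    intro v w hv hw
    by_cases hvi : Function.Injective v
    swap
    · rw [Aint_zero_of_not_injective_left hvi, inner, Finset.sum_eq_zero]
      · simp
      · intro μ _; rw [F_eq_zero_of_not_injective μ hvi]; simp
    rcases Nat.eq_zero_or_pos n with rfl | hn
    · simp only [inner, Ps_zero, Finset.sum_singleton, zNat_zero, F_zero, Nat.cast_one, div_one]
      obtain ⟨σ, rfl⟩ := exists_comp_del hv hvi
      rw [Aint_self_comp (fun a b e => Fin.ext (by simpa [del] using e))]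
      have e2 : Aint (del N ∘ σ) w = (Perm.sign σ : ℤ) * Aint (del N) w := by
        rw [Aint_symm, Aint_comp, Aint_symm]
      rw [e2]
      push_cast
      ring
    refine mul_left_cancel₀ (Nat.cast_ne_zero.mpr hn.ne' : (n : ℚ) ≠ 0) ?_
    rw [inner, weighted_rec]
    set L : ℕ := n + (∑ i, del N i).toNat with hL
    have hLv : ∀ i, v i ≤ L := fun i => by
      have := hv.le i
      omega
    have step : ∀ k ∈ Finset.Icc 1 L, (if k ≤ n then
        ∑ ν ∈ Ps (n - k), (F (k ::ₘ ν) v : ℚ) * F (k ::ₘ ν) w / zNat ν else 0) =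
        ∑ i, ∑ j, (if (k : ℤ) ≤ v i ∧ (k : ℤ) ≤ w j then
          (Aint (v - Pi.single i (k : ℤ)) (w - Pi.single j (k : ℤ)) : ℚ) else 0) := by
      intro k hk
      rw [Finset.mem_Icc] at hk
      split_ifs with hkn
      · calc ∑ ν ∈ Ps (n - k), (F (k ::ₘ ν) v : ℚ) * F (k ::ₘ ν) w / zNat ν
            = ∑ i, ∑ j, inner (n - k) (v - Pi.single i (k : ℤ)) (w - Pi.single j (k : ℤ)) := by
              simp only [inner, F_cons_apply, Int.cast_sum, Finset.sum_mul, Finset.mul_sum, Finset.sum_div]
              refine (Finset.sum_congr rfl fun _ _ => Finset.sum_comm).trans ?_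
              rw [Finset.sum_comm]
              exact Finset.sum_congr rfl fun i _ => Finset.sum_comm
          _ = _ := by
              refine Finset.sum_congr rfl fun i _ => Finset.sum_congr rfl fun j _ => ?_
              split_ifs with h
              · exact ih _ (by omega) (hv.sub_single hkn h.1) (hw.sub_single hkn h.2)
              · refine Finset.sum_eq_zero fun ν _ => ?_
                rcases not_and_or.mp h with h' | h'
                · have hz : F ν (v - Pi.single i (k : ℤ)) = 0 := F_eq_zero_of_neg ν (i := i) (by simp; omega)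
                  rw [hz]; simp
                · have hz : F ν (w - Pi.single j (k : ℤ)) = 0 := F_eq_zero_of_neg ν (i := j) (by simp; omega)
                  rw [hz]; simp
      · refine (Finset.sum_eq_zero fun i _ => Finset.sum_eq_zero fun j _ => ?_).symm
        split_ifs with h
        · rw [Aint_zero_of_not_injective_left, Int.cast_zero]
          refine not_injective_of_sum_lt (fun a => ?_) ?_
          · have := hv.1 a
            simp only [Pi.sub_apply, Pi.single_apply]
            split_ifs with ha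
            · subst ha; omega
            · omega
          · simp only [Pi.sub_apply, Finset.sum_sub_distrib, Finset.sum_pi_single', Finset.mem_univ, if_true]
            rw [hv.2]
            omega
        · rfl
    have e1 : ∑ k ∈ Finset.Icc 1 n, ∑ ν ∈ Ps (n - k), (F (k ::ₘ ν) v : ℚ) * F (k ::ₘ ν) w / zNat ν =
        ∑ k ∈ Finset.Icc 1 L, ∑ i, ∑ j, (if (k : ℤ) ≤ v i ∧ (k : ℤ) ≤ w j then
          (Aint (v - Pi.single i (k : ℤ)) (w - Pi.single j (k : ℤ)) : ℚ) else 0) := by
      rw [← Finset.sum_congr rfl step, ← Finset.sum_filter]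
      refine Finset.sum_congr ?_ fun _ _ => rfl
      ext k
      simp only [Finset.mem_Icc, Finset.mem_filter]
      omega
    rw [e1]
    have e2 : ∑ k ∈ Finset.Icc 1 L, ∑ i, ∑ j, (if (k : ℤ) ≤ v i ∧ (k : ℤ) ≤ w j then
          (Aint (v - Pi.single i (k : ℤ)) (w - Pi.single j (k : ℤ)) : ℚ) else 0) =
        ((∑ σ : Perm (Fin N), ∑ i, ∑ m, ∑ k ∈ Finset.Icc 1 L,
          (if (k : ℤ) ≤ v i ∧ w = (v - Pi.single i (k : ℤ) + Pi.single m (k : ℤ)) ∘ σ
            then (Perm.sign σ : ℤ) else 0) : ℤ) : ℚ) := by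
      push_cast
      simp only [Aint, Int.cast_sum, Int.cast_ite, Int.cast_zero]
      calc _ = ∑ σ : Perm (Fin N), ∑ k ∈ Finset.Icc 1 L, ∑ i, ∑ j,
            (if ((k : ℤ) ≤ v i ∧ (k : ℤ) ≤ w j) ∧ w - Pi.single j (k : ℤ) = (v - Pi.single i (k : ℤ)) ∘ σ
              then ((Perm.sign σ : ℤ) : ℚ) else 0) := by
              rw [Finset.sum_comm (s := (Finset.univ : Finset (Perm (Fin N))))]
              refine Finset.sum_congr rfl fun k _ => ?_
              rw [Finset.sum_comm (s := (Finset.univ : Finset (Perm (Fin N))))]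
              refine Finset.sum_congr rfl fun i _ => ?_
              rw [Finset.sum_comm (s := (Finset.univ : Finset (Perm (Fin N))))]
              refine Finset.sum_congr rfl fun j _ => ?_
              split_ifs with h
              · exact Finset.sum_congr rfl fun σ _ => if_congr (and_iff_right h).symm rfl rfl
              · exact (Finset.sum_eq_zero fun σ _ => if_neg fun h' => h h'.1).symm
        _ = ∑ σ : Perm (Fin N), ∑ k ∈ Finset.Icc 1 L, ∑ i, ∑ m,
            (if (k : ℤ) ≤ v i ∧ w = (v - Pi.single i (k : ℤ) + Pi.single m (k : ℤ)) ∘ σ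
              then ((Perm.sign σ : ℤ) : ℚ) else 0) := by
              refine Finset.sum_congr rfl fun σ _ => Finset.sum_congr rfl fun k _ =>
                Finset.sum_congr rfl fun i _ => Fintype.sum_equiv σ _ _ fun j => ?_
              refine if_congr ?_ rfl rfl
              constructor
              · rintro ⟨⟨hi, -⟩, h⟩
                refine ⟨hi, ?_⟩
                rw [← sub_add_cancel w (Pi.single j (k : ℤ)), h, ← single_comp σ j (k : ℤ)]
                rfl
              · rintro ⟨hi, h⟩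
                refine ⟨⟨hi, ?_⟩, ?_⟩
                · rw [h]
                  simp only [Function.comp_apply, Pi.add_apply, Pi.sub_apply, Pi.single_eq_same]
                  by_cases hm : σ j = i
                  · rw [hm]; simp; omega
                  · rw [Pi.single_eq_of_ne hm]; have := hv.1 (σ j); omega
                · rw [h, ← single_comp σ j (k : ℤ)]
                  funext a
                  simp
        _ = _ := Finset.sum_congr rfl fun σ _ => by
              rw [Finset.sum_comm]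
              exact Finset.sum_congr rfl fun i _ => Finset.sum_comm
    rw [e2, pair_sum v w hvi hv.1 hLv, hv.2]
    push_cast
    ring

end Cfsg.Agent.SymChar
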