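import Cfsg.Agent.Lib.Char.SymChar.Column

/-!
# Regular and singular classes over a stable set of labels
-/

set_option autoImplicit false

namespace Cfsg.Agent.SymChar

open Finset

variable {N p : ℕ}

/-- No part is a multiple of `p`. -/
def Reg (p : ℕ) (μ : Multiset ℕ) : Prop := ∀ k ∈ μ, ¬ p ∣ k

/-- The parts divisible by `p`. -/
def sing (p : ℕ) (μ : Multiset ℕ) : Multiset ℕ := μ.filter (p ∣ ·)

/-- A set of labels unchanged by reordering and by shifts of multiples of `p`. -/
structure Stable (p : ℕ) (P : (Fin N → ℤ) → Prop) : Prop where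
  symm : SymmPred P
  shift : ∀ k, p ∣ k → ShiftPred k P

open scoped Classical in
/-- The partitions of `n` with no part divisible by `p`. -/
noncomputable def Regs (p n : ℕ) : Finset (Multiset ℕ) := (Ps n).filter (Reg p)

theorem mem_Regs {n : ℕ} {μ : Multiset ℕ} : μ ∈ Regs p n ↔ μ ∈ Ps n ∧ Reg p μ := by
  classical exact Finset.mem_filter

theorem sing_eq_zero_iff {μ : Multiset ℕ} : sing p μ = 0 ↔ Reg p μ := Multiset.filter_eq_nil

theorem sing_add_rest (μ : Multiset ℕ) : sing p μ + μ.filter (fun k => ¬ p ∣ k) = μ :=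
  Multiset.filter_add_not _ _

theorem sing_erase {k : ℕ} {μ : Multiset ℕ} (hk : k ∈ μ) (hpk : p ∣ k) :
    sing p μ = k ::ₘ sing p (μ.erase k) := by
  conv_lhs => rw [← Multiset.cons_erase hk]
  exact Multiset.filter_cons_of_pos _ hpk

variable {P : (Fin N → ℤ) → Prop}

theorem S_eq_zero_of_sing_ne (hP : Stable p P) : ∀ {n : ℕ}, n ≤ N → ∀ {μ μ' : Multiset ℕ},
    μ ∈ Ps n → μ' ∈ Ps n → sing p μ ≠ sing p μ' → S P n μ μ' = 0 := by
  intro n
  induction n using Nat.strong_induction_on with
  | _ n ih =>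
    intro hn μ μ' hμ hμ' hne
    wlog hex : ∃ k ∈ μ, p ∣ k generalizing μ μ' with H
    · rw [S_symm]
      refine H hμ' hμ hne.symm ?_
      by_contra hex'
      push Not at hex hex'
      exact hne ((sing_eq_zero_iff.mpr hex).trans (sing_eq_zero_iff.mpr hex').symm)
    obtain ⟨k, hk, hpk⟩ := hex
    have hk1 : 1 ≤ k := (mem_Ps.mp hμ).2 k hk
    have hkn := le_of_mem_Ps hμ hk
    rw [← Multiset.cons_erase hk, S_cons hP.symm (hP.shift k hpk) hn hk1 hkn _ hμ']
    by_cases hk' : k ∈ μ'
    · rw [ih (n - k) (by omega) (by omega) (erase_mem_Ps hμ hk) (erase_mem_Ps hμ' hk') ?_, mul_zero]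
      intro e
      exact hne (by rw [sing_erase hk hpk, sing_erase hk' hpk, e])
    · simp [Multiset.count_eq_zero.mpr hk']

theorem S_add (hP : Stable p P) : ∀ (ν : Multiset ℕ) {n : ℕ}, (∀ k ∈ ν, p ∣ k ∧ 1 ≤ k) → n ≤ N →
    ν.sum ≤ n → ∀ {a b : Multiset ℕ}, a ∈ Regs p (n - ν.sum) → b ∈ Regs p (n - ν.sum) →
    S P n (ν + a) (ν + b) = (zNat ν : ℚ) * S P (n - ν.sum) a b := by
  intro ν
  induction ν using Multiset.induction_on with
  | empty => intro n _ _ _ a b _ _; simp [zNat_zero]
  | cons k ν ih =>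
    intro n hν hn hsum a b ha hb
    rw [Multiset.sum_cons] at hsum ha hb ⊢
    have hk := hν k (Multiset.mem_cons_self _ _)
    obtain ⟨hb1, hb2⟩ := mem_Regs.mp hb
    have hmem : (k ::ₘ ν) + b ∈ Ps n := by
      refine mem_Ps.mpr ⟨?_, fun c hc => ?_⟩
      · rw [Multiset.sum_add, Multiset.sum_cons, (mem_Ps.mp hb1).1]; omega
      · rcases Multiset.mem_add.mp hc with h | h
        · exact (hν c h).2
        · exact (mem_Ps.mp hb1).2 c h
    rw [Multiset.cons_add, S_cons hP.symm (hP.shift k hk.1) hn hk.2 (by omega) _ hmem]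
    have e1 : ((k ::ₘ ν) + b).erase k = ν + b := by rw [Multiset.cons_add, Multiset.erase_cons_head]
    have e2 : Multiset.count k ((k ::ₘ ν) + b) = ν.count k + 1 := by
      rw [Multiset.count_add, Multiset.count_cons_self,
        Multiset.count_eq_zero.mpr (fun h => hb2 k h hk.1), add_zero]
    rw [e1, e2, ih (n := n - k) (fun c hc => hν c (Multiset.mem_cons_of_mem hc)) (by omega) (by omega)
      (by rwa [Nat.sub_sub]) (by rwa [Nat.sub_sub]), Nat.sub_sub, zNat_cons]
    push_cast
    ring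

variable (P) in
open scoped Classical in
/-- The value vector of a class on the labels in `P`. -/
noncomputable def vec (n : ℕ) (μ : Multiset ℕ) : ↥((Beta N n).filter P) → ℚ :=
  fun v => (F μ (v : Fin N → ℤ) : ℚ)

variable (P) in
open scoped Classical in
/-- The combinations of regular classes below a singular part. -/
noncomputable def comb (p n m : ℕ) (ν : Multiset ℕ) :
    (Regs p m → ℚ) →ₗ[ℚ] (↥((Beta N n).filter P) → ℚ) :=
  Fintype.linearCombination ℚ fun y : Regs p m => vec P n (ν + (y : Multiset ℕ))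

variable (P) in
/-- The dimension spanned by the regular classes. -/
noncomputable def regDim (p n : ℕ) : ℕ := Module.finrank ℚ (LinearMap.range (comb P p n n 0))

theorem vec_dot (n : ℕ) (μ μ' : Multiset ℕ) :
    ∑ v, vec P n μ v * vec P n μ' v = S P n μ μ' :=
  Finset.sum_coe_sort _ (fun v => (F μ v : ℚ) * F μ' v)

theorem comb_dot (n m m' : ℕ) (ν ν' : Multiset ℕ) (c : Regs p m → ℚ) (c' : Regs p m' → ℚ) :
    ∑ v, comb P p n m ν c v * comb P p n m' ν' c' v =
      ∑ y, ∑ y', c y * c' y' * S P n (ν + (y : Multiset ℕ)) (ν' + (y' : Multiset ℕ)) := by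
  simp only [comb, Fintype.linearCombination_apply, Finset.sum_apply, Pi.smul_apply, smul_eq_mul,
    Finset.sum_mul_sum, ← vec_dot]
  rw [Finset.sum_comm]
  refine Finset.sum_congr rfl fun y _ => ?_
  rw [Finset.sum_comm]
  refine Finset.sum_congr rfl fun y' _ => ?_
  rw [Finset.mul_sum]
  exact Finset.sum_congr rfl fun v _ => by ring

theorem comb_apply_eq_zero_iff (hP : Stable p P) {n m : ℕ} (hn : n ≤ N) {ν : Multiset ℕ}
    (hν : ∀ k ∈ ν, p ∣ k ∧ 1 ≤ k) (hm : ν.sum + m = n) (c : Regs p m → ℚ) :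
    comb P p n m ν c = 0 ↔ ∑ y, ∑ y', c y * c y' * S P m (y : Multiset ℕ) y' = 0 := by
  classical
  obtain rfl : m = n - ν.sum := by omega
  have hz : (zNat ν : ℚ) ≠ 0 := by exact_mod_cast (zNat_pos fun k hk => (hν k hk).2).ne'
  have key : ∑ v, comb P p n _ ν c v * comb P p n _ ν c v =
      (zNat ν : ℚ) * ∑ y, ∑ y', c y * c y' * S P (n - ν.sum) (y : Multiset ℕ) y' := by
    rw [comb_dot, Finset.mul_sum]
    refine Finset.sum_congr rfl fun y _ => ?_
    rw [Finset.mul_sum]
    refine Finset.sum_congr rfl fun y' _ => ?_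
    rw [S_add hP ν hν hn (by omega) y.2 y'.2]
    ring
  constructor
  · intro h
    rw [h] at key
    simp only [Pi.zero_apply, mul_zero, Finset.sum_const_zero] at key
    exact (mul_eq_zero.mp key.symm).resolve_left hz
  · intro h
    rw [h, mul_zero] at key
    funext v
    exact mul_self_eq_zero.mp
      ((Finset.sum_eq_zero_iff_of_nonneg fun v _ => mul_self_nonneg _).mp key v (Finset.mem_univ v))

theorem finrank_range_comb (hP : Stable p P) {n m : ℕ} (hn : n ≤ N) {ν : Multiset ℕ}
    (hν : ∀ k ∈ ν, p ∣ k ∧ 1 ≤ k) (hm : ν.sum + m = n) :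
    Module.finrank ℚ (LinearMap.range (comb P p n m ν)) = regDim P p m := by
  classical
  have h1 := LinearMap.finrank_range_add_finrank_ker (comb P p n m ν)
  have h2 := LinearMap.finrank_range_add_finrank_ker (comb P p m m 0)
  have e : LinearMap.ker (comb P p n m ν) = LinearMap.ker (comb P p m m 0) := SetLike.ext fun c => by
    rw [LinearMap.mem_ker, LinearMap.mem_ker, comb_apply_eq_zero_iff hP hn hν hm,
      comb_apply_eq_zero_iff (ν := 0) hP (by omega) (by simp) (by simp)]
  rw [e] at h1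
  rw [regDim]
  omega

open scoped Classical in
theorem card_filter_eq_sum (hP : Stable p P) {n : ℕ} (hn : n ≤ N) :
    ((Beta N n).filter P).card = ∑ ν ∈ (Ps n).image (sing p), regDim P p (n - ν.sum) := by
  classical
  set I := (Ps n).image (sing p) with hI
  have hνI : ∀ ν ∈ I, (∀ k ∈ ν, p ∣ k ∧ 1 ≤ k) ∧ ν.sum ≤ n ∧ sing p ν = ν := by
    intro ν hν
    obtain ⟨μ, hμ, rfl⟩ := Finset.mem_image.mp hν
    refine ⟨fun k hk => ⟨(Multiset.mem_filter.mp hk).2, (mem_Ps.mp hμ).2 k (Multiset.mem_filter.mp hk).1⟩, ?_, ?_⟩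
    · have := congrArg Multiset.sum (sing_add_rest (p := p) μ)
      rw [Multiset.sum_add, (mem_Ps.mp hμ).1] at this
      omega
    · exact Multiset.filter_eq_self.mpr fun k hk => (Multiset.mem_filter.mp hk).2
  have hmem : ∀ ν ∈ I, ∀ y : Regs p (n - ν.sum), ν + (y : Multiset ℕ) ∈ Ps n ∧
      sing p (ν + (y : Multiset ℕ)) = ν := by
    intro ν hν y
    obtain ⟨hy1, hy2⟩ := mem_Regs.mp y.2
    obtain ⟨h1, h2, h3⟩ := hνI ν hν
    refine ⟨mem_Ps.mpr ⟨?_, fun c hc => ?_⟩, ?_⟩
    · rw [Multiset.sum_add, (mem_Ps.mp hy1).1]; omega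
    · rcases Multiset.mem_add.mp hc with h | h
      · exact (h1 c h).2
      · exact (mem_Ps.mp hy1).2 c h
    · rw [sing, Multiset.filter_add, ← sing, h3, Multiset.filter_eq_nil.mpr hy2, add_zero]
  let Φ : ((ν : I) → LinearMap.range (comb P p n (n - (ν : Multiset ℕ).sum) (ν : Multiset ℕ))) →ₗ[ℚ]
      (↥((Beta N n).filter P) → ℚ) :=
    ∑ ν : I, (LinearMap.range (comb P p n (n - (ν : Multiset ℕ).sum) (ν : Multiset ℕ))).subtype ∘ₗ LinearMap.proj ν
  have horth : ∀ (ν ν' : I), ν ≠ ν' → ∀ a ∈ LinearMap.range (comb P p n (n - (ν : Multiset ℕ).sum) (ν : Multiset ℕ)),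
      ∀ b ∈ LinearMap.range (comb P p n (n - (ν' : Multiset ℕ).sum) (ν' : Multiset ℕ)), ∑ v, a v * b v = 0 := by
    rintro ν ν' hne a ⟨c, rfl⟩ b ⟨c', rfl⟩
    rw [comb_dot]
    refine Finset.sum_eq_zero fun y _ => Finset.sum_eq_zero fun y' _ => ?_
    rw [S_eq_zero_of_sing_ne hP hn (hmem _ ν.2 y).1 (hmem _ ν'.2 y').1, mul_zero]
    rw [(hmem _ ν.2 y).2, (hmem _ ν'.2 y').2]
    exact fun e => hne (Subtype.ext e)
  have hinj : Function.Injective Φ := by
    rw [injective_iff_map_eq_zero]
    intro x hx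
    funext ν
    have h : ∑ v, Φ x v * (x ν : _ → ℚ) v = 0 := by simp [hx]
    simp only [Φ, LinearMap.coe_sum, Finset.sum_apply, LinearMap.coe_comp, Function.comp_apply,
      LinearMap.coe_proj, Function.eval, Submodule.coe_subtype, Finset.sum_mul] at h
    rw [Finset.sum_comm, Finset.sum_eq_single ν
      (fun ν' _ hne => horth ν' ν hne _ (x ν').2 _ (x ν).2) (by simp)] at h
    refine Subtype.ext (funext fun v => ?_)
    exact mul_self_eq_zero.mp
      ((Finset.sum_eq_zero_iff_of_nonneg fun v _ => mul_self_nonneg _).mp h v (Finset.mem_univ v))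
  have hsur : LinearMap.range Φ = ⊤ := by
    refine Submodule.eq_top_of_finrank_eq ?_
    -- the classes span all value vectors
    have hspan : Submodule.span ℚ (Set.range fun μ : Ps n => vec P n (μ : Multiset ℕ)) = ⊤ := by
      by_contra hne
      obtain ⟨f, hf0, hf⟩ := Submodule.exists_le_ker_of_lt_top _ (lt_top_iff_ne_top.mpr hne)
      apply hf0
      set c : (Fin N → ℤ) → ℚ := fun v =>
        if h : v ∈ (Beta N n).filter P then f (Pi.single ⟨v, h⟩ 1) else 0
      have hc : ∀ v : ↥((Beta N n).filter P), c v = f (Pi.single v 1) := fun v => dif_pos v.2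
      refine LinearMap.pi_ext' fun v => LinearMap.ext_ring ?_
      simp only [LinearMap.coe_comp, LinearMap.coe_single, Function.comp_apply, LinearMap.zero_apply]
      rw [← hc]
      refine eq_zero_of_pairing (n := n) c (fun μ hμ => ?_) (Finset.mem_filter.mp v.2).1
      have h := LinearMap.mem_ker.mp (hf (Submodule.subset_span ⟨⟨μ, hμ⟩, rfl⟩))
      change f (vec P n μ) = 0 at h
      rw [← Finset.sum_subset (Finset.filter_subset P _) (fun x _ hx => by simp only [c]; rw [dif_neg hx, zero_mul]),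
        ← Finset.sum_coe_sort]
      rw [← h]
      conv_rhs => rw [pi_eq_sum_univ' (vec P n μ), map_sum]
      refine Finset.sum_congr rfl fun w _ => ?_
      rw [map_smul, smul_eq_mul, hc, mul_comm]
      congr 1
    have hle : Submodule.span ℚ (Set.range fun μ : Ps n => vec P n (μ : Multiset ℕ)) ≤ LinearMap.range Φ := by
      rw [Submodule.span_le]
      rintro _ ⟨⟨μ, hμ⟩, rfl⟩
      set ν : I := ⟨sing p μ, Finset.mem_image_of_mem _ hμ⟩
      have hy : μ.filter (fun k => ¬ p ∣ k) ∈ Regs p (n - (sing p μ).sum) := by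
        refine mem_Regs.mpr ⟨mem_Ps.mpr ⟨?_, fun k hk => (mem_Ps.mp hμ).2 k (Multiset.mem_filter.mp hk).1⟩,
          fun k hk => (Multiset.mem_filter.mp hk).2⟩
        have := congrArg Multiset.sum (sing_add_rest (p := p) μ)
        rw [Multiset.sum_add, (mem_Ps.mp hμ).1] at this
        omega
      have hw : vec P n μ ∈ LinearMap.range (comb P p n (n - (ν : Multiset ℕ).sum) (ν : Multiset ℕ)) := by
        refine ⟨Pi.single ⟨_, hy⟩ 1, ?_⟩
        rw [comb, Fintype.linearCombination_apply_single, one_smul, sing_add_rest]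
      refine ⟨Pi.single ν ⟨_, hw⟩, ?_⟩
      simp only [Φ, LinearMap.coe_sum, Finset.sum_apply, LinearMap.coe_comp, Function.comp_apply,
        LinearMap.coe_proj, Function.eval, Submodule.coe_subtype]
      rw [Finset.sum_eq_single ν]
      · rw [Pi.single_eq_same]
      · intro ν' _ hne; rw [Pi.single_eq_of_ne hne]; rfl
      · simp
    rw [hspan] at hle
    rw [top_le_iff.mp hle, finrank_top]
  have h := LinearMap.finrank_range_of_inj hinj
  rw [hsur, finrank_top, Module.finrank_fintype_fun_eq_card, Fintype.card_coe,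
    Module.finrank_pi_fintype] at h
  rw [h, ← Finset.sum_coe_sort I]
  exact Finset.sum_congr rfl fun ν _ => finrank_range_comb hP hn (hνI _ ν.2).1 (Nat.add_sub_cancel' (hνI _ ν.2).2.1)

open scoped Classical in
/-- Counting labels: singular parts are multiples of partitions. -/
theorem card_filter_eq (hp : 2 ≤ p) (hP : Stable p P) {n : ℕ} (hn : n ≤ N) :
    ((Beta N n).filter P).card =
      ∑ m ∈ Finset.range (n / p + 1), (Ps m).card * regDim P p (n - p * m) := by
  classical
  rw [card_filter_eq_sum hP hn]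
  simp only [← smul_eq_mul, ← Finset.sum_const]
  rw [Finset.sum_sigma']
  have hsum : ∀ μ : Multiset ℕ, (μ.map (p * ·)).sum = p * μ.sum := fun μ => by
    simpa using Multiset.sum_map_mul_left (s := μ) (f := fun i => i) (a := p)
  symm
  refine Finset.sum_bij (fun q _ => q.2.map (p * ·)) ?_ ?_ ?_ ?_
  · rintro ⟨m, ρ⟩ h
    obtain ⟨hm, hρ⟩ := Finset.mem_sigma.mp h
    obtain ⟨hρ1, hρ2⟩ := mem_Ps.mp hρ
    have hm' : p * m ≤ n := by
      have : m < n / p + 1 := Finset.mem_range.mp hm
      calc p * m ≤ p * (n / p) := by gcongr; omega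
        _ ≤ n := Nat.mul_div_le n p
    refine Finset.mem_image.mpr ⟨ρ.map (p * ·) + Multiset.replicate (n - p * m) 1, mem_Ps.mpr ⟨?_, ?_⟩, ?_⟩
    · simp only [Multiset.sum_add, hsum, hρ1, Multiset.sum_replicate, smul_eq_mul, mul_one]
      omega
    · intro a ha
      rcases Multiset.mem_add.mp ha with h | h
      · obtain ⟨b, hb, rfl⟩ := Multiset.mem_map.mp h
        exact Nat.mul_pos (by omega) (hρ2 b hb)
      · rw [Multiset.eq_of_mem_replicate h]; omega
    · rw [sing, Multiset.filter_add, Multiset.filter_eq_self.mpr, Multiset.filter_eq_nil.mpr, add_zero]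
      · intro a ha hd
        rw [Multiset.eq_of_mem_replicate ha] at hd
        have := Nat.le_of_dvd one_pos hd
        omega
      · intro a ha
        obtain ⟨b, -, rfl⟩ := Multiset.mem_map.mp ha
        exact dvd_mul_right p b
  · rintro ⟨m, ρ⟩ h ⟨m', ρ'⟩ h' e
    have e' : ρ = ρ' := Multiset.map_injective (fun a b hab => Nat.eq_of_mul_eq_mul_left (by omega) hab) e
    subst e'
    have : m = m' := by
      have h1 : ρ.sum = m := (mem_Ps.mp (Finset.mem_sigma.mp h).2).1
      have h2 : ρ.sum = m' := (mem_Ps.mp (Finset.mem_sigma.mp h').2).1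
      omega
    subst this
    rfl
  · intro ν hν
    obtain ⟨μ, hμ, rfl⟩ := Finset.mem_image.mp hν
    set ρ := (sing p μ).map (· / p) with hρ
    have e : ρ.map (p * ·) = sing p μ := by
      rw [hρ, Multiset.map_map]
      conv_rhs => rw [← Multiset.map_id (sing p μ)]
      exact Multiset.map_congr rfl fun a ha => Nat.mul_div_cancel' (Multiset.mem_filter.mp ha).2
    have hle : p * ρ.sum ≤ n := by
      have h := congrArg Multiset.sum (sing_add_rest (p := p) μ)
      rw [Multiset.sum_add, (mem_Ps.mp hμ).1] at h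
      rw [← hsum, e]
      omega
    refine ⟨⟨ρ.sum, ρ⟩, Finset.mem_sigma.mpr ⟨Finset.mem_range.mpr ?_, mem_Ps.mpr ⟨rfl, ?_⟩⟩, e⟩
    · rw [Nat.lt_add_one_iff, Nat.le_div_iff_mul_le (by omega)]
      linarith
    · intro a ha
      obtain ⟨b, hb, rfl⟩ := Multiset.mem_map.mp ha
      obtain ⟨hb1, hb2⟩ := Multiset.mem_filter.mp hb
      exact Nat.div_pos (Nat.le_of_dvd ((mem_Ps.mp hμ).2 b hb1) hb2) (by omega)
  · rintro ⟨m, ρ⟩ h
    simp only [hsum, smul_eq_mul, (mem_Ps.mp (Finset.mem_sigma.mp h).2).1]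

theorem sum_reg_eq_zero (hP : Stable p P) {n : ℕ} (hn : n ≤ N) {u v : Fin N → ℤ}
    (hu : u ∈ Beta N n) (hPu : ¬ P u) (hv : v ∈ Beta N n) (hPv : P v) :
    ∑ μ ∈ Regs p n, (F μ u : ℚ) * F μ v / zNat μ = 0 := by
  classical
  set g : Multiset ℕ → ℚ := fun μ => if Reg p μ then (F μ v : ℚ) else 0 with hg
  set Q : (Fin N → ℤ) → ℚ := fun x => ∑ η ∈ Ps n, g η * F η x / zNat η with hQ
  have hS : ∀ η ∈ Ps n, ∀ μ ∈ Ps n, g η * S P n η μ =
      (if Reg p μ then (F η v : ℚ) else 0) * S P n η μ := by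
    intro η hη μ hμ
    by_cases h : S P n η μ = 0
    · simp [h]
    have e := not_ne_iff.mp fun e => h (S_eq_zero_of_sing_ne hP hn hη hμ e)
    simp only [hg]
    congr 1
    exact if_congr (by rw [← sing_eq_zero_iff, ← sing_eq_zero_iff, e]) rfl rfl
  have key : ∀ μ ∈ Ps n, ∑ x ∈ Beta N n, (if P x then 0 else Q x) * F μ x = 0 := by
    intro μ hμ
    have h1 : ∑ x ∈ Beta N n, Q x * F μ x = g μ := (expansion hn g hμ).symm
    have h2 : ∑ x ∈ Beta N n, (if P x then Q x else 0) * F μ x = g μ := by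
      calc _ = ∑ η ∈ Ps n, g η * S P n η μ / zNat η := by
            simp only [S, hQ, Finset.mul_sum, Finset.sum_div, ite_mul, zero_mul, Finset.sum_mul,
              ← Finset.sum_filter]
            rw [Finset.sum_comm]
            refine Finset.sum_congr rfl fun η _ => ?_
            exact Finset.sum_congr rfl fun x _ => by ring
        _ = (if Reg p μ then (1 : ℚ) else 0) * ∑ η ∈ Ps n, (F η v : ℚ) * S P n η μ / zNat η := by
            rw [Finset.mul_sum]
            refine Finset.sum_congr rfl fun η hη => ?_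
            rw [hS η hη μ hμ]
            split_ifs <;> ring
        _ = g μ := by
            have e : ∑ η ∈ Ps n, (F η v : ℚ) * S P n η μ / zNat η = (F μ v : ℚ) := by
              calc _ = ∑ η ∈ Ps n, (∑ x ∈ Beta N n, (if P x then (F μ x : ℚ) else 0) * F η x) * F η v / zNat η := by
                    refine Finset.sum_congr rfl fun η _ => ?_
                    simp only [S, Finset.sum_filter, ite_mul, zero_mul]
                    rw [mul_comm (F η v : ℚ)]
                    congr 2
                    refine Finset.sum_congr rfl fun x _ => ?_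
                    split_ifs <;> ring
                _ = _ := by rw [coeff_eq _ hv, if_pos hPv]
            rw [e]
            simp only [hg]
            split_ifs <;> ring
    have h3 : ∑ x ∈ Beta N n, (if P x then 0 else Q x) * F μ x =
        ∑ x ∈ Beta N n, Q x * F μ x - ∑ x ∈ Beta N n, (if P x then Q x else 0) * F μ x := by
      rw [← Finset.sum_sub_distrib]
      refine Finset.sum_congr rfl fun x _ => ?_
      split_ifs <;> ring
    rw [h3, h1, h2, sub_self]
  have := eq_zero_of_pairing _ key hu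
  rw [if_neg hPu] at this
  rw [← this]
  simp only [hQ, hg, Regs, Finset.sum_filter, ite_mul, zero_mul, ite_div, zero_div]
  refine Finset.sum_congr rfl fun η _ => ?_
  split_ifs <;> ring

end Cfsg.Agent.SymChar
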