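import Cfsg.Agent.Lib.Char.SymChar.Regular

/-!
# Configurations on runners and their counting
-/

set_option autoImplicit false

namespace Cfsg.Agent.SymChar

open Finset

/-- The total of a set of naturals. -/
def tot (T : Finset ℕ) : ℕ := ∑ x ∈ T, x

/-- Sets of `c` naturals of total `m` above the smallest. -/
def Sets (c m : ℕ) : Finset (Finset ℕ) :=
  (Finset.range (c + m)).powerset.filter fun T => T.card = c ∧ tot T = tot (Finset.range c) + m

theorem sum_range_le (T : Finset ℕ) : tot (Finset.range T.card) ≤ tot T := by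
  induction T using Finset.induction_on_max with
  | empty => simp
  | insert a T hlt ih =>
    have hna : a ∉ T := fun h => lt_irrefl _ (hlt a h)
    rw [Finset.card_insert_of_notMem hna, tot, tot, Finset.sum_range_succ, Finset.sum_insert hna]
    have : T.card ≤ a := by
      simpa using Finset.card_le_card (fun x hx => Finset.mem_range.mpr (hlt x hx) : T ⊆ Finset.range a)
    simp only [tot] at *
    omega

theorem mem_Sets {c m : ℕ} {T : Finset ℕ} :
    T ∈ Sets c m ↔ T.card = c ∧ tot T = tot (Finset.range c) + m := by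
  simp only [Sets, Finset.mem_filter, Finset.mem_powerset, and_iff_right_iff_imp]
  rintro ⟨h1, h2⟩ x hx
  rw [Finset.mem_range]
  by_contra h
  have h3 := sum_range_le (T.erase x)
  rw [Finset.card_erase_of_mem hx, h1] at h3
  have h4 := Finset.add_sum_erase T (fun x => x) hx
  have hc : 0 < c := h1 ▸ Finset.card_pos.mpr ⟨x, hx⟩
  obtain ⟨d, rfl⟩ : ∃ d, c = d + 1 := ⟨c - 1, by omega⟩
  simp only [Nat.add_sub_cancel, tot, Finset.sum_range_succ] at *
  omega

theorem card_Sets (c m : ℕ) : (Sets c m).card = (Beta c m).card := by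
  classical
  symm
  have hdel : ∑ i, del c i = ((tot (Finset.range c) : ℕ) : ℤ) := by
    simp only [del, tot]
    rw [Finset.sum_range]
    push_cast
    rfl
  refine Finset.card_bij (fun v _ => Finset.univ.image fun i => (v i).toNat) ?_ ?_ ?_
  · intro v hv
    obtain ⟨hA, hmono⟩ := mem_Beta.mp hv
    have hinj : Function.Injective fun i => (v i).toNat := fun a b e => hmono.injective (by
      have := hA.1 a; have := hA.1 b; simp only at e; omega)
    refine mem_Sets.mpr ⟨by rw [Finset.card_image_of_injective _ hinj, Finset.card_fin], ?_⟩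
    rw [tot, Finset.sum_image fun a _ b _ e => hinj e]
    have h := hA.2
    rw [hdel] at h
    have e : ∑ i, v i = ((∑ i, (v i).toNat : ℕ) : ℤ) := by
      push_cast
      exact Finset.sum_congr rfl fun i _ => (Int.toNat_of_nonneg (hA.1 i)).symm
    rw [e] at h
    omega
  · intro v hv w hw e
    obtain ⟨hA, hmono⟩ := mem_Beta.mp hv
    obtain ⟨hB, hmono'⟩ := mem_Beta.mp hw
    refine (hmono.range_inj hmono').mp (Set.ext fun z => ?_)
    have key : ∀ (x y : Fin c → ℤ), (∀ i, 0 ≤ x i) → (∀ i, 0 ≤ y i) →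
        (Finset.univ.image fun i => (x i).toNat) = (Finset.univ.image fun i => (y i).toNat) →
        z ∈ Set.range x → z ∈ Set.range y := by
      rintro x y hx hy e ⟨i, rfl⟩
      have : (x i).toNat ∈ Finset.univ.image fun i => (y i).toNat := e ▸ Finset.mem_image_of_mem _ (Finset.mem_univ i)
      obtain ⟨j, -, hj⟩ := Finset.mem_image.mp this
      exact ⟨j, by have := hx i; have := hy j; omega⟩
    exact ⟨key v w hA.1 hB.1 e, key w v hB.1 hA.1 e.symm⟩
  · intro T hT
    obtain ⟨h1, h2⟩ := mem_Sets.mp hT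
    refine ⟨fun i => (T.orderEmbOfFin h1 i : ℕ), mem_Beta.mpr ⟨⟨fun i => by positivity, ?_⟩, ?_⟩, ?_⟩
    · rw [hdel, ← Nat.cast_sum]
      norm_cast
      rw [show (m + tot (Finset.range c)) = tot T by omega]
      conv_rhs => rw [← Finset.map_orderEmbOfFin_univ T h1, tot, Finset.sum_map]
      rfl
    · exact fun a b hab => Int.ofNat_lt.mpr ((T.orderEmbOfFin h1).strictMono hab)
    · ext x
      conv_rhs => rw [← Finset.map_orderEmbOfFin_univ T h1]
      simp [Finset.mem_map]

/-- Configurations of runners with bead numbers `c` and weight `w`. -/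
def Conf {j : ℕ} (c : Fin j → ℕ) (w : ℕ) : Finset (Fin j → Finset ℕ) :=
  (Fintype.piFinset fun r => (Finset.range (w + 1)).biUnion (Sets (c r))).filter
    fun f => ∑ r, tot (f r) = ∑ r, tot (Finset.range (c r)) + w

theorem mem_Conf {j : ℕ} {c : Fin j → ℕ} {w : ℕ} {f : Fin j → Finset ℕ} :
    f ∈ Conf c w ↔ (∀ r, (f r).card = c r) ∧
      ∑ r, tot (f r) = ∑ r, tot (Finset.range (c r)) + w := by
  simp only [Conf, Finset.mem_filter, Fintype.mem_piFinset, Finset.mem_biUnion, Finset.mem_range]
  constructor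
  · rintro ⟨h1, h2⟩
    exact ⟨fun r => by obtain ⟨m, -, hm⟩ := h1 r; exact (mem_Sets.mp hm).1, h2⟩
  · rintro ⟨h1, h2⟩
    refine ⟨fun r => ?_, h2⟩
    have hge : ∀ s, tot (Finset.range (c s)) ≤ tot (f s) := fun s => h1 s ▸ sum_range_le (f s)
    refine ⟨tot (f r) - tot (Finset.range (c r)), ?_, mem_Sets.mpr ⟨h1 r, by have := hge r; omega⟩⟩
    have e1 := Finset.add_sum_erase Finset.univ (fun s => tot (f s)) (Finset.mem_univ r)
    have e2 := Finset.add_sum_erase Finset.univ (fun s => tot (Finset.range (c s))) (Finset.mem_univ r)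
    have h3 : ∑ s ∈ Finset.univ.erase r, tot (Finset.range (c s)) ≤
        ∑ s ∈ Finset.univ.erase r, tot (f s) := Finset.sum_le_sum fun s _ => hge s
    omega

theorem card_Conf_succ {j : ℕ} (c : Fin (j + 1) → ℕ) (w : ℕ) :
    (Conf c w).card =
      ∑ m ∈ Finset.range (w + 1), (Beta (c 0) m).card * (Conf (Fin.tail c) (w - m)).card := by
  classical
  simp only [← card_Sets, ← Finset.card_product]
  rw [← Finset.card_sigma]
  symm
  refine Finset.card_bij (fun q _ => Fin.cons q.2.1 q.2.2) ?_ ?_ ?_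
  · rintro ⟨m, T, f⟩ h
    simp only [Finset.mem_sigma, Finset.mem_product, Finset.mem_range] at h
    obtain ⟨hm, hT, hf⟩ := h
    obtain ⟨h1, h2⟩ := mem_Sets.mp hT
    obtain ⟨h3, h4⟩ := mem_Conf.mp hf
    refine mem_Conf.mpr ⟨fun r => ?_, ?_⟩
    · refine Fin.cases ?_ (fun i => ?_) r
      · simpa using h1
      · simpa [Fin.tail] using h3 i
    · simp only [Fin.sum_univ_succ, Fin.cons_zero, Fin.cons_succ]
      simp only [Fin.tail] at h4
      omega
  · rintro ⟨m, T, f⟩ h ⟨m', T', f'⟩ h' e
    obtain ⟨e1, e2⟩ := Fin.cons_inj.mp e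
    simp only [Finset.mem_sigma, Finset.mem_product] at h h'
    obtain rfl : T = T' := e1
    obtain rfl : f = f' := e2
    have h1 := (mem_Sets.mp h.2.1).2
    have h2 := (mem_Sets.mp h'.2.1).2
    obtain rfl : m = m' := by omega
    rfl
  · intro f hf
    obtain ⟨h1, h2⟩ := mem_Conf.mp hf
    have h0 := h1 0 ▸ sum_range_le (f 0)
    have h3 : ∑ i : Fin j, tot (Finset.range (c i.succ)) ≤ ∑ i : Fin j, tot (f i.succ) :=
      Finset.sum_le_sum fun i _ => h1 i.succ ▸ sum_range_le (f i.succ)
    simp only [Fin.sum_univ_succ] at h2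
    refine ⟨⟨tot (f 0) - tot (Finset.range (c 0)), f 0, Fin.tail f⟩, ?_, Fin.cons_self_tail f⟩
    simp only [Finset.mem_sigma, Finset.mem_product, Finset.mem_range]
    refine ⟨by omega, mem_Sets.mpr ⟨h1 0, by omega⟩, mem_Conf.mpr ⟨fun i => h1 i.succ, ?_⟩⟩
    simp only [Fin.tail]
    omega

theorem card_Conf_zero {j : ℕ} (c : Fin j → ℕ) : (Conf c 0).card = 1 := by
  classical
  refine Finset.card_eq_one.mpr ⟨fun r => Finset.range (c r), Finset.ext fun f => ?_⟩
  rw [mem_Conf, Finset.mem_singleton]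
  constructor
  · rintro ⟨h1, h2⟩
    funext r
    have hge : ∀ s, tot (Finset.range (c s)) ≤ tot (f s) := fun s => h1 s ▸ sum_range_le (f s)
    have heq := (Finset.sum_eq_sum_iff_of_le (s := Finset.univ) fun s _ => hge s).mp (by omega) r
      (Finset.mem_univ r)
    refine Finset.eq_of_subset_of_card_le (fun x hx => ?_) (by rw [h1 r, Finset.card_range])
    have hmem : f r ∈ Sets (c r) 0 := mem_Sets.mpr ⟨h1 r, by omega⟩
    simpa [Sets] using Finset.mem_powerset.mp (Finset.mem_filter.mp hmem).1 hx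
  · rintro rfl
    simp

theorem card_Ps_le_two_pow (m : ℕ) : (Ps (m + 1)).card ≤ 2 ^ m := by
  classical
  refine Finset.card_image_le.trans ?_
  rw [Finset.card_univ]
  refine (Fintype.card_le_of_surjective _ Nat.Partition.ofComposition_surj).trans ?_
  rw [composition_card]
  simp

theorem geom_bound (c : ℕ) : ∀ w, ∑ m ∈ Finset.range w, (c + 1) ^ m * c ^ (w - 1 - m) + c ^ w = (c + 1) ^ w := by
  intro w
  induction w with
  | zero => simp
  | succ w ih =>
    rw [Finset.sum_range_succ]
    have e : ∑ m ∈ Finset.range w, (c + 1) ^ m * c ^ (w + 1 - 1 - m) =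
        c * ∑ m ∈ Finset.range w, (c + 1) ^ m * c ^ (w - 1 - m) := by
      rw [Finset.mul_sum]
      refine Finset.sum_congr rfl fun m hm => ?_
      rw [Finset.mem_range] at hm
      rw [show w + 1 - 1 - m = w - 1 - m + 1 by omega, pow_succ]
      ring
    rw [e]
    simp only [Nat.add_sub_cancel, Nat.sub_self, pow_zero, mul_one]
    calc c * ∑ m ∈ Finset.range w, (c + 1) ^ m * c ^ (w - 1 - m) + (c + 1) ^ w + c ^ (w + 1)
        = c * (∑ m ∈ Finset.range w, (c + 1) ^ m * c ^ (w - 1 - m) + c ^ w) + (c + 1) ^ w := by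
          rw [pow_succ]; ring
      _ = _ := by rw [ih, pow_succ]; ring

/-- Few configurations: at most `j * (j + 1) ^ w` in weight `w + 1`. -/
theorem card_Conf_le : ∀ {j : ℕ} (c : Fin j → ℕ) (w : ℕ), (Conf c (w + 1)).card ≤ j * (j + 1) ^ w := by
  intro j
  induction j with
  | zero =>
    intro c w
    rw [zero_mul, Nat.le_zero, Finset.card_eq_zero, Finset.eq_empty_iff_forall_notMem]
    intro f hf
    have := (mem_Conf.mp hf).2
    simp at this
  | succ j ih =>
    intro c w
    rcases Nat.eq_zero_or_pos j with rfl | hj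
    · rw [card_Conf_succ, Finset.sum_eq_single (w + 1)]
      · rw [Nat.sub_self, card_Conf_zero, mul_one]
        refine (card_Beta_le _ _).trans ((card_Ps_le_two_pow w).trans ?_)
        simp
      · intro m hm hne
        rw [Finset.mem_range] at hm
        obtain ⟨d, hd⟩ : ∃ d, w + 1 - m = d + 1 := ⟨w - m, by omega⟩
        rw [hd, Nat.le_zero.mp ((ih (Fin.tail c) d).trans (by simp)), mul_zero]
      · simp
    rw [card_Conf_succ, Finset.sum_range_succ', Finset.sum_range_succ]
    simp only [Nat.sub_self, card_Conf_zero, mul_one, Nat.add_sub_add_right, Nat.sub_zero]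
    have h0 : (Beta (c 0) 0).card ≤ 1 := (card_Beta_le _ _).trans (by rw [Ps_zero]; simp)
    have h2 : (Beta (c 0) (w + 1)).card ≤ (j + 2) ^ w :=
      ((card_Beta_le _ _).trans (card_Ps_le_two_pow w)).trans (Nat.pow_le_pow_left (by omega) w)
    have h3 := ih (Fin.tail c) w
    have h4 := geom_bound (j + 1) w
    have h7 : j * ∑ m ∈ Finset.range w, (j + 1 + 1) ^ m * (j + 1) ^ (w - 1 - m) + j * (j + 1) ^ w =
        j * (j + 2) ^ w := by rw [← mul_add, h4]
    have h8 : (Beta (c 0) 0).card * (Conf (Fin.tail c) (w + 1)).card ≤ j * (j + 1) ^ w :=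
      (Nat.mul_le_mul h0 h3).trans (by rw [one_mul])
    have h9 : ∑ m ∈ Finset.range w, (Beta (c 0) (m + 1)).card * (Conf (Fin.tail c) (w - m)).card ≤
        j * ∑ m ∈ Finset.range w, (j + 1 + 1) ^ m * (j + 1) ^ (w - 1 - m) := by
      rw [Finset.mul_sum]
      refine Finset.sum_le_sum fun m hm => ?_
      rw [Finset.mem_range] at hm
      rw [mul_left_comm j]
      refine Nat.mul_le_mul ((card_Beta_le _ _).trans ((card_Ps_le_two_pow m).trans
        (Nat.pow_le_pow_left (by omega) m))) ?_
      rw [show w - m = w - 1 - m + 1 by omega]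
      exact ih (Fin.tail c) _
    calc _ ≤ j * ∑ m ∈ Finset.range w, (j + 1 + 1) ^ m * (j + 1) ^ (w - 1 - m) + (j + 2) ^ w + j * (j + 1) ^ w := by
          omega
      _ = j * (j + 2) ^ w + (j + 2) ^ w := by rw [← h7]; ring
      _ = _ := by ring

end Cfsg.Agent.SymChar
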